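import Cfsg.Agent.Lib.C2.A3p4

/-!
# S1170: the direct decomposition (part A3) (see notes/C2.md)
-/

set_option autoImplicit false
set_option linter.unusedSectionVars false
set_option linter.unusedVariables false

namespace Cfsg.Agent.C2

open Subgroup Cfsg.Agent.H6 Cfsg.Agent.FT Cfsg.Agent.BD.P1 Cfsg.Agent.G75 Cfsg.Agent.G74
open Cfsg.Agent.St (Od)
open scoped commutatorElement MatrixGroups Matrix

universe u

variable {G : Type*} [Group G] [Finite G] {T : Set G}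
variable {A B C D E H K L M N P P' Q R S U V W X Y W₁ W₂ : Subgroup G}
variable {a b c d e g h n r s t v w x y z : G}

variable {F : Type} [Field F] [Fintype F] [CharP F 2] {φ φ₁ φ₂ : G → SL(2, F)}
  {ψ ψ₁ ψ₂ : G → Fin 2 → F}

/-- Neighbours. -/
structure Nb (A Q R : Subgroup G) : Prop where
  e1 : Ess ⊤ A Q
  e2 : Ess ⊤ A R
  nle : ¬ VV A Q ≤ R

/-- The set of factors. -/
def DS (T : Set G) (A : Subgroup G) : Set (Subgroup G) :=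
  {D | ∃ Q R, Nb A Q R ∧ D = WW T A Q ⊔ WW T A R}

theorem Nb.symm (hm : Min T A) (h : Nb A Q R) : Nb A R Q :=
  ⟨h.e2, h.e1, fun a => h.nle (h.e2.edge_symm hm.toSB h.e1 a)⟩
theorem Nb.adj (hm : Min T A) (h : Nb A Q R) :
    ∃ (F : Type) (_ : Field F) (_ : Fintype F) (_ : CharP F 2)
      (φ₁ φ₂ : G → SL(2, F)) (ψ₁ ψ₂ : G → Fin 2 → F), Adj F T A Q R φ₁ φ₂ ψ₁ ψ₂ := by
  obtain ⟨F, _, _, _, φ₁, φ₂, ψ₁, ψ₂, a⟩ := h.e1.edge hm.toSB h.e2 h.nle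
  exact ⟨F, _, ‹_›, ‹_›, φ₁, φ₂, ψ₁, ψ₂, a.e1, a.e2, a.n1, a.n2, a.s1, a.s2, a.z1, a.z2,
    fun P hP b => a.uniq hm hP b, fun P hP b => a.symm.uniq hm hP b⟩
theorem Nb.uniq (hm : Min T A) (h : Nb A Q R) (h' : Nb A Q P) : P = R := by
  obtain ⟨F, _, _, _, φ₁, φ₂, ψ₁, ψ₂, a⟩ := h.adj hm
  exact by_contra fun e => h'.nle (a.u1 P h'.e2 e)
theorem Min.nb (hm : Min T A) (hQ : Ess ⊤ A Q) : ∃ R, Nb A Q R := by
  obtain ⟨F, _, _, _, R, φ₁, φ₂, ψ₁, ψ₂, a⟩ := hm.adj hQ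
  exact ⟨R, a.e1, a.e2, a.symm.to0.nle hm.toSB⟩
theorem Nb.cjj (h : Nb A Q R) (hg : g ∈ 𝒩(A)) : Nb A (cj g Q) (cj g R) :=
  ⟨h.e1.cj_top hg, h.e2.cj_top hg, fun a => h.nle (by
    rwa [← cj_eq_self_iff.2 hg, ← cj_VV, cj_le_cj_iff] at a)⟩
theorem Nb.sep (hm : Min T A) (h : Nb A Q R) (h' : Nb A P P')
    (hne : WW T A P ⊔ WW T A P' ≠ WW T A Q ⊔ WW T A R) : P ≠ Q ∧ P ≠ R := by
  constructor
  · rintro rfl
    exact hne (by rw [h.uniq hm h'])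
  · rintro rfl
    exact hne (by rw [(h.symm hm).uniq hm h', sup_comm])
theorem DS_le (hm : Min T A) (hD : D ∈ DS T A) : D ≤ A := by
  obtain ⟨Q, R, h, rfl⟩ := hD
  exact sup_le (h.e1.WW_le_A hm.toSB) (h.e2.WW_le_A hm.toSB)
theorem DS_cj (hm : Min T A) (hg : g ∈ 𝒩(A)) (hD : D ∈ DS T A) : cj g D ∈ DS T A := by
  obtain ⟨Q, R, h, rfl⟩ := hD
  exact ⟨_, _, h.cjj hg, by rw [cj_sup, cj_WW hm.sc, cj_WW hm.sc, cj_eq_self_iff.2 hg]⟩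
theorem Nb.other (hm : Min T A) (h : Nb A Q R) (hD : D ∈ DS T A)
    (hne : D ≠ WW T A Q ⊔ WW T A R) : D ≤ Q ∧ Od (XX T Q) ≤ 𝒞(D) := by
  obtain ⟨P, P', h', rfl⟩ := hD
  obtain ⟨F, _, _, _, φ₁, φ₂, ψ₁, ψ₂, a⟩ := h'.adj hm
  obtain ⟨b, c⟩ := h'.sep hm h hne.symm
  exact ⟨(sup_le_sup WW_le WW_le).trans (a.D_le hm h.e1 b c), a.claim hm h.e1 b c⟩
theorem Nb.Co_le (hm : Min T A) (h : Nb A Q R) :
    Co (DS T A) (WW T A Q ⊔ WW T A R) ≤ Q :=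
  sSup_le fun _ hD => (h.other hm hD.1 hD.2).1
theorem Nb.Od_le (hm : Min T A) (h : Nb A Q R) :
    Od (XX T Q) ≤ 𝒞(Co (DS T A) (WW T A Q ⊔ WW T A R)) :=
  cent_comm.1 (sSup_le fun _ hD => cent_comm.1 (h.other hm hD.1 hD.2).2)

theorem Min.sSup_eq (hm : Min T A) {𝓔 : Set (Subgroup G)} (h1 : 𝓔 ⊆ DS T A) (h2 : D ∈ 𝓔)
    (h3 : ∀ g ∈ 𝒩(A), ∀ D ∈ 𝓔, cj g D ∈ 𝓔) : sSup 𝓔 = A := by
  have hs := hm.toSB
  have hB : sSup 𝓔 ≤ A := sSup_le fun _ a => DS_le hm (h1 a)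
  refine (hm.min _ hB (hs.sa_of hB (fun g hg => mem_normalizer_of_cj_le (cj_le_iff_le_cj.2
    (sSup_le fun D a => cj_le_iff_le_cj.1 (le_sSup (h3 g hg D a))))) fun P hP => ?_)).resolve_left
      fun e => ?_
  · obtain ⟨P', h⟩ := hm.nb hP
    by_cases hD : WW T A P ⊔ WW T A P' ∈ 𝓔
    · refine le_norm_of_commutator_le ((commutator_mono inf_le_right le_rfl).trans
        (le_trans ?_ (le_inf (le_sup_left.trans (le_sSup hD)) (hP.WW_le_Q hs))))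
      exact St.comm_Od_le (hP.two hs) XX_le (XX_le.trans (norm_WW hm.sc)) (hP.comm_Od hs)
        (commutator_mono le_rfl (St.Od_le _))
    · refine le_trans (le_trans ?_ (cent_le_cent inf_le_left)) cent_le_norm
      exact cent_comm.1 (sSup_le fun D a => cent_comm.1 (h.other hm (h1 a) fun e => hD (e ▸ a)).2)
  · obtain ⟨Q, R, h, rfl⟩ := h1 h2
    obtain ⟨F, _, _, _, φ₁, φ₂, ψ₁, ψ₂, a⟩ := h.adj hm
    exact h.nle ((a.V_eq hm).le.trans (sup_le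
      ((le_sup_left.trans ((le_sSup h2).trans e.le)).trans bot_le) h.e2.Zo_le))

theorem Min.eq_one (hm : Min T A) (hx : x ∈ Zo A) (h : ∀ P, Ess ⊤ A P → x ∈ 𝒞(XX T P)) :
    x = 1 := by
  set Y := Zo A ⊓ ⨅ (P : Subgroup G) (_ : Ess ⊤ A P), 𝒞(XX T P) with hY
  have mem : ∀ y, y ∈ Y ↔ y ∈ Zo A ∧ ∀ P, Ess ⊤ A P → y ∈ 𝒞(XX T P) := fun y => by
    simp only [hY, mem_inf, mem_iInf]
  have hB : Y ≤ A := inf_le_left.trans (Zo_le.trans inf_le_left)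
  have := (hm.min _ hB (hm.toSB.sa_of hB (fun g hg => mem_normalizer_of_conj_mem fun y hy =>
    (mem _).2 ⟨by
      have := conj_mem_cj (g := g) ((mem _).1 hy).1
      rwa [cj_Zo, cj_eq_self_iff.2 hg] at this, fun P hP => by
      have := conj_mem_cj (g := g) (((mem _).1 hy).2 _ (hP.cj_top (inv_mem hg)))
      rwa [cj_centralizer, cj_XX hm.sc, cj_cj_inv] at this⟩) fun P hP =>
    (St.Od_le _).trans ((cent_comm.1 fun y (hy : y ∈ Y ⊓ P) => ((mem _).1 hy.1).2 P hP).trans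
      cent_le_norm))).resolve_right fun e => hm.nab (e.ge.trans (inf_le_left.trans Zo_cent))
  exact mem_bot.1 (this ▸ (mem x).2 ⟨hx, h⟩)

theorem Nb.sup_Co (hm : Min T A) (h : Nb A Q R) :
    WW T A Q ⊔ WW T A R ⊔ Co (DS T A) (WW T A Q ⊔ WW T A R) = A := by
  have hD : WW T A Q ⊔ WW T A R ∈ DS T A := ⟨Q, R, h, rfl⟩
  refine le_antisymm (sup_le (DS_le hm hD) ((h.Co_le hm).trans h.e1.le))
    ((hm.sSup_eq le_rfl hD fun g hg D a => DS_cj hm hg a).ge.trans (sSup_le fun D a => ?_))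
  by_cases e : D = WW T A Q ⊔ WW T A R
  · exact e.le.trans le_sup_left
  · exact le_sup_of_le_right (le_sSup ⟨a, e⟩)
theorem Nb.Co_le' (hm : Min T A) (h : Nb A Q R) : Co (DS T A) (WW T A Q ⊔ WW T A R) ≤ R := by
  rw [sup_comm]; exact (h.symm hm).Co_le hm
theorem Nb.Co_cent (hm : Min T A) (h : Nb A Q R) :
    Co (DS T A) (WW T A Q ⊔ WW T A R) ≤ 𝒞(WW T A Q ⊔ WW T A R) := by
  rw [FT.cent_sup]
  exact le_inf ((h.Co_le hm).trans ((h.e1.le_cent_VV hm.toSB).trans (cent_le_cent WW_le)))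
    ((h.Co_le' hm).trans ((h.e2.le_cent_VV hm.toSB).trans (cent_le_cent WW_le)))
theorem Nb.W_sup (hm : Min T A) (h : Nb A Q R) :
    WW T A Q ⊔ Co (DS T A) (WW T A Q ⊔ WW T A R) = Q := by
  obtain ⟨F, _, _, _, φ₁, φ₂, ψ₁, ψ₂, a⟩ := h.adj hm
  refine le_antisymm (sup_le (h.e1.WW_le_Q hm.toSB) (h.Co_le hm)) fun y hy => ?_
  obtain ⟨d, hd, e, he, rfl⟩ := (H1.mem_sup_of_le_normalizer ((h.Co_cent hm).trans
    cent_le_norm)).1 ((h.sup_Co hm).ge (h.e1.le hy))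
  exact mul_mem (mem_sup_left (a.D_inf_Q hm ▸
    ⟨hd, (Q.mul_mem_cancel_right (h.Co_le hm he)).1 hy⟩)) (mem_sup_right he)
theorem Adj.U_one (hm : Min T A) (h : Adj F T A Q R φ₁ φ₂ ψ₁ ψ₂)
    (hx : x ∈ ⁅WW T A Q, WW T A R⁆) (h1 : x ∈ 𝒞(XX T Q)) (h2 : x ∈ 𝒞(XX T R)) : x = 1 :=
  hm.eq_one (h.U_le hm hx) fun P hP => by
    by_cases a : P = Q
    · exact a ▸ h1
    by_cases b : P = R
    · exact b ▸ h2
    exact h.U_cent hm hP a b hx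
theorem Nb.mem_cent_X (hm : Min T A) (h : Nb A Q R) (h1 : x ∈ 𝒞(A))
    (h2 : x ∈ Co (DS T A) (WW T A Q ⊔ WW T A R)) : x ∈ 𝒞(XX T Q) :=
  cent_le_cent (hm.toSA.nc_le_Od (h.e1.norm hm.toSB)) (by
    rw [FT.cent_sup]; exact ⟨cent_comm.1 (h.Od_le hm) h2, h1⟩)

theorem Nb.isFac (hm : Min T A) (h : Nb A Q R) :
    IsFac T A (WW T A Q ⊔ WW T A R) (Co (DS T A) (WW T A Q ⊔ WW T A R)) := by
  have hs := hm.toSB
  obtain ⟨F, _, _, _, φ₁, φ₂, ψ₁, ψ₂, a⟩ := h.adj hm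
  have h' := h.symm hm
  have e1 := h.W_sup hm
  have e2 : WW T A R ⊔ Co (DS T A) (WW T A Q ⊔ WW T A R) = R := by
    rw [sup_comm (WW T A Q)]; exact h'.W_sup hm
  have u2 : WW T A R ⊓ 𝒞(A) = ⁅WW T A Q, WW T A R⁆ := by
    rw [a.symm.W_inf_Z hm, Subgroup.commutator_comm]
  have u : WW T A Q ⊓ WW T A R = ⁅WW T A Q, WW T A R⁆ :=
    le_antisymm ((inf_le_inf_left _ (h.e2.WW_le_Q hs)).trans (a.W_inf_R hm).le)
      (le_inf ((a.W_inf_R hm).ge.trans inf_le_left) (u2.ge.trans inf_le_left))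
  refine ⟨F, _, ‹_›, ‹_›, _, _, φ₁, φ₂, ψ₁, ψ₂, rfl, ⟨h.sup_Co hm, eq_bot_iff.2 fun x hx => ?_,
    h.Co_cent hm, by rw [e1, a.cent_W hm], by rw [e2, a.symm.cent_W hm], by rw [e1]; exact a.nW,
    by rw [e2]; exact a.symm.nW, by rw [e1]; exact h.Od_le hm,
    by rw [e2, sup_comm (WW T A Q)]; exact h'.Od_le hm, u, by rw [u, a.W_inf_Z hm],
    by rw [u, u2], fun x hx h2 => ?_, eq_bot_iff.2 fun x hx => ?_⟩, fun P hP hE => ?_⟩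
  · have x1 : x ∈ ⁅WW T A Q, WW T A R⁆ := a.D_inf hm ▸ ⟨hx.1, h.Co_le hm hx.2, h.Co_le' hm hx.2⟩
    have x2 := Zo_cent (a.U_le hm x1)
    exact a.U_one hm x1 (h.mem_cent_X hm x2 hx.2) (h'.mem_cent_X hm x2 (by
      rw [sup_comm]; exact hx.2))
  · exact (a.inv hm (DS_le hm ⟨Q, R, h, rfl⟩ hx) h2).imp (fun b => a.D_inf_Q hm ▸ ⟨hx, b⟩)
      fun b => a.symm.D_inf_Q hm ▸ ⟨sup_comm (WW T A Q) (WW T A R) ▸ hx, b⟩
  · rw [e1, e2] at hx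
    exact a.U_one hm (a.W_inf_Z hm ▸ ⟨hx.1.1, cent_le_cent a.n1.le hx.1.2⟩) hx.1.2 hx.2
  · rw [e1, e2]
    by_contra hc
    obtain ⟨b, c⟩ := not_or.1 hc
    exact hP.lt.not_ge ((h.sup_Co hm).ge.trans
      (sup_le ((sup_le_sup WW_le WW_le).trans (a.D_le hm hP b c)) hE))

theorem Min.dec (h : Min T A) : ∃ 𝓓, Dec T A 𝓓 := by
  obtain ⟨Q₀, hQ₀⟩ : ∃ Q, Ess ⊤ A Q := by
    by_contra hE
    exact h.ne (eq_bot_iff.2 (h.sup_VV.ge.trans (iSup₂_le fun Q hQ => (hE ⟨Q, hQ⟩).elim)))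
  obtain ⟨R₀, h₀⟩ := h.nb hQ₀
  refine ⟨DS T A, h.toSB, h.sSup_eq le_rfl ⟨_, _, h₀, rfl⟩ fun g hg D a => DS_cj h hg a, ?_,
    fun g hg D a => DS_cj h hg a, fun D hD D' hD' => ?_, fun Q hQ => ?_⟩
  · rintro _ ⟨Q, R, a, rfl⟩
    exact a.isFac h
  · by_contra hc
    obtain ⟨Q, R, a, rfl⟩ := hD'
    have := h.sSup_eq (𝓔 := {E | ∃ g ∈ 𝒩(A), cj g D = E}) (D := D)
      (by rintro _ ⟨g, hg, rfl⟩; exact DS_cj h hg hD) ⟨1, one_mem _, cj_one _⟩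
      (by rintro g hg _ ⟨x, hx, rfl⟩; exact ⟨g * x, mul_mem hg hx, (cj_cj _ _ _).symm⟩)
    refine a.e1.lt.not_ge (this.ge.trans (sSup_le ?_))
    rintro _ ⟨g, hg, rfl⟩
    exact (a.other h (DS_cj h hg hD) fun e => hc ⟨g, hg, e⟩).1
  · obtain ⟨R, a⟩ := h.nb hQ
    exact ⟨_, ⟨Q, R, a, rfl⟩, a.Co_le h⟩

end Cfsg.Agent.C2
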