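import Cfsg.Agent.Lib.C2.Mod

/-!
# S1170: adjacent essential subgroups (part A3 (0)-(3)) (see notes/C2.md)
-/

set_option autoImplicit false
set_option linter.unusedSectionVars false
set_option linter.unusedVariables false

namespace Cfsg.Agent.C2

open Subgroup Cfsg.Agent.H6 Cfsg.Agent.FT Cfsg.Agent.BD.P1 Cfsg.Agent.G75 Cfsg.Agent.G74
open Cfsg.Agent.St (Od)
open scoped commutatorElement MatrixGroups Matrix

universe u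

variable {G : Type*} [Group G] [Finite G] {T : Set G}
variable {A B C D E H K L M N P P' Q R S U V W X Y W₁ W₂ : Subgroup G}
variable {a b c d e g h n r s t v w x y z : G}
variable {F : Type} [Field F] [Fintype F] [CharP F 2] {φ φ₁ φ₂ : G → SL(2, F)}
  {ψ ψ₁ ψ₂ : G → Fin 2 → F}

/-- `W_Q = [V_Q, X_Q]`. -/
def WW (T : Set G) (A Q : Subgroup G) : Subgroup G := ⁅VV A Q, XX T Q⁆

/-- A pair of adjacent essential subgroups. -/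
structure Adj (F : Type) [Field F] (T : Set G) (A Q R : Subgroup G)
    (φ₁ φ₂ : G → SL(2, F)) (ψ₁ ψ₂ : G → Fin 2 → F) : Prop where
  e1 : Ess ⊤ A Q
  e2 : Ess ⊤ A R
  n1 : Nm F (XX T Q) (VV A Q) A φ₁ ψ₁
  n2 : Nm F (XX T R) (VV A R) A φ₂ ψ₂
  s1 : VV A R ⊔ Q = A
  s2 : VV A Q ⊔ R = A
  z1 : VV A Q ⊓ R = Zo A
  z2 : VV A R ⊓ Q = Zo A
  u1 : ∀ P, Ess ⊤ A P → P ≠ R → VV A Q ≤ P
  u2 : ∀ P, Ess ⊤ A P → P ≠ Q → VV A R ≤ P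

theorem Adj.symm (h : Adj F T A Q R φ₁ φ₂ ψ₁ ψ₂) : Adj F T A R Q φ₂ φ₁ ψ₂ ψ₁ :=
  ⟨h.e2, h.e1, h.n2, h.n1, h.s2, h.s1, h.z2, h.z1, h.u2, h.u1⟩

theorem Min.Zo_ne (h : Min T A) : Zo A ≠ ⊥ := by
  have h1 : (A ⊓ 𝒞(A) : Subgroup G) ≠ ⊥ := Zc_ne_bot (nil_of_pgroup h.toSA.two) h.ne
  refine omega_ne_bot Nat.prime_two ?_
  obtain ⟨k, hk⟩ := (h.toSA.two.to_le (inf_le_left : A ⊓ 𝒞(A) ≤ A)).exists_card_eq
  rcases k with _ | k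
  · exact absurd (card_eq_one.1 hk) h1
  · rw [hk]; exact dvd_pow_self 2 k.succ_ne_zero
theorem Zo_cent : Zo A ≤ 𝒞(A) := Zo_le.trans inf_le_right
theorem Ess.Zo_le (hQ : Ess H A Q) : Zo A ≤ Q := C2.Zo_le.trans (hQ.Z_le.trans inf_le_left)

/-- (0): `A` is generated by the `V_Q`. -/
theorem Min.sup_VV (h : Min T A) : (⨆ (Q : Subgroup G) (_ : Ess ⊤ A Q), VV A Q) = A := by
  set B := ⨆ (Q : Subgroup G) (_ : Ess ⊤ A Q), VV A Q with hB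
  have h1 : B ≤ A := iSup₂_le fun Q hQ => hQ.VV_le_A h.toSB
  have h2 : ∀ Q, Ess ⊤ A Q → VV A Q ≤ B := fun Q hQ => le_iSup₂_of_le Q hQ le_rfl
  have h3 := h.toSB.sa_of (B := Zo A ⊔ B) (sup_le (Zo_le.trans inf_le_left) h1)
    (H1.le_normalizer_sup (fun g hg => cj_eq_self_iff.1 (by rw [cj_Zo, cj_eq_self_iff.2 hg]))
      fun g hg => mem_normalizer_of_cj_le (cj_le_iff_le_cj.2 (iSup₂_le fun Q hQ =>
        cj_le_iff_le_cj.1 (by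
          rw [cj_VV, cj_eq_self_iff.2 hg]; exact h2 _ (hQ.cj_top hg)))))
    fun Q hQ => le_norm_of_commutator_le ((commutator_mono inf_le_right le_rfl).trans
      ((hQ.comm_Od h.toSB).trans (le_inf ((h2 Q hQ).trans le_sup_right)
        ((hQ.VV_le h.toSB).trans inf_le_left))))
  rcases h.min _ (sup_le (Zo_le.trans inf_le_left) h1) h3 with e | e
  · exact absurd (eq_bot_iff.2 (le_sup_left.trans e.le)) h.Zo_ne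
  by_cases hE : ∃ Q, Ess ⊤ A Q
  · obtain ⟨Q, hQ⟩ := hE
    rwa [sup_eq_right.2 (Zo_le_VV.trans (h2 Q hQ))] at e
  · exact absurd (e.ge.trans (sup_le Zo_cent (iSup₂_le fun Q hQ => (hE ⟨Q, hQ⟩).elim))) h.nab
theorem Min.der_le (h : Min T A) : ⁅A, A⁆ ≤ Zo A := by
  refine (H1.le_commutatorStab_iff.1 (h.sup_VV.ge.trans (iSup₂_le fun Q hQ =>
    H1.le_commutatorStab_iff.2 ⟨(hQ.VV_le_A h.toSB).trans ((cent_comm.1 Zo_cent).trans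
      cent_le_norm), commutator_le.2 fun a ha v hv => ?_⟩))).2
  have hv' := hQ.VV_le_A h.toSB hv
  have := h.toSB.comm_mem ha hv'
  exact mem_Zo.2 ⟨this.1, this.2, by
    rw [← h.toSB.comm_sq_right ha hv', hQ.VV_sq h.toSB hv, commutatorElement_one_right]⟩
theorem Min.comm_X (h : Min T A) (hQ : Ess ⊤ A Q) : ⁅Q, XX T Q⁆ ≤ VV A Q :=
  h.toSA.comm_Nc (hQ.norm h.toSB) le_rfl norm_VV
    ((commutator_mono hQ.le le_rfl).trans (h.der_le.trans Zo_le_VV))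
theorem Min.sq_cent (h : Min T A) (hQ : Ess ⊤ A Q) (hy : y ∈ Q) : y * y ∈ 𝒞(XX T Q) :=
  mem_cent.2 fun x hx => by
    have h1 := h.comm_X hQ (commutator_mem_commutator hy hx)
    have e := mem_cent.1 (hQ.VV_le h.toSB h1).2 y hy
    rw [eq_comm, ← commutatorElement_eq_one_iff_mul_comm]
    calc ⁅y * y, x⁆ = y * ⁅y, x⁆ * y⁻¹ * ⁅y, x⁆ := by simp only [commutatorElement_def]; group
      _ = 1 := by rw [e, mul_inv_cancel_right, hQ.VV_sq h.toSB h1]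
theorem Min.der_cent (h : Min T A) (hQ : Ess ⊤ A Q) : ⁅Q, Q⁆ ≤ 𝒞(XX T Q) :=
  commutator_le.2 fun x hx y hy => by
    have e : ⁅x, y⁆ = (x * y) * (x * y) * ((y⁻¹ * x⁻¹ * y) * (y⁻¹ * x⁻¹ * y)) * (y⁻¹ * y⁻¹) := by
      simp only [commutatorElement_def]; group
    rw [e]
    exact mul_mem (mul_mem (h.sq_cent hQ (mul_mem hx hy))
      (h.sq_cent hQ (mul_mem (mul_mem (inv_mem hy) (inv_mem hx)) hy))) (h.sq_cent hQ (inv_mem hy))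

theorem Ess.mem_iff (h : SB T A) (hQ : Ess ⊤ A Q) (ha : a ∈ A) : a ∈ 𝒞(VV A Q) ↔ a ∈ Q :=
  ⟨fun e => hQ.cent_VV h ▸ ⟨ha, e⟩, fun e => hQ.le_cent_VV h e⟩
theorem Ess.edge_symm (h : SB T A) (hQ : Ess ⊤ A Q) (hR : Ess ⊤ A R) (h1 : VV A Q ≤ R) :
    VV A R ≤ Q := fun v hv => (hQ.mem_iff h (hR.VV_le_A h hv)).1
  (cent_comm.1 (h1.trans (hR.le_cent_VV h)) hv)

/-- An edge. -/
structure Adj0 (F : Type) [Field F] (T : Set G) (A Q R : Subgroup G)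
    (φ₁ φ₂ : G → SL(2, F)) (ψ₁ ψ₂ : G → Fin 2 → F) : Prop where
  e1 : Ess ⊤ A Q
  e2 : Ess ⊤ A R
  n1 : Nm F (XX T Q) (VV A Q) A φ₁ ψ₁
  n2 : Nm F (XX T R) (VV A R) A φ₂ ψ₂
  s1 : VV A R ⊔ Q = A
  s2 : VV A Q ⊔ R = A
  z1 : VV A Q ⊓ R = Zo A
  z2 : VV A R ⊓ Q = Zo A

theorem Adj0.symm (h : Adj0 F T A Q R φ₁ φ₂ ψ₁ ψ₂) : Adj0 F T A R Q φ₂ φ₁ ψ₂ ψ₁ :=
  ⟨h.e2, h.e1, h.n2, h.n1, h.s2, h.s1, h.z2, h.z1⟩
theorem Adj.to0 (h : Adj F T A Q R φ₁ φ₂ ψ₁ ψ₂) : Adj0 F T A Q R φ₁ φ₂ ψ₁ ψ₂ :=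
  ⟨h.e1, h.e2, h.n1, h.n2, h.s1, h.s2, h.z1, h.z2⟩

theorem Ess.half (h : SB T A) (hQ : Ess ⊤ A Q) (hR : Ess ⊤ A R) (h1 : ¬ VV A R ≤ Q)
    (h2 : R.relIndex (VV A Q) ≤ Q.relIndex (VV A R)) :
    VV A R ⊔ Q = A ∧ VV A Q ⊓ R = Zo A ∧ 𝒞(A).relIndex (VV A Q) = Q.relIndex A ∧
      R.relIndex (VV A Q) = Q.relIndex A ∧ Q.relIndex (VV A R) = Q.relIndex A := by
  have e : 𝒞(VV A R).relIndex (VV A Q) = R.relIndex (VV A Q) := by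
    rw [← inf_relIndex_right, ← inf_relIndex_right R]
    congr 1
    ext v
    exact and_congr_left fun hv => hR.mem_iff h (hQ.VV_le_A h hv)
  obtain ⟨a1, a2, a3⟩ := hQ.off h (hR.VV_le_A h) h1 (e ▸ h2)
  obtain ⟨w, hw, hw'⟩ := SetLike.not_le_iff_exists.1 h1
  have a4 : VV A Q ⊓ R = Zo A := le_antisymm (fun v hv => hQ.VV_inf h ▸ ⟨hv.1,
    a3 w (hR.VV_le_A h hw) hw' ⟨hv.1, cent_le_cent1 hw (hR.le_cent_VV h hv.2)⟩⟩)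
    (le_inf Zo_le_VV hR.Zo_le)
  refine ⟨a1, a4, a2, ?_, ?_⟩
  · rw [← a2, ← inf_relIndex_right, ← inf_relIndex_right 𝒞(A), inf_comm, a4, inf_comm,
      hQ.VV_inf h]
  · rw [← relIndex_sup_of_norm ((hR.VV_le_A h).trans (hQ.norm h)), sup_comm, a1]

theorem Ess.edge (h : SB T A) (hQ : Ess ⊤ A Q) (hR : Ess ⊤ A R) (h1 : ¬ VV A Q ≤ R) :
    ∃ (F : Type) (_ : Field F) (_ : Fintype F) (_ : CharP F 2)
      (φ₁ φ₂ : G → SL(2, F)) (ψ₁ ψ₂ : G → Fin 2 → F), Adj0 F T A Q R φ₁ φ₂ ψ₁ ψ₂ := by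
  have h2 : ¬ VV A R ≤ Q := fun a => h1 (hR.edge_symm h hQ a)
  have e : R.relIndex (VV A Q) = Q.relIndex (VV A R) := by
    rcases le_total (R.relIndex (VV A Q)) (Q.relIndex (VV A R)) with a | a
    · obtain ⟨-, -, -, b, c⟩ := hQ.half h hR h2 a
      rw [b, c]
    · obtain ⟨-, -, -, b, c⟩ := hR.half h hQ h1 a
      rw [b, c]
  obtain ⟨a1, a2, a3, a4, a5⟩ := hQ.half h hR h2 e.le
  obtain ⟨b1, b2, b3, b4, b5⟩ := hR.half h hQ h1 e.ge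
  obtain ⟨k, hk⟩ := h.toSA.two.exists_card_eq
  obtain ⟨n, -, hn⟩ := (Nat.dvd_prime_pow Nat.prime_two).1
    (hk ▸ relIndex_dvd_card Q A : Q.relIndex A ∣ 2 ^ k)
  have n0 : n ≠ 0 := fun a => hQ.lt.not_ge (relIndex_eq_one.1 (by rw [hn, a, pow_zero]))
  letI : Fintype (GaloisField 2 n) := Fintype.ofFinite _
  have c := (GaloisField.card 2 n n0).trans hn.symm
  obtain ⟨φ₁, ψ₁, n1⟩ := hQ.nm h a3.le (GaloisField 2 n) c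
  obtain ⟨φ₂, ψ₂, n2⟩ := hR.nm h b3.le (GaloisField 2 n) (c.trans (a4.symm.trans b5))
  exact ⟨_, _, inferInstance, inferInstance, φ₁, φ₂, ψ₁, ψ₂, hQ, hR, n1, n2, a1, b1, a2, b2⟩

theorem Adj0.decQ (hs : SB T A) (h : Adj0 F T A Q R φ₁ φ₂ ψ₁ ψ₂) (hy : y ∈ Q) :
    ∃ v ∈ VV A Q, ∃ c ∈ Q ⊓ R, y = v * c := by
  obtain ⟨v, hv, c, hc, e⟩ := (H1.mem_sup_of_le_normalizer' ((h.e1.VV_le_A hs).trans
    (h.e2.norm hs))).1 (h.s2.ge (h.e1.le hy))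
  exact ⟨v, hv, c, ⟨(Q.mul_mem_cancel_left (h.e1.VV_le hs hv).1).1 (e ▸ hy), hc⟩, e.symm⟩
theorem Adj0.dec (hs : SB T A) (h : Adj0 F T A Q R φ₁ φ₂ ψ₁ ψ₂) (ha : a ∈ A) :
    ∃ w ∈ VV A R, ∃ v ∈ VV A Q, ∃ c ∈ Q ⊓ R, a = w * v * c := by
  obtain ⟨w, hw, y, hy, e⟩ := (H1.mem_sup_of_le_normalizer' ((h.e2.VV_le_A hs).trans
    (h.e1.norm hs))).1 (h.s1.ge ha)
  obtain ⟨v, hv, c, hc, rfl⟩ := h.decQ hs hy
  exact ⟨w, hw, v, hv, c, hc, by rw [← e, mul_assoc]⟩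
theorem Adj0.nm (hs : SB T A) (h : Adj0 F T A Q R φ₁ φ₂ ψ₁ ψ₂) (ha : a ∈ A) (h1 : a ∉ Q)
    (hv : v ∈ VV A Q) (h2 : v ∉ R) : ⁅a, v⁆ ∉ 𝒞(XX T Q) :=
  h.n1.comm_not_mem ha (fun e => h1 ((h.e1.mem_iff hs ha).1 e)) hv
    fun e => h2 (h.e2.Zo_le (h.e1.VV_inf hs ▸ ⟨hv, e⟩))
theorem Adj0.inv (hm : Min T A) (h : Adj0 F T A Q R φ₁ φ₂ ψ₁ ψ₂) (ha : a ∈ A) (h2 : a * a = 1) :
    a ∈ Q ∨ a ∈ R := by
  have hs := hm.toSB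
  by_contra hc0
  obtain ⟨h3, h4⟩ := not_or.1 hc0
  obtain ⟨w, hw, v, hv, c, hc, rfl⟩ := h.dec hs ha
  refine h.nm hs (h.e2.VV_le_A hs hw)
    (fun e => h3 (mul_mem (mul_mem e (h.e1.VV_le hs hv).1) hc.1)) hv
    (fun e => h4 (mul_mem (mul_mem (h.e2.VV_le hs hw).1 e) hc.2)) ?_
  have c1 := mem_cent.1 (h.e1.VV_le hs hv).2 c hc.1
  have c2 := mem_cent.1 (h.e2.VV_le hs hw).2 c hc.2
  have e : ⁅w, v⁆ * (c * c) = 1 := by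
    rw [commutatorElement_def, inv_eq_of_mul_eq_one_right (h.e1.VV_sq hs hv),
      inv_eq_of_mul_eq_one_right (h.e2.VV_sq hs hw), ← h2]
    calc _ = w * v * (w * (v * c)) * c := by simp only [mul_assoc]
      _ = _ := by rw [← c1, ← mul_assoc w c, ← c2]; simp only [mul_assoc]
  rw [eq_inv_of_mul_eq_one_left e]
  exact inv_mem (hm.sq_cent h.e1 hc.1)
theorem Adj0.nle (hs : SB T A) (h : Adj0 F T A Q R φ₁ φ₂ ψ₁ ψ₂) : ¬ VV A R ≤ Q := fun a =>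
  h.e1.lt.not_ge (h.s1.ge.trans (sup_le a le_rfl))
theorem Adj0.uniq_le {F' : Type} [Field F'] [Fintype F'] [CharP F' 2] {φ₃ φ₄ : G → SL(2, F')}
    {ψ₃ ψ₄ : G → Fin 2 → F'} (hm : Min T A) (h : Adj0 F T A Q R φ₁ φ₂ ψ₁ ψ₂)
    (h' : Adj0 F' T A Q P φ₃ φ₄ ψ₃ ψ₄) : R ≤ P := by
  have hs := hm.toSB
  have h1 : VV A P ≤ R := (SubgroupClass.subset_union.1 fun v hv =>
    h.inv hm (h'.e2.VV_le_A hs hv) (h'.e2.VV_sq hs hv)).resolve_left (h'.nle hs)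
  have h2 : VV A R ≤ P := h'.e2.edge_symm hs h.e2 h1
  intro y hy
  obtain ⟨w0, hw0, c, hc, rfl⟩ := h.symm.decQ hs hy
  refine mul_mem (h2 hw0) (by_contra fun hcP => ?_)
  obtain ⟨v', hv', c', hc', e1⟩ := h'.decQ hs hc.2
  obtain ⟨w, hw, hwQ⟩ := SetLike.not_le_iff_exists.1 (h.nle hs)
  obtain ⟨w', hw', c'', hc'', e2⟩ := h'.symm.decQ hs (h2 hw)
  refine h'.symm.nm hs (h'.e1.VV_le_A hs hv') (fun e => hcP (e1 ▸ mul_mem e hc'.2)) hw'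
    (fun e => hwQ (e2 ▸ mul_mem e hc''.2)) ?_
  have c1 := mem_cent.1 (h.e1.VV_le hs hv').2 c'' hc''.2
  have c2 := mem_cent.1 (h.e2.VV_le hs hw).2 c hc.1
  have vv := h.e1.VV_sq hs hv'
  have e3 : c' = v' * c := by rw [e1, ← mul_assoc, vv, one_mul]
  have e : ⁅v', w'⁆ = ⁅c', w⁆ := by
    have a1 : ⁅c', w⁆ = ⁅v', w⁆ := by
      rw [e3]
      calc ⁅v' * c, w⁆ = v' * (c * w) * c⁻¹ * v'⁻¹ * w⁻¹ := by
            simp only [commutatorElement_def]; group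
        _ = _ := by rw [c2]; simp only [commutatorElement_def]; group
    rw [a1, e2]
    calc ⁅v', w'⁆ = v' * w' * v'⁻¹ * (v' * c'') * v'⁻¹ * c''⁻¹ * w'⁻¹ := by
          rw [← c1]; simp only [commutatorElement_def]
          calc _ = v' * w' * v'⁻¹ * w'⁻¹ := rfl
            _ = _ := by group
      _ = _ := by simp only [commutatorElement_def]; group
  rw [e]
  exact hm.der_cent h'.e2 (commutator_mem_commutator hc'.2 (h2 hw))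
theorem Adj0.uniq (hm : Min T A) (h : Adj0 F T A Q R φ₁ φ₂ ψ₁ ψ₂) (hP : Ess ⊤ A P) (h1 : P ≠ R) :
    VV A Q ≤ P := by
  by_contra h2
  obtain ⟨F', _, _, _, _, _, _, _, h'⟩ := h.e1.edge hm.toSB hP h2
  exact h1 (le_antisymm (h'.uniq_le hm h) (h.uniq_le hm h'))

/-- (1)-(3): every essential subgroup has a unique neighbour. -/
theorem Min.adj (h : Min T A) (hQ : Ess ⊤ A Q) :
    ∃ (F : Type) (_ : Field F) (_ : Fintype F) (_ : CharP F 2) (R : Subgroup G)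
      (φ₁ φ₂ : G → SL(2, F)) (ψ₁ ψ₂ : G → Fin 2 → F), Adj F T A Q R φ₁ φ₂ ψ₁ ψ₂ := by
  obtain ⟨R, hR, h1⟩ : ∃ R, Ess ⊤ A R ∧ ¬ VV A Q ≤ R := by
    by_contra hc
    push Not at hc
    exact hQ.lt.not_ge (h.sup_VV.ge.trans (iSup₂_le fun R hR => hQ.edge_symm h.toSB hR (hc R hR)))
  obtain ⟨F, _, _, _, φ₁, φ₂, ψ₁, ψ₂, a⟩ := hQ.edge h.toSB hR h1
  exact ⟨F, _, ‹_›, ‹_›, R, φ₁, φ₂, ψ₁, ψ₂, a.e1, a.e2, a.n1, a.n2, a.s1, a.s2, a.z1, a.z2,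
    fun P hP b => a.uniq h hP b, fun P hP b => a.symm.uniq h hP b⟩
theorem Adj.ne (hm : Min T A) (h : Adj F T A Q R φ₁ φ₂ ψ₁ ψ₂) : Q ≠ R := fun e =>
  h.to0.nle hm.toSB (e ▸ (h.e1.VV_le hm.toSB).trans inf_le_left)
/-- (2): the involutions of `A`. -/
theorem Adj.inv (hm : Min T A) (h : Adj F T A Q R φ₁ φ₂ ψ₁ ψ₂) (ha : a ∈ A) (h2 : a * a = 1) :
    a ∈ Q ∨ a ∈ R := h.to0.inv hm ha h2
/-- (4): the structure of `D = W_Q W_R`. -/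
theorem Adj.nW (h : Adj F T A Q R φ₁ φ₂ ψ₁ ψ₂) : Nm F (XX T Q) (WW T A Q) A φ₁ ψ₁ := h.n1.restr
theorem WW_le : WW T A Q ≤ VV A Q := commutator_le_left (XX_le.trans norm_VV)
theorem norm_WW (h : SC T) : 𝒩(Q) ≤ 𝒩(WW T A Q) := H1.le_normalizer_commutator norm_VV (norm_XX h)
theorem cj_WW (h : SC T) (g : G) (A Q : Subgroup G) :
    cj g (WW T A Q) = WW T (cj g A) (cj g Q) := by rw [WW, WW, cj_commutator, cj_VV, cj_XX h]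
theorem Ess.WW_le_Q (h : SB T A) (hQ : Ess ⊤ A Q) : WW T A Q ≤ Q :=
  WW_le.trans ((hQ.VV_le h).trans inf_le_left)
theorem Ess.WW_le_A (h : SB T A) (hQ : Ess ⊤ A Q) : WW T A Q ≤ A := WW_le.trans (hQ.VV_le_A h)
theorem Ess.norm_WW (h : SB T A) (hQ : Ess ⊤ A Q) : A ≤ 𝒩(WW T A Q) :=
  (hQ.norm h).trans (C2.norm_WW h.sc)
theorem Adj.V_eq (hm : Min T A) (h : Adj F T A Q R φ₁ φ₂ ψ₁ ψ₂) :
    VV A Q = WW T A Q ⊔ Zo A :=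
  le_antisymm (h.n1.le_restr.trans (sup_le_sup_left ((inf_le_inf_left _
    (cent_le_cent h.n1.le)).trans (h.e1.VV_inf hm.toSB).le) _)) (sup_le WW_le Zo_le_VV)
theorem Adj.U_le (hm : Min T A) (h : Adj F T A Q R φ₁ φ₂ ψ₁ ψ₂) :
    ⁅WW T A Q, WW T A R⁆ ≤ Zo A :=
  (commutator_mono (h.e1.WW_le_A hm.toSB) (h.e2.WW_le_A hm.toSB)).trans hm.der_le
theorem Adj.U_eq (hm : Min T A) (h : Adj F T A Q R φ₁ φ₂ ψ₁ ψ₂) :
    ⁅VV A Q, A⁆ = ⁅WW T A Q, WW T A R⁆ := by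
  have hs := hm.toSB
  have n : A ≤ 𝒩(⁅WW T A Q, WW T A R⁆) :=
    (cent_comm.1 ((h.U_le hm).trans Zo_cent)).trans cent_le_norm
  have z : ∀ K ≤ A, ⁅K, Zo A⁆ ≤ ⁅WW T A Q, WW T A R⁆ := fun K hK =>
    (FT.commutator_eq_bot_iff.2 (hK.trans (cent_comm.1 Zo_cent))).le.trans bot_le
  have zA : Zo A ≤ A := Zo_le.trans inf_le_left
  refine le_antisymm ?_ (commutator_mono WW_le (h.e2.WW_le_A hs))
  refine (commutator_mono le_rfl h.s1.ge).trans (H1.commutator_sup_le_of_le_normalizer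
    ((h.e2.VV_le_A hs).trans n) (h.e1.le.trans n) ?_
    ((FT.commutator_eq_bot_iff.2 ((h.e1.VV_le hs).trans inf_le_right)).le.trans bot_le))
  rw [h.symm.V_eq hm]
  refine H1.commutator_sup_le_of_le_normalizer ((h.e2.WW_le_A hs).trans n) (zA.trans n) ?_
    (z _ (h.e1.VV_le_A hs))
  rw [Subgroup.commutator_comm, h.V_eq hm]
  exact H1.commutator_sup_le_of_le_normalizer ((h.e1.WW_le_A hs).trans n) (zA.trans n)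
    (Subgroup.commutator_comm _ _).le (z _ (h.e2.WW_le_A hs))
theorem Adj.W_inf_Z (hm : Min T A) (h : Adj F T A Q R φ₁ φ₂ ψ₁ ψ₂) :
    WW T A Q ⊓ 𝒞(A) = ⁅WW T A Q, WW T A R⁆ := h.n1.restr_inf.trans (h.U_eq hm)
theorem Adj.W_inf_R (hm : Min T A) (h : Adj F T A Q R φ₁ φ₂ ψ₁ ψ₂) :
    WW T A Q ⊓ R = ⁅WW T A Q, WW T A R⁆ := by
  rw [← h.W_inf_Z hm]
  exact le_antisymm (le_inf inf_le_left ((inf_le_inf_right _ WW_le).trans (h.z1.le.trans Zo_cent)))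
    (le_inf inf_le_left ((inf_le_inf_right _ WW_le).trans
      ((h.e1.VV_inf hm.toSB).le.trans h.e2.Zo_le)))
theorem Adj.cent_W (hm : Min T A) (h : Adj F T A Q R φ₁ φ₂ ψ₁ ψ₂) :
    A ⊓ 𝒞(WW T A Q) = Q := by
  refine le_antisymm (le_trans ?_ (h.e1.cent_VV hm.toSB).le)
    (le_inf h.e1.le ((h.e1.le_cent_VV hm.toSB).trans (cent_le_cent WW_le)))
  rw [h.V_eq hm, FT.cent_sup]
  exact le_inf inf_le_left (le_inf inf_le_right (inf_le_left.trans (cent_comm.1 Zo_cent)))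
theorem Adj.D_inf_Q (hm : Min T A) (h : Adj F T A Q R φ₁ φ₂ ψ₁ ψ₂) :
    (WW T A Q ⊔ WW T A R) ⊓ Q = WW T A Q := by
  have hs := hm.toSB
  refine le_antisymm (fun x hx => ?_) (le_inf le_sup_left (h.e1.WW_le_Q hs))
  obtain ⟨v, hv, w, hw, rfl⟩ := (H1.mem_sup_of_le_normalizer' ((h.e1.WW_le_A hs).trans
    (h.e2.norm_WW hs))).1 hx.1
  have : w ∈ ⁅WW T A R, WW T A Q⁆ :=
    h.symm.W_inf_R hm ▸ ⟨hw, (Q.mul_mem_cancel_left (h.e1.WW_le_Q hs hv)).1 hx.2⟩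
  rw [Subgroup.commutator_comm, ← h.W_inf_R hm] at this
  exact mul_mem hv this.1
theorem Adj.D_inf (hm : Min T A) (h : Adj F T A Q R φ₁ φ₂ ψ₁ ψ₂) :
    (WW T A Q ⊔ WW T A R) ⊓ (Q ⊓ R) = ⁅WW T A Q, WW T A R⁆ := by
  rw [← inf_assoc, h.D_inf_Q hm, h.W_inf_R hm]
theorem Adj.D_sup (hm : Min T A) (h : Adj F T A Q R φ₁ φ₂ ψ₁ ψ₂) :
    (WW T A Q ⊔ WW T A R) ⊔ (Q ⊓ R) = A := by
  have hs := hm.toSB
  have z : Zo A ≤ (WW T A Q ⊔ WW T A R) ⊔ (Q ⊓ R) :=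
    (le_inf h.e1.Zo_le h.e2.Zo_le).trans le_sup_right
  refine le_antisymm (sup_le (sup_le (h.e1.WW_le_A hs) (h.e2.WW_le_A hs))
    (inf_le_left.trans h.e1.le)) fun a ha => ?_
  obtain ⟨w, hw, v, hv, c, hc, rfl⟩ := h.to0.dec hs ha
  exact mul_mem (mul_mem
    (((h.symm.V_eq hm).le.trans (sup_le (le_sup_right.trans le_sup_left) z)) hw)
    (((h.V_eq hm).le.trans (sup_le (le_sup_left.trans le_sup_left) z)) hv)) (mem_sup_right hc)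
theorem Adj.D_der (hm : Min T A) (h : Adj F T A Q R φ₁ φ₂ ψ₁ ψ₂) :
    ⁅WW T A Q ⊔ WW T A R, WW T A Q ⊔ WW T A R⁆ = ⁅WW T A Q, WW T A R⁆ := by
  rw [der_sup_eq ((h.e2.WW_le_A hm.toSB).trans (h.e1.norm_WW hm.toSB)),
    FT.commutator_eq_bot_iff.2 h.nW.comm, FT.commutator_eq_bot_iff.2 h.symm.nW.comm, bot_sup_eq,
    sup_bot_eq]
/-- For another essential subgroup `P`: `D ≤ P`, `V_P ≤ Q ⊓ R`, `U ≤ C(X_P)`. -/
theorem Adj.D_le (hm : Min T A) (h : Adj F T A Q R φ₁ φ₂ ψ₁ ψ₂) (hP : Ess ⊤ A P) (h1 : P ≠ Q)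
    (h2 : P ≠ R) : VV A Q ⊔ VV A R ≤ P := sup_le (h.u1 P hP h2) (h.u2 P hP h1)
theorem Adj.VP_le (hm : Min T A) (h : Adj F T A Q R φ₁ φ₂ ψ₁ ψ₂) (hP : Ess ⊤ A P) (h1 : P ≠ Q)
    (h2 : P ≠ R) : VV A P ≤ Q ⊓ R :=
  le_inf (h.e1.edge_symm hm.toSB hP (h.u1 P hP h2)) (h.e2.edge_symm hm.toSB hP (h.u2 P hP h1))
theorem Adj.U_cent (hm : Min T A) (h : Adj F T A Q R φ₁ φ₂ ψ₁ ψ₂) (hP : Ess ⊤ A P) (h1 : P ≠ Q)
    (h2 : P ≠ R) : ⁅WW T A Q, WW T A R⁆ ≤ 𝒞(XX T P) :=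
  (commutator_mono (WW_le.trans (h.u1 P hP h2)) (WW_le.trans (h.u2 P hP h1))).trans
    (hm.der_cent hP)

end Cfsg.Agent.C2
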