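import Cfsg.Agent.Lib.C2.ModA

/-!
# S1170: transvections in a strongly closed elementary abelian subgroup (see notes/C2.md)
-/

set_option autoImplicit false
set_option linter.unusedSectionVars false
set_option linter.unusedVariables false

namespace Cfsg.Agent.C2

open Subgroup Cfsg.Agent.H6 Cfsg.Agent.FT Cfsg.Agent.BD.P1 Cfsg.Agent.G75 Cfsg.Agent.G74
open Cfsg.Agent.PU (Mod2)

theorem za_comm_of_four {Γ : Type*} [Group Γ] [Finite Γ] {T : Set Γ} {E : Subgroup Γ} {s t : Γ}
    (hz : ZA T E) (hs : s ∈ T) (ht : t ∈ T) (h : (s * t) ^ 4 = 1) : s * t = t * s := by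
  have ss := hz.sq s hs
  have tt := hz.sq t ht
  have hP : IsPGroup 2 (zpowers s ⊔ zpowers (s * t) : Subgroup Γ) :=
    isPGroup_sup_of_le_normalizer (isPGroup_zpowers (k := 1) (by rw [pow_one, pow_two, ss]))
      (isPGroup_zpowers (k := 2) h) (zpowers_le.2 (mem_normalizer_zpowers (by
        rw [← mul_assoc, ss, one_mul, show t * s⁻¹ = (s * t)⁻¹ by
          rw [mul_inv_rev, inv_eq_of_mul_eq_one_right tt]]
        exact inv_mem (mem_zpowers _))))
  refine hz.comm_of_two hP hs ht (mem_sup_left (mem_zpowers s)) ?_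
  have := mul_mem (mem_sup_left (mem_zpowers s) : s ∈ zpowers s ⊔ zpowers (s * t))
    (mem_sup_right (mem_zpowers (s * t)))
  rwa [← mul_assoc, ss, one_mul] at this

theorem za_s4 {Γ : Type*} [Group Γ] [Finite Γ] {T : Set Γ} {E : Subgroup Γ} {a b c : Γ}
    (hz : ZA T E) (ha : a ∈ T) (hb : b ∈ T) (hc : c ∈ T) (h1 : a * b * a = b * a * b)
    (h2 : c * b * c = b * c * b) (h3 : a * c = c * a) : a = c := by
  have aa := hz.sq a ha
  have bb := hz.sq b hb
  have cc := hz.sq c hc
  have bi : b⁻¹ = b := inv_eq_of_mul_eq_one_right bb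
  have hac : a * c ∈ T := by
    have hP : IsPGroup 2 (zpowers a ⊔ zpowers c : Subgroup Γ) :=
      isPGroup_sup_of_le_normalizer (isPGroup_zpowers (k := 1) (by rw [pow_one, pow_two, aa]))
        (isPGroup_zpowers (k := 1) (by rw [pow_one, pow_two, cc]))
        (zpowers_le.2 (cent1_le_norm_zpowers (mem_cent1.2 h3)))
    exact hz.sc.mul _ hP a ha c hc (mem_sup_left (mem_zpowers _)) (mem_sup_right (mem_zpowers _))
  have hr := hz.sc.conj b _ hac
  rw [bi] at hr
  have l1 : ∀ x, a * (a * x) = x := fun x => by rw [← mul_assoc, aa, one_mul]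
  have l2 : ∀ x, b * (b * x) = x := fun x => by rw [← mul_assoc, bb, one_mul]
  have l3 : ∀ x, c * (c * x) = x := fun x => by rw [← mul_assoc, cc, one_mul]
  have m1 : ∀ x, a * (b * (a * x)) = b * (a * (b * x)) := fun x => by
    simpa only [mul_assoc] using congrArg (· * x) h1
  have m2 : ∀ x, c * (b * (c * x)) = b * (c * (b * x)) := fun x => by
    simpa only [mul_assoc] using congrArg (· * x) h2
  have m3 : ∀ x, a * (c * x) = c * (a * x) := fun x => by
    simpa only [mul_assoc] using congrArg (· * x) h3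
  have e : (a * (b * (a * c) * b)) ^ 2 = a * c := by
    have : ∀ x, a * (b * (a * (c * (b * (a * (b * (a * (c * (b * x))))))))) = a * (c * x) :=
      fun x => by
      rw [m1 (c * (b * x)), l2, m3 (a * (b * (c * (b * x)))), l1, m2 (b * x), l2, l2]
    simpa only [pow_two, mul_assoc, mul_one] using this 1
  have e4 : (a * (b * (a * c) * b)) ^ 4 = 1 := by
    rw [show 4 = 2 * 2 from rfl, pow_mul, e, pow_two, hz.sq _ hac]
  have e5 := za_comm_of_four hz ha hr e4
  rw [pow_two] at e
  nth_rewrite 1 [e5] at e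
  rw [mul_assoc, l1, hz.sq _ hr] at e
  rw [← l1 c, ← e, mul_one]

variable {Γ W : Type*} [Group Γ] [AddCommGroup W] [DistribMulAction Γ W] [Finite Γ] [Finite W]
variable {E : Subgroup Γ} {T : Set Γ} {s t x y : Γ} {c d : W}

/-- A transvection with centre `c`. -/
structure Tv (t : Γ) (c : W) : Prop where
  fix : t • c = c
  alt : ∀ v : W, t • v = v ∨ t • v = v + c

theorem Tv.conj (h : Tv t c) (x : Γ) : Tv (x * t * x⁻¹) (x • c) :=
  ⟨by rw [mul_smul, mul_smul, inv_smul_smul, h.fix], fun v => (h.alt (x⁻¹ • v)).imp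
    (fun e => by rw [mul_smul, mul_smul, e, smul_inv_smul])
    fun e => by rw [mul_smul, mul_smul, e, smul_add, smul_inv_smul]⟩

theorem Tv.comm (m : Mod2 Γ W) (h : Tv s c) (h' : Tv t d) (h1 : s • d = d) (h2 : t • c = c) :
    s * t = t * s := by
  rw [← mul_inv_eq_one, m.faith (s * t * (t * s)⁻¹)]
  intro v
  obtain ⟨v, rfl⟩ : ∃ w, v = (t * s) • w := ⟨_, (smul_inv_smul _ v).symm⟩
  rw [mul_smul, inv_smul_smul, mul_smul, mul_smul]
  rcases h.alt v with e | e <;> rcases h'.alt v with e' | e' <;>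
    simp only [e, e', smul_add, h1, h2]
  abel

theorem Tv.braid (m : Mod2 Γ W) (h : Tv s c) (h' : Tv t d) (h1 : s • d = d + c)
    (h2 : t • c = c + d) : s * t * s = t * s * t := by
  rw [← mul_inv_eq_one, m.faith (s * t * s * (t * s * t)⁻¹)]
  intro v
  obtain ⟨v, rfl⟩ : ∃ w, v = (t * s * t) • w := ⟨_, (smul_inv_smul _ v).symm⟩
  rw [mul_smul, inv_smul_smul, mul_smul, mul_smul, mul_smul, mul_smul]
  have tc := m.two c
  have td := m.two d
  rcases h.alt v with e | e <;> rcases h'.alt v with e' | e' <;>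
    simp only [e, e', smul_add, h1, h2, h.fix, h'.fix]
  · linear_combination (norm := abel1) -td
  · linear_combination (norm := abel1) tc
  · linear_combination (norm := abel1) tc - td

theorem Tv.four (m : Mod2 Γ W) (h : Tv s c) (h' : Tv t d) (h1 : s • d = d + c)
    (h2 : t • c = c) : (s * t) ^ 4 = 1 := by
  have tc := m.two c
  have td := m.two d
  have k : ∀ v : W, (s * t) ^ 2 • v = v ∧ t • v = v ∨ (s * t) ^ 2 • v = v + c := fun v => by
    rw [pow_two, mul_smul, mul_smul, mul_smul]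
    rcases h.alt v with e | e <;> rcases h'.alt v with e' | e' <;>
      simp only [e, e', smul_add, h1, h2, h.fix, h'.fix]
    · exact Or.inl ⟨trivial, trivial⟩
    · right; linear_combination (norm := abel1) td + tc
    · left; exact ⟨by linear_combination (norm := abel1) tc, trivial⟩
    · right; linear_combination (norm := abel1) td + tc + tc
  refine m.faith _ fun v => ?_
  rw [show 4 = 2 + 2 from rfl, pow_add, mul_smul]
  rcases k v with e | e
  · rw [e.1, e.1]
  · rw [e, smul_add, e, pow_two, mul_smul, mul_smul, mul_smul, h2, h.fix, h2, h.fix, add_assoc, tc,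
      add_zero]

theorem Tv.sym (m : Mod2 Γ W) (hz : ZA T E) (hs : s ∈ T) (ht : t ∈ T) (h : Tv s c) (h' : Tv t d)
    (hd : ∃ v : W, t • v ≠ v) (h2 : t • c = c) : s • d = d := by
  by_cases hc : c = 0
  · exact (h.alt d).elim id fun e => by rw [e, hc, add_zero]
  refine (h.alt d).resolve_right fun h1 => ?_
  have e := za_comm_of_four hz hs ht (h.four m h' h1 h2)
  obtain ⟨v, hv⟩ := hd
  have e1 := congrArg (· • v) e
  simp only [mul_smul] at e1
  have e' := (h'.alt v).resolve_left hv
  rcases h.alt v with e | e <;> simp only [e, e', smul_add, h1, h2] at e1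
  · exact hc (by linear_combination (norm := abel1) e1)
  · exact hc (by linear_combination (norm := abel1) e1)

theorem tv_main (m : Mod2 Γ W) (hz : ZA T E) (ht : t ∈ T) (h : Tv t c) (h1 : t • x • c ≠ x • c)
    (h2 : t • x⁻¹ • c ≠ x⁻¹ • c) (h3 : y * t = t * y) (h4 : y • c = c) {k : ℕ} (hk : Odd k)
    (hy : y ^ k = 1) : y • x • c = x • c := by
  by_contra hne
  have tc := m.two c
  have c0 : c ≠ 0 := by rintro rfl; simp at h1
  have ti : t⁻¹ = t := inv_eq_of_mul_eq_one_right (hz.sq t ht)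
  have a1 := (h.alt _).resolve_left h1
  have T1 := h.conj x
  have m1 := hz.sc.conj x t ht
  have b1 : (x * t * x⁻¹) • c ≠ c := fun e => h2 (by
    rwa [mul_smul, mul_smul, smul_eq_iff_eq_inv_smul] at e)
  have b1' := (T1.alt _).resolve_left b1
  generalize x * t * x⁻¹ = t1 at *
  generalize x • c = c1 at *
  have T2 := T1.conj t
  have m2 := hz.sc.conj t t1 m1
  have T3 := T1.conj y
  have m3 := hz.sc.conj y t1 m1
  have y1 : y⁻¹ • c = c := by rw [inv_smul_eq_iff, h4]
  have b3 : (y * t1 * y⁻¹) • c = c + y • c1 := by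
    rw [mul_smul, mul_smul, y1, b1', smul_add, h4]
  have a3 : t • y • c1 = y • c1 + c := by rw [smul_smul, ← h3, mul_smul, a1, smul_add, h4]
  have n2 : y • c1 ≠ c1 + c := fun e => c0 (mod_odd_fix m hk hy e h4)
  have c10 : c1 ≠ 0 := by rintro rfl; simp at hne
  have c30 : y • c1 ≠ 0 := fun e => c10 (by rw [← inv_smul_smul y c1, e, smul_zero])
  have t2 : ∀ v : W, (t * t1 * t⁻¹) • v = t • t1 • t • v := fun v => by
    rw [ti, mul_smul, mul_smul]
  have b2 : (t * t1 * t⁻¹) • c = c + t • c1 := by rw [t2, h.fix, b1', smul_add, h.fix]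
  have a2 : t • t • c1 = t • c1 + c := by rw [a1, smul_add, a1, h.fix]
  have br3 := T3.braid m h b3 a3
  generalize y * t1 * y⁻¹ = t3 at *
  generalize y • c1 = c3 at *
  have fin : ∀ {s : Γ} {d : W}, s ∈ T → Tv s d → s • c = c + d → t • d = d + c → s • c3 = c3 →
      t3 • d = d → d = c3 := fun {s d} hs hT e1 e2 e3 e4 => by
    have := za_s4 hz hs ht m3 (hT.braid m h e1 e2) br3 (hT.comm m T3 e3 e4)
    rw [this, b3] at e1
    exact (add_left_cancel e1).symm
  have w1 : ∃ v : W, t1 • v ≠ v := ⟨c, b1⟩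
  have w3 : ∃ v : W, t3 • v ≠ v := ⟨c, by rw [b3]; simpa using c30⟩
  rcases T1.alt c3 with e | e
  · exact hne (fin m1 T1 b1' a1 e (T3.sym m hz m3 m1 T1 w1 e)).symm
  · have e' : t3 • c1 = c1 + c3 := (T3.alt c1).resolve_left fun e' => by
      rw [T1.sym m hz m1 m3 T3 w3 e'] at e
      exact c10 (by simpa using e)
    refine n2 (a1 ▸ fin m2 T2 b2 a2 ?_ ?_).symm
    · rw [t2, a3, smul_add, e, b1', smul_add, smul_add, smul_add, a3, a1, h.fix]
      linear_combination (norm := abel1) tc + tc + m.two c1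
    · rw [a1, smul_add, e', b3]
      linear_combination (norm := abel1) m.two c3

end Cfsg.Agent.C2
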