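import Cfsg.Agent.Lib.C2.A3a
import Cfsg.Agent.Lib.C2.A3p4a

/-!
# S1170: part A3 (4), the claim (see notes/C2.md)
-/

set_option autoImplicit false
set_option linter.unusedSectionVars false
set_option linter.unusedVariables false

namespace Cfsg.Agent.C2

open Subgroup Cfsg.Agent.H6 Cfsg.Agent.FT Cfsg.Agent.BD.P1 Cfsg.Agent.G75 Cfsg.Agent.G74
open Cfsg.Agent.St (Od)
open scoped commutatorElement MatrixGroups Matrix

universe u

variable {G : Type*} [Group G] [Finite G] {T : Set G}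
variable {A B C D E H K L M N P P' Q R S U V W X Y W₁ W₂ : Subgroup G}
variable {a b c d e g h n r s t v w x y z : G}
variable {F : Type} [Field F] [Fintype F] [CharP F 2] {φ φ₁ φ₂ : G → SL(2, F)}
  {ψ ψ₁ ψ₂ : G → Fin 2 → F}

theorem Adj.not_le (hm : Min T A) (h : Adj F T A Q R φ₁ φ₂ ψ₁ ψ₂) : ¬ VV A Q ≤ R := fun e =>
  h.e2.lt.not_ge (h.s2.ge.trans (sup_le e le_rfl))

theorem Adj.fix (hm : Min T A) (h : Adj F T A Q R φ₁ φ₂ ψ₁ ψ₂) (hg : g ∈ 𝒩(A))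
    (h1 : ∀ v ∈ VV A Q, g * v * g⁻¹ * v⁻¹ ∈ R) : g ∈ 𝒩(Q) := by
  by_contra hn
  have e := h.e1.cj_top hg
  have h2 := (h.u2 _ e fun e => hn (cj_eq_self_iff.1 e)).trans (e.le_cent_VV hm.toSB)
  refine h.not_le hm fun v hv => (h.e2.cent_VV hm.toSB).le ⟨h.e1.VV_le_A hm.toSB hv, ?_⟩
  have h3 : g * v * g⁻¹ ∈ VV A (cj g Q) := by
    have := conj_mem_cj (g := g) hv
    rwa [cj_VV, cj_eq_self_iff.2 hg] at this
  have := mul_mem (inv_mem (h.e2.le_cent_VV hm.toSB (h1 v hv))) (cent_comm.1 h2 h3)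
  simpa [mul_assoc] using this

theorem Adj.fix' (hm : Min T A) (h : Adj F T A Q R φ₁ φ₂ ψ₁ ψ₂) (hg : g ∈ 𝒩(A))
    (h1 : g ∈ 𝒩(Q)) : g ∈ 𝒩(R) := by
  by_contra hn
  have h2 := h.u1 _ (h.e2.cj_top hg) fun e => hn (cj_eq_self_iff.1 e)
  rw [← cj_eq_self_iff.2 (norm_VV (A := A) h1)] at h2
  exact h.not_le hm fun v hv => by simpa [mul_assoc] using mem_cj.1 (h2 (conj_mem_cj hv))

theorem Min.conj_mem (hm : Min T A) (hQ : Ess ⊤ A Q) (hx : x ∈ XX T Q) (hv : v ∈ Q) :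
    x * v * x⁻¹ * v⁻¹ ∈ VV A Q := by
  rw [← commutatorElement_def]
  exact hm.comm_X hQ ((commutator_comm _ _).le (commutator_mem_commutator hx hv))

/-- The kernel on `V_P` centralizes `D` modulo `C(X_P)`. -/
theorem Adj.ker (hm : Min T A) (h : Adj F T A Q R φ₁ φ₂ ψ₁ ψ₂) (hP : Ess ⊤ A P) (h1 : P ≠ Q)
    (h2 : P ≠ R) : XX T P ⊓ 𝒞(VV A P) ≤ centMod (XX T P) (WW T A Q ⊔ WW T A R) 𝒞(XX T P) := by
  have hb := hm.toSB
  have hD : WW T A Q ⊔ WW T A R ≤ P := (sup_le_sup WW_le WW_le).trans (h.D_le hm hP h1 h2)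
  have hV := h.VP_le hm hP h1 h2
  have nC : XX T P ≤ 𝒩(𝒞(XX T P)) := le_normalizer.trans (H1.normalizer_le_normalizer_centralizer _)
  have hK : A ≤ 𝒩(XX T P ⊓ 𝒞(VV A P)) := (hP.norm hb).trans
    (H1.le_normalizer_inf (norm_XX hb.sc) (norm_VV.trans (H1.normalizer_le_normalizer_centralizer _)))
  have hX := hP.A_le_X hb
  refine le_sup_left.trans ((hb.toSA.le_Od_sup (le_sup_right : A ≤ XX T P ⊓ 𝒞(VV A P) ⊔ A)).trans
    (sup_le ?_ fun n hn => ?_))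
  · have k := ((St.Od_mono (Nc_le (T := T))).trans (St.Od_sup_le hb.toSA.two hK))
    refine k.trans (le_centMod_iff.2 ⟨(St.Od_le _).trans inf_le_left,
      ((St.Od_le _).trans inf_le_left).trans nC, ?_⟩)
    rw [FT.commutator_eq_bot_iff.2 (cent_comm.1 ((hP.ker_two hb).trans (centralizer_le hD)))]
    exact bot_le
  · have hnX : n ∈ XX T P := sup_le inf_le_left hX hn.1
    have n1 : n ∈ 𝒩(Q) := h.fix hm hn.2 fun v hv =>
      (hV (hm.conj_mem hP hnX (h.u1 P hP h2 hv))).2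
    have n2 : n ∈ 𝒩(R) := h.fix' hm hn.2 n1
    have n3 : n ∈ 𝒩(WW T A Q ⊔ WW T A R) :=
      H1.le_normalizer_sup (zpowers_le.2 (norm_WW hb.sc n1)) (zpowers_le.2 (norm_WW hb.sc n2)) (mem_zpowers n)
    refine mem_centMod.2 ⟨hnX, nC hnX, fun d hd => h.U_cent hm hP h1 h2 ((h.D_inf hm).le ⟨?_, ?_⟩)⟩
    · rw [commutatorElement_def, mul_assoc, mul_assoc, ← mul_assoc n]
      exact mul_mem hd (conj_mem_of_mem_normalizer n3 (inv_mem hd))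
    · exact hV (hm.comm_X hP (commutator_mem_commutator (hD hd) hnX))

theorem Adj.triv (hm : Min T A) (h : Adj F T A Q R φ₁ φ₂ ψ₁ ψ₂) (hg : g ∈ 𝒩(A))
    (ho : Odd (orderOf g)) (h1 : ∀ v ∈ VV A Q, g * v * g⁻¹ * v⁻¹ ∈ Zo A)
    (h2 : ∀ v ∈ VV A R, g * v * g⁻¹ * v⁻¹ ∈ Zo A) (hv : v ∈ VV A Q) :
    ψ₁ (g * v * g⁻¹) = ψ₁ v := by
  have hb := hm.toSB
  have hZ : Zo A ≤ R := h.z1.ge.trans inf_le_right
  have n1 : g ∈ 𝒩(Q) := h.fix hm hg fun v hv => hZ (h1 v hv)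
  have nV : ∀ v ∈ VV A Q, g * v * g⁻¹ ∈ VV A Q := fun v hv =>
    conj_mem_of_mem_normalizer (norm_VV n1) hv
  have nC : ∀ v ∈ 𝒞(XX T Q), g * v * g⁻¹ ∈ 𝒞(XX T Q) := fun v hv =>
    conj_mem_of_mem_normalizer (H1.normalizer_le_normalizer_centralizer _ (norm_XX hb.sc n1)) hv
  have hVA := h.e1.VV_le_A hb
  have hRA := h.e2.VV_le_A hb
  have kz : ∀ z ∈ Zo A, ψ₁ (g * z * g⁻¹) = ψ₁ z := fun z hz => by
    have hzV : z ∈ VV A Q := Zo_le_VV hz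
    obtain ⟨v, hv, ev⟩ := h.n1.ψ_surj ![0, 1]
    obtain ⟨a, ha, ea⟩ := h.n1.A_surj (ψ₁ z 0)
    obtain ⟨b, hb1, p, hp, rfl⟩ : ∃ b ∈ VV A R, ∃ p ∈ Q, a = b * p := by
      rw [← h.s1, ← SetLike.mem_coe, coe_mul_of_left_le_normalizer_right _ _
        (hRA.trans (h.e1.norm hb))] at ha
      obtain ⟨b, hb, p, hp, e⟩ := ha
      exact ⟨b, hb, p, hp, e.symm⟩
    rw [h.n1.φ_add (hRA hb1) (h.e1.le hp), (h.n1.A_cent (h.e1.le hp)).1 (h.e1.le_cent_VV hb hp),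
      add_zero] at ea
    have hc : b * v * b⁻¹ * v⁻¹ ∈ VV A Q :=
      mul_mem (conj_mem_of_mem_normalizer (h.n1.norm (h.n1.le (hRA hb1))) hv) (inv_mem hv)
    have e1 : ψ₁ (b * v * b⁻¹ * v⁻¹) = ψ₁ z := by
      rw [h.n1.ψ_comm (hRA hb1) hv, ea, ev]
      have := (h.n1.mem_cent_A hzV).1 (Zo_le hz).2
      ext i; fin_cases i <;> simp [this]
    have e2 : g * (b * v * b⁻¹ * v⁻¹) * g⁻¹ = b * v * b⁻¹ * v⁻¹ := by
      obtain ⟨z1, hz1, e1⟩ : ∃ z ∈ 𝒞(A), g * b * g⁻¹ = z * b :=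
        ⟨_, (Zo_le (h2 b hb1)).2, by group⟩
      obtain ⟨z2, hz2, e2⟩ : ∃ z ∈ 𝒞(A), g * v * g⁻¹ = v * z := by
        refine ⟨_, (Zo_le (h1 v hv)).2, ?_⟩
        rw [(Zo_le (h1 v hv)).2 v (hVA hv)]; group
      have hA : b * v * b⁻¹ * v⁻¹ ∈ A := hVA hc
      calc _ = (g * b * g⁻¹) * (g * v * g⁻¹) * (g * b * g⁻¹)⁻¹ * (g * v * g⁻¹)⁻¹ := by group
        _ = z1 * (b * v * (z2 * b⁻¹) * z1⁻¹ * z2⁻¹ * v⁻¹) := by rw [e1, e2]; group
        _ = z1 * (b * v * b⁻¹ * (z2 * z1⁻¹ * z2⁻¹) * v⁻¹) := by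
          rw [← hz2 _ (A.inv_mem (hRA hb1))]; group
        _ = _ := by
          have k1 : z2 * z1⁻¹ * z2⁻¹ = z1⁻¹ := by
            have hz1A : z1 ∈ A := by
              rw [show z1 = g * b * g⁻¹ * b⁻¹ by rw [e1]; group]; exact (Zo_le (h2 b hb1)).1
            rw [← hz2 _ (A.inv_mem hz1A)]; group
          rw [k1, mul_assoc _ z1⁻¹, ← (𝒞(A).inv_mem hz1) _ (A.inv_mem (hVA hv)), ← mul_assoc _ v⁻¹,
            ← mul_assoc, ← hz1 _ hA]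
          group
    generalize b * v * b⁻¹ * v⁻¹ = c at *
    have e3 : c⁻¹ * z ∈ 𝒞(XX T Q) := by
      rw [← h.n1.ψ_ker _ (mul_mem (inv_mem hc) hzV), h.n1.ψ_mul _ (inv_mem hc) _ hzV,
        h.n1.ψ_inv hc, e1, CharTwo.add_self_eq_zero]
    have e4 := (h.n1.ψ_ker _ (nV _ (mul_mem (inv_mem hc) hzV))).2 (nC _ e3)
    rw [show g * (c⁻¹ * z) * g⁻¹ = (g * c * g⁻¹)⁻¹ * (g * z * g⁻¹) by group, e2,
      h.n1.ψ_mul _ (inv_mem hc) _ (nV z hzV), h.n1.ψ_inv hc, e1, CharTwo.add_eq_zero] at e4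
    exact e4.symm
  have nZ : ∀ z ∈ Zo A, g * z * g⁻¹ ∈ Zo A := fun z hz => by
    have := conj_mem_cj (g := g) hz
    rwa [cj_Zo, cj_eq_self_iff.2 hg] at this
  have key : ∀ n : ℕ, ∃ z ∈ Zo A, g ^ n * v * (g ^ n)⁻¹ = z * v ∧
      ψ₁ z = n • ψ₁ (g * v * g⁻¹ * v⁻¹) := fun n => by
    induction n with
    | zero => exact ⟨1, one_mem _, by simp, by simp [h.n1.ψ_one]⟩
    | succ n ih =>
      obtain ⟨z, hz, e1, e2⟩ := ih
      refine ⟨g * z * g⁻¹ * (g * v * g⁻¹ * v⁻¹), mul_mem (nZ z hz) (h1 v hv), ?_, ?_⟩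
      · rw [pow_succ', show g * g ^ n * v * (g * g ^ n)⁻¹ = g * (g ^ n * v * (g ^ n)⁻¹) * g⁻¹ by
          group, e1]; group
      · rw [h.n1.ψ_mul _ (Zo_le_VV (nZ z hz)) _ (Zo_le_VV (h1 v hv)), kz z hz, e2, succ_nsmul]
  obtain ⟨z, hz, e1, e2⟩ := key (orderOf g)
  rw [pow_orderOf_eq_one, one_mul, inv_one, mul_one, right_eq_mul] at e1
  obtain ⟨j, hj⟩ := ho
  rw [e1, h.n1.ψ_one, hj, add_nsmul, mul_comm, mul_nsmul, two_nsmul, CharTwo.add_self_eq_zero,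
    zero_add, one_nsmul, h.n1.ψ_mul _ (nV v hv) _ (inv_mem hv), h.n1.ψ_inv hv] at e2
  exact CharTwo.add_eq_zero.1 e2.symm

theorem Adj.claim_big (hm : Min T A) (h : Adj F T A Q R φ₁ φ₂ ψ₁ ψ₂) (hP : Ess ⊤ A P) (h1 : P ≠ Q)
    (h2 : P ≠ R) {l : F} (l0 : l ≠ 0) (l1 : l ≠ 1) :
    Od (XX T P) ≤ 𝒞(WW T A Q ⊔ WW T A R) := by
  have hb := hm.toSB
  obtain ⟨F', _, _, _, P', φ, φ', ψ, ψ', h'⟩ := hm.adj hP
  have h1' : P' ≠ Q := by
    rintro rfl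
    exact h.not_le hm (h'.u2 R h.e2 h2.symm)
  have h2' : P' ≠ R := by
    rintro rfl
    exact h.symm.not_le hm (h'.u2 Q h.e1 h1.symm)
  have hD : WW T A Q ⊔ WW T A R ≤ P := (sup_le_sup WW_le WW_le).trans (h.D_le hm hP h1 h2)
  have hDA := hD.trans hP.le
  have hV := h.VP_le hm hP h1 h2
  have hV' := h.VP_le hm h'.e2 h1' h2'
  have nC : P ≤ 𝒩(𝒞(XX T P)) := (hP.le.trans (hP.A_le_X hb)).trans
    (le_normalizer.trans (H1.normalizer_le_normalizer_centralizer _))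
  obtain ⟨t, ⟨htX, htA⟩, hto, ht⟩ := hb.toSA.torus h.n1 l0
  have nD : ∀ g ∈ XX T Q, g ∈ 𝒩(A) → g ∈ 𝒩(WW T A Q ⊔ WW T A R) := fun g g1 g2 =>
    H1.le_normalizer_sup (zpowers_le.2 (norm_WW hb.sc (XX_le g1)))
      (zpowers_le.2 (norm_WW hb.sc (h.fix' hm g2 (XX_le g1)))) (mem_zpowers g)
  have ker := h.ker hm hP h1 h2
  have cV : ∀ x ∈ XX T P, ∀ d ∈ P, x * d * x⁻¹ * d⁻¹ ∈ VV A P := fun x hx d hd =>
    hm.conj_mem hP hx hd
  have main : WW T A Q ⊔ WW T A R ≤ centMod P (XX T P) 𝒞(XX T P) := by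
    rw [← coprime_cent_prod (A := zpowers t) (zpowers_le.2 (nD t htX htA))
      (St.coprime_of_odd (hb.toSA.two.to_le hDA) (St.odd_card_zpowers.2 hto))
      (Or.inl inferInstance)]
    refine sup_le (commutator_le.2 fun d hd g hg => ?_) fun d hd => ?_
    · have gX : g ∈ XX T Q := zpowers_le.2 htX hg
      have gA : g ∈ 𝒩(A) := zpowers_le.2 htA hg
      have go : Odd (orderOf g) := St.odd_of_mem_odd (St.odd_card_zpowers.2 hto) hg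
      have z : ∀ {P : Subgroup G}, VV A P ≤ Q ⊓ R → ∀ g ∈ XX T Q, g ∈ 𝒩(P) → ∀ v ∈ VV A P,
          g * v * g⁻¹ * v⁻¹ ∈ Zo A := fun hV g gX gP v hv => h.z1.le ⟨hm.conj_mem h.e1 gX (hV hv).1,
            (hV (mul_mem (conj_mem_of_mem_normalizer (norm_VV gP) hv) (inv_mem hv))).2⟩
      have gP : g ∈ 𝒩(P) := h'.fix hm gA fun v hv =>
        h.u1 P' h'.e2 h2' (hm.conj_mem h.e1 gX (hV hv).1)
      have gP' := h'.fix' hm gA gP
      have tr : ∀ v ∈ VV A P, ψ (g * v * g⁻¹) = ψ v := fun v hv =>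
        h'.triv hm gA go (z hV g gX gP) (z hV' g gX gP') hv
      have tr' : ∀ v ∈ VV A P, ψ (g⁻¹ * v * g) = ψ v := fun v hv => by
        rw [← tr _ (by simpa using conj_mem_of_mem_normalizer (inv_mem (norm_VV gP)) hv)]
        congr 1; group
      have hd' := conj_mem_of_mem_normalizer (nD g gX gA) (inv_mem hd)
      have hc : ⁅d, g⁆ ∈ WW T A Q ⊔ WW T A R := by
        rw [commutatorElement_def, mul_assoc, mul_assoc, ← mul_assoc g]; exact mul_mem hd hd'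
      refine mem_centMod.2 ⟨hD hc, nC (hD hc), fun x hx => ?_⟩
      have gx : g * x * g⁻¹ ∈ XX T P := conj_mem_of_mem_normalizer (norm_XX hb.sc gP) hx
      have ex : φ (g * x * g⁻¹) = φ x := Subtype.ext (Matrix.ext_iff_mulVec.2 fun u => by
        obtain ⟨v, hv, rfl⟩ := h'.n1.ψ_surj u
        have hv' : g⁻¹ * v * g ∈ VV A P := by
          simpa using conj_mem_of_mem_normalizer (inv_mem (norm_VV gP)) hv
        rw [← h'.n1.act _ gx v hv, show g * x * g⁻¹ * v * (g * x * g⁻¹)⁻¹ =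
          g * (x * (g⁻¹ * v * g) * x⁻¹) * g⁻¹ by group,
          tr _ (conj_mem_of_mem_normalizer (h'.n1.norm hx) hv'), h'.n1.act x hx _ hv', tr' v hv])
      have hk : x⁻¹ * (g * x * g⁻¹) ∈ XX T P ⊓ 𝒞(VV A P) := mem_inf.2 ⟨mul_mem (inv_mem hx) gx, by
        rw [← h'.n1.φ_ker _ (mul_mem (inv_mem hx) gx), h'.n1.φ_mul _ (inv_mem hx) _ gx,
          h'.n1.φ_inv hx, ex, inv_mul_cancel]⟩
      have hk' := (mem_centMod.1 (ker hk)).2.2 _ hd'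
      generalize hkk : x⁻¹ * (g * x * g⁻¹) = k at hk hk'
      generalize hdd : g * d⁻¹ * g⁻¹ = e at hd' hk'
      have c1 := cV x hx d⁻¹ (inv_mem (hD hd))
      have c2 := cV x hx e (hD hd')
      have c3 := cV k hk.1 e (hD hd')
      have c4 := cV x hx d (hD hd)
      have hk2 : k * e * k⁻¹ * e⁻¹ ∈ 𝒞(XX T P) := by
        have := inv_mem hk'
        rwa [commutatorElement_inv, commutatorElement_def] at this
      have e1 : g * (x * d⁻¹ * x⁻¹ * d⁻¹⁻¹) * g⁻¹ = (k * e * k⁻¹ * e⁻¹) * (x * e * x⁻¹ * e⁻¹) := by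
        rw [← mul_assoc _ _ e⁻¹, ← mul_assoc _ _ x⁻¹, ← mul_assoc _ x, ← hk2 x hx, ← hkk, ← hdd]
        group
      have e2 := tr _ c1
      rw [e1, h'.n1.ψ_mul _ c3 _ c2, (h'.n1.ψ_ker _ c3).2 hk2, zero_add] at e2
      have cP := hP.le_cent_VV hb
      have e3 : ⁅x, ⁅d, g⁆⁆ = (x * d * x⁻¹ * d⁻¹) * (x * e * x⁻¹ * e⁻¹) := by
        have := cP (hD hd) _ c2
        rw [show ⁅x, ⁅d, g⁆⁆ = (x * d * x⁻¹ * d⁻¹) * (d * (x * e * x⁻¹ * e⁻¹)) * d⁻¹ by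
          rw [← hdd]; simp only [commutatorElement_def]; group, ← this]
        group
      have e4 : (x * d * x⁻¹ * d⁻¹) * (x * d⁻¹ * x⁻¹ * d⁻¹⁻¹) = 1 := by
        have := cP (hD hd) _ c1
        rw [show (x * d * x⁻¹ * d⁻¹) * (x * d⁻¹ * x⁻¹ * d⁻¹⁻¹) =
          x * d * x⁻¹ * d⁻¹ * ((x * d⁻¹ * x⁻¹ * d⁻¹⁻¹) * d) * d⁻¹ by group, this]
        group
      rw [e3, ← h'.n1.ψ_ker _ (mul_mem c4 c2), h'.n1.ψ_mul _ c4 _ c2, e2, ← h'.n1.ψ_mul _ c4 _ c1,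
        e4, h'.n1.ψ_one]
    · have hdA := hDA hd.1
      have e : t * d * t⁻¹ = d := by rw [hd.2 t (mem_zpowers t)]; group
      have e0 : t * d = d * t := hd.2 t (mem_zpowers t)
      have hdX := h.n1.le hdA
      have e1 := congrArg (fun m : SL(2, F) => m.1 0 1) ((h.n1.φ_mul t htX d hdX).symm.trans
        ((congrArg φ₁ e0).trans (h.n1.φ_mul d hdX t htX)))
      obtain ⟨a1, a2, a3⟩ := h.n1.φ_A d hdA
      have a4 : φ₁ d 0 1 = 0 := by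
        simp only [Matrix.SpecialLinearGroup.coe_mul, Matrix.mul_apply, Fin.sum_univ_two, ht] at e1
        simp at e1
        by_contra hne
        have e2 : l * l = 1 := by
          have := mul_left_cancel₀ hne ((mul_comm _ l).trans e1)
          nth_rewrite 1 [this]; exact inv_mul_cancel₀ l0
        exact l1 ((mul_self_eq_one_iff.1 e2).elim id fun e => by rw [e, CharTwo.neg_eq])
      have hdQ : d ∈ WW T A Q := (h.D_inf_Q hm).le ⟨hd.1,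
        (h.e1.cent_VV hb).le ⟨hdA, (h.n1.A_cent hdA).2 a4⟩⟩
      have e2 := congrFun (h.n1.act t htX d (WW_le hdQ)) 1
      rw [e, ht] at e2
      have a5 : ψ₁ d 1 = 0 := by
        simp [Matrix.mulVec, dotProduct] at e2
        by_contra hne
        exact l1 (inv_eq_one.1 (mul_right_cancel₀ hne (e2.symm.trans (one_mul _).symm)))
      have hU := h.U_cent hm hP h1 h2 ((h.W_inf_Z hm).le
        ⟨hdQ, (h.n1.mem_cent_A (WW_le hdQ)).2 a5⟩)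
      refine mem_centMod.2 ⟨hD hd.1, nC (hD hd.1), fun x hx => ?_⟩
      rw [commutatorElement_eq_one_iff_mul_comm.2 (hU x hx)]
      exact one_mem _
  refine St.Od_le_iff.2 fun y hy ho d hd => ?_
  have c1 := (mem_centMod.1 (main hd)).2.2 y hy
  have c2 := hP.VV_sq hb (cV y hy d (hD hd))
  rw [commutatorElement_def] at c1
  have cy := c1 y hy
  generalize hc : y * d * y⁻¹ * d⁻¹ = c at *
  have key : ∀ n : ℕ, y ^ n * d * (y ^ n)⁻¹ = c ^ n * d := fun n => by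
    induction n with
    | zero => simp
    | succ n ih =>
      rw [pow_succ', show y * y ^ n * d * (y * y ^ n)⁻¹ = y * (y ^ n * d * (y ^ n)⁻¹) * y⁻¹ by
        group, ih, ← mul_assoc, (show Commute y c from cy).pow_right n, pow_succ, ← hc]
      group
  have := key (orderOf y)
  obtain ⟨j, hj⟩ := ho
  rw [pow_orderOf_eq_one, one_mul, inv_one, mul_one, right_eq_mul, hj, pow_succ, pow_mul, pow_two,
    c2, one_pow, one_mul] at this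
  rw [this, mul_inv_eq_one, mul_inv_eq_iff_eq_mul] at hc
  exact hc.symm

theorem Adj.claim_two (hm : Min T A) (h : Adj F T A Q R φ₁ φ₂ ψ₁ ψ₂) (hP : Ess ⊤ A P) (h1 : P ≠ Q)
    (h2 : P ≠ R) (hF : ∀ l : F, l = 0 ∨ l = 1) : Od (XX T P) ≤ 𝒞(WW T A Q) := by
  classical
  have hb := hm.toSB
  have hV := h.VP_le hm hP h1 h2
  have hQP := h.u1 P hP h2
  have hRP := h.u2 P hP h1
  have hVA := h.e1.VV_le_A hb
  have hRA := h.e2.VV_le_A hb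
  have nP : XX T P ≤ 𝒩(Q ⊓ P) := le_norm_of_commutator_le ((commutator_mono inf_le_right le_rfl).trans
    ((hm.comm_X hP).trans (le_inf (hV.trans inf_le_left) ((hP.VV_le hb).trans inf_le_left))))
  have nQ : XX T Q ≤ 𝒩(Q ⊓ P) := le_norm_of_commutator_le ((commutator_mono inf_le_left le_rfl).trans
    ((hm.comm_X h.e1).trans (le_inf ((h.e1.VV_le hb).trans inf_le_left) hQP)))
  have nA : A ≤ 𝒩(Q ⊓ P) := (hP.A_le_X hb).trans nP
  have hn : 𝒩(Q ⊓ P) ≤ 𝒩(Zo (Q ⊓ P)) := fun g hg =>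
    cj_eq_self_iff.1 (by rw [cj_Zo, cj_eq_self_iff.2 hg])
  have he : PU.El (Zo (Q ⊓ P)) := fun x hx => (mem_Zo.1 hx).2.2
  have hE : Zo (Q ⊓ P) ≤ Q ⊓ P := Zo_le.trans inf_le_left
  have hEC : Q ⊓ P ≤ 𝒞(Zo (Q ⊓ P)) := cent_comm.1 (Zo_le.trans inf_le_right)
  have hVZ : VV A Q ≤ Zo (Q ⊓ P) := fun v hv => mem_Zo.2 ⟨⟨(h.e1.VV_le hb hv).1, hQP hv⟩,
    centralizer_le inf_le_left (h.e1.VV_le hb hv).2, h.e1.VV_sq hb hv⟩
  obtain ⟨Γ, Wm, _, _, _, _, _, f, π, hs⟩ := PU.exists_sec (V0 := ⊥) ⟨hE.trans le_normalizer, hn⟩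
    ⟨bot_le, fun _ _ => mem_normalizer_of_conj_mem fun x hx => by simpa using hx⟩ bot_le he
  have hsa : SA (f '' (𝒩(Q ⊓ P).subtype ⁻¹' T)) (mim f A) :=
    (hb.toSA.comap 𝒩(Q ⊓ P).subtype_injective (by rwa [range_subtype])).map hs.surj
  have hz := hsa.za fun z hz => by
    obtain ⟨a, ha, rfl⟩ := mem_mim.1 hz
    rw [← map_mul]
    exact (sec_ker hs he hn _).2 (hEC ⟨h.e1.sq hb ha, hP.sq hb ha⟩)
  obtain ⟨w, hw, hw'⟩ := SetLike.not_le_iff_exists.1 (h.symm.not_le hm)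
  have hwA := hRA hw
  have hwC : w ∉ 𝒞(VV A Q) := fun e => hw' ((h.e1.cent_VV hb).le ⟨hwA, e⟩)
  obtain ⟨v0, hv0, ev0⟩ := h.nW.ψ_surj ![0, 1]
  have hv0V := WW_le hv0
  have hv0C : v0 ∉ 𝒞(A) := by rw [h.n1.mem_cent_A hv0V, ev0]; simp
  have nR : ∀ v ∈ VV A Q, v ∉ 𝒞(A) → φ₂ v 0 1 = 1 := fun v hv hc => (hF _).resolve_left fun e =>
    hc (Zo_le (h.z1.le ⟨hv, (h.e2.cent_VV hb).le ⟨hVA hv, (h.n2.A_cent (hVA hv)).2 e⟩⟩)).2
  have huW : w * v0 * w⁻¹ * v0⁻¹ ∈ WW T A Q :=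
    mul_mem (conj_mem_of_mem_normalizer (h.nW.norm (h.nW.le hwA)) hv0) (inv_mem hv0)
  have hψu : ψ₁ (w * v0 * w⁻¹ * v0⁻¹) = ![1, 0] := by
    rw [h.n1.ψ_comm hwA hv0V, ev0, (hF (φ₁ w 0 1)).resolve_left fun e =>
      hwC ((h.n1.A_cent hwA).2 e)]
    simp
  have alt : ∀ s ∈ A, w * s * w⁻¹ = s ∨ w * s * w⁻¹ = s * (w * v0 * w⁻¹ * v0⁻¹) := fun s hs => by
    refine (hF (φ₂ s 0 1)).imp (fun e => ?_) fun e => ?_
    · rw [(h.n2.A_cent hs).2 e w hw]; group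
    · have := (h.n2.A_cent (mul_mem hs (hVA hv0V))).2 (by
        rw [h.n2.φ_add hs (hVA hv0V), e, nR v0 hv0V hv0C, CharTwo.add_self_eq_zero]) w hw
      have i1 : (w * v0 * w⁻¹ * v0⁻¹)⁻¹ = w * v0 * w⁻¹ * v0⁻¹ :=
        inv_eq_of_mul_eq_one_right (h.e1.VV_sq hb (WW_le huW))
      rw [← i1, show w * s * w⁻¹ = w * (s * v0) * (v0⁻¹ * w⁻¹) by group, this]
      group
  generalize w * v0 * w⁻¹ * v0⁻¹ = u at *
  have huC : u ∈ 𝒞(A) := by rw [h.n1.mem_cent_A (WW_le huW), hψu]; simp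
  have huX : u ∈ 𝒞(XX T P) := h.U_cent hm hP h1 h2 ((h.W_inf_Z hm).le ⟨huW, huC⟩)
  have huZ := hVZ (WW_le huW)
  have tv : Tv (f ⟨w, nA hwA⟩) (π u) := by
    refine ⟨(sec_smul hs he hn _ huZ).2 (huC w hwA), fun s => ?_⟩
    obtain ⟨s, hs1, rfl⟩ := hs.onto s
    rw [← hs.act _ s hs1, ← hs.add _ hs1 _ huZ]
    exact (alt s (h.e1.le (hE hs1).1)).imp (congrArg π) (congrArg π)
  obtain ⟨x, hx, ex⟩ := h.n1.φ_surj ⟨!![0, 1; 1, 0], by
    rw [Matrix.det_fin_two_of]; simp [CharTwo.neg_eq]⟩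
  have cW : ∀ x ∈ XX T Q, x * u * x⁻¹ ∈ WW T A Q := fun x hx =>
    conj_mem_of_mem_normalizer (h.nW.norm hx) huW
  have nf : ∀ x (hx : x ∈ XX T Q), ψ₁ (x * u * x⁻¹) 1 ≠ 0 →
      f ⟨w, nA hwA⟩ • f ⟨x, nQ hx⟩ • π u ≠ f ⟨x, nQ hx⟩ • π u := fun x hx h0 e => by
    rw [← hs.act _ u huZ, sec_smul hs he hn _ (hVZ (WW_le (cW x hx)))] at e
    exact h0 ((h.n1.mem_cent_A (WW_le (cW x hx))).1
      (h.n1.cent_of hwA hwC (WW_le (cW x hx)) (mem_cent1.2 e.symm)))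
  have p1 : ψ₁ (x * u * x⁻¹) 1 = 1 := by
    rw [h.n1.act x hx u (WW_le huW), ex, hψu]; simp [Matrix.mulVec, dotProduct]
  have p2 : ψ₁ (x⁻¹ * u * x⁻¹⁻¹) 1 ≠ 0 := by
    rw [h.n1.act _ (inv_mem hx) u (WW_le huW), h.n1.φ_inv hx, Matrix.SpecialLinearGroup.coe_inv,
      ex, hψu]
    simp [Matrix.mulVec, dotProduct, Matrix.adjugate_fin_two]
  refine St.Od_le_iff.2 fun y hy ho => ?_
  have main := tv_main hs.mod hz ⟨⟨w, nA hwA⟩, hb.sub hwA, rfl⟩ tv (x := f ⟨x, nQ hx⟩)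
    (y := f ⟨y, nP hy⟩) (nf x hx (by rw [p1]; exact one_ne_zero))
    (by rw [← map_inv]; exact nf _ (inv_mem hx) p2)
    (by
      rw [← mul_inv_eq_one, ← map_mul, ← map_mul, ← map_inv, ← map_mul, sec_ker hs he hn]
      have := hm.conj_mem hP hy (hRP hw)
      exact hEC ⟨(hV (by simpa [mul_assoc] using this)).1,
        (hP.VV_le hb (by simpa [mul_assoc] using this)).1⟩)
    ((sec_smul hs he hn _ huZ).2 (huX y hy)) ho (by
      rw [← map_pow]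
      exact (congrArg f (Subtype.ext (pow_orderOf_eq_one y))).trans (map_one f))
  rw [← hs.act _ u huZ, sec_smul hs he hn _ (hVZ (WW_le (cW x hx)))] at main
  have cU : ∀ v ∈ WW T A Q, ψ₁ v 1 = 0 → v ∈ 𝒞[y] := fun v hv e => mem_cent1.2
    (h.U_cent hm hP h1 h2 ((h.W_inf_Z hm).le ⟨hv, (h.n1.mem_cent_A (WW_le hv)).2 e⟩) y hy).symm
  refine le_cent1_iff.1 fun v hv => (hF (ψ₁ v 1)).elim (cU v hv) fun e => ?_
  have := mul_mem (cU _ (mul_mem hv (cW x hx)) (by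
    rw [h.n1.ψ_mul _ (WW_le hv) _ (WW_le (cW x hx)), Pi.add_apply, e, p1,
      CharTwo.add_self_eq_zero])) (inv_mem (mem_cent1.2 main.symm))
  rwa [mul_inv_cancel_right] at this

theorem Adj.claim (hm : Min T A) (h : Adj F T A Q R φ₁ φ₂ ψ₁ ψ₂) (hP : Ess ⊤ A P) (h1 : P ≠ Q)
    (h2 : P ≠ R) : Od (XX T P) ≤ 𝒞(WW T A Q ⊔ WW T A R) := by
  by_cases hF : ∀ l : F, l = 0 ∨ l = 1
  · rw [FT.cent_sup]
    exact le_inf (h.claim_two hm hP h1 h2 hF) (h.symm.claim_two hm hP h2 h1 hF)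
  · push Not at hF
    obtain ⟨l, l0, l1⟩ := hF
    exact h.claim_big hm hP h1 h2 l0 l1

end Cfsg.Agent.C2
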