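import Cfsg.Agent.Lib.C2.A5fb

/-!
# S1170: one factor (part A5), the signalizer functor (see notes/C2.md)
-/

set_option autoImplicit false
set_option linter.unusedSectionVars false
set_option linter.unusedVariables false

namespace Cfsg.Agent.C2

open Subgroup Cfsg.Agent.H6 Cfsg.Agent.FT Cfsg.Agent.BD.P1 Cfsg.Agent.G75 Cfsg.Agent.G74 W8
open Cfsg.Agent.St (Od)
open scoped commutatorElement

universe u

variable {G : Type*} [Group G] [Finite G] {T : Set G}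
variable {A B C D D' E H H' K M N P Q R S U V W X Y : Subgroup G}
variable {a b b' c d e g n r s t v w x y z : G}
variable {𝓓 I J : Set (Subgroup G)} {L : Subgroup G → Subgroup G}

/-- The subgroup containing the local subgroups. -/
structure JH (A : Subgroup G) (𝓓 : Set (Subgroup G)) (M : Subgroup G) : Prop where
  hN : 𝒩(A) ≤ M
  hC : ∀ D ∈ 𝓓, 𝒞(Co 𝓓 D) ≤ M
  hO : ∀ D ∈ 𝓓, ∀ u ∈ Zo D, u ≠ 1 → Op' 2 𝒞[u] ≤ M

/-- The involutions conjugate into a factor. -/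
def Iv (𝓓 : Set (Subgroup G)) : Set G := {s | orderOf s = 2 ∧ ∃ g, ∃ D ∈ 𝓓, g * s * g⁻¹ ∈ D}

namespace P3

theorem cent_Zo (h : P3 T A 𝓓 L) (hM : JH A 𝓓 M) (hD : D ∈ 𝓓) (hb : b ∈ Zo D) (h1 : b ≠ 1) :
    𝒞[b] ≤ M := by
  have hA := h.toPD.A_le hD hb
  refine (h.toSA.frattini (le_Nc h.sub hA) h.sc.normal_Nc).trans
    (sup_le (h.toPD.Nc_le_of hA fun E hE => ?_) (inf_le_right.trans hM.hN))
  refine ((h.toPD.tin h.toPD.Co_le (h.toPD.Co_le.trans hA)).le_of_comm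
    (h.toPD.tin (h.toPD.le hE) ((h.toPD.le hE).trans hA)).Kc_le ?_).trans
    (sup_le (hM.hO D hD b hb h1) (inf_le_right.trans (hM.hC E hE)))
  rw [Subgroup.commutator_comm]
  exact (commutator_mono le_rfl le_Kc).trans (h.toPD.sepCo hA (h.star1 D hD b hb h1) hE)

theorem cent_inv (h : P3 T A 𝓓 L) (hM : JH A 𝓓 M) (hD : D ∈ 𝓓) (hx : x ∈ D) (h2 : x * x = 1)
    (h1 : x ≠ 1) : 𝒞[x] ≤ M := by
  obtain ⟨g, hg, h3⟩ := h.toPD.exists_Zo_conj hD hx h2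
  have h4 := h.cent_Zo hM hD h3 fun e => h1 (conj_eq_one_iff.1 e)
  rwa [← cj_centralizer_singleton, cj_le_iff_le_cj,
    cj_eq_self_of_mem (inv_mem (hM.hC D hD hg))] at h4

theorem cent_two (h : P3 T A 𝓓 L) (hM : JH A 𝓓 M) (hD : D ∈ 𝓓) (hD' : D' ∈ 𝓓) (hne : D ≠ D')
    (hb : b ∈ Zo D) (hb' : b' ∈ Zo D') (h1 : b ≠ 1) (h1' : b' ≠ 1) : 𝒞[b * b'] ≤ M := by
  have hA : A ≤ 𝒞[b * b'] := (le_inf (h.toPD.A_le hD hb) (h.toPD.A_le hD' hb')).trans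
    (PD.two_le (h.toPD.two_cm hD hD' hb hb'))
  refine (h.toSA.frattini (le_Nc h.sub hA) h.sc.normal_Nc).trans
    (sup_le ((h.toPD.two_Nc hD hD' hne hb hb' h1 h1').trans (sup_le ?_
      (inf_le_left.trans (h.cent_Zo hM hD hb h1)))) (inf_le_right.trans hM.hN))
  obtain ⟨α, fa, ha⟩ := h.toPD.exists_f4' hD
  exact coprime_abelian_gen_cent1 fa.comm (fa.not_cyclic Nat.prime_two)
    ((ha.trans (h.toPD.le hD)).trans (hA.trans (nO _))) (cop2 (odd_Op' _) fa.pgroup)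
    fun v hv h4 => inf_le_right.trans (h.cent_inv hM hD (ha hv) (fa.sq hv) h4)

theorem mem_of_conj (h : P3 T A 𝓓 L) (hM : JH A 𝓓 M) (ha : a ∈ A) (hA : A ≤ 𝒞[a])
    (h2 : a * a = 1) (hc : 𝒞[a] ≤ M) (hg : g * a * g⁻¹ ∈ M) : g ∈ M := by
  obtain ⟨j, hj, h3⟩ := h.toSA.exists_conj (le_normalizer.trans hM.hN) (h.sc.conj g a (h.sub ha)) hg
  obtain ⟨l, hl, h4⟩ := h.toPD.exists_center le_rfl (h.sup.ge h3)
    (conj_mul_self (conj_mul_self h2 g) j)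
  have hl' : l ∈ M := (sSup_le (by
    rintro _ ⟨D, hD, rfl⟩
    exact (h.Lc D hD).trans (hM.hC D hD)) : sSup (L '' 𝓓) ≤ M) hl
  rw [show l * (j * (g * a * g⁻¹) * j⁻¹) * l⁻¹ = l * j * g * a * (l * j * g)⁻¹ by group] at h4
  obtain ⟨c, h5, h6⟩ := h.toSA.exists_cj_eq (h.toSA.cjj (l * j * g)) (le_cent1_iff.2 h4.2)
    (by rw [← cj_centralizer_singleton]; exact cj_mono _ hA)
  rw [cj_cj, cj_eq_self_iff] at h6
  rw [← cj_centralizer_singleton, mem_cj] at h5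
  have h7 := mul_mem (hM.hN h6) (inv_mem (hc h5))
  have h8 : c ∈ M := by
    have := mul_mem (mul_mem h7 (hc h5)) (inv_mem h7)
    convert this using 1
    group
  have h9 := (M.mul_mem_cancel_left h8).1 (hM.hN h6)
  exact (M.mul_mem_cancel_left (mul_mem hl' hj)).1 h9

theorem uniq (h : P3 T A 𝓓 L) (hM : JH A 𝓓 M) (ha : g * s * g⁻¹ ∈ A) (hA : A ≤ 𝒞[g * s * g⁻¹])
    (h2 : s * s = 1) (hc : 𝒞[g * s * g⁻¹] ≤ M) {p q : G ⧸ M} (hp : s • p = p) (hq : s • q = q) :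
    p = q := by
  suffices ∀ p : G ⧸ M, s • p = p → p = (g⁻¹ : G) from (this p hp).trans (this q hq).symm
  intro p hp
  obtain ⟨x, rfl⟩ := QuotientGroup.mk_surjective p
  exact QuotientGroup.eq.2 (h.mem_of_conj hM ha hA (conj_mul_self h2 g) hc
    (by simpa [mul_assoc] using smul_mk_eq_mk_iff.1 hp))

theorem uniq1 (h : P3 T A 𝓓 L) (hM : JH A 𝓓 M) (hs : s ∈ Iv 𝓓) {p q : G ⧸ M} (hp : s • p = p)
    (hq : s • q = q) : p = q := by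
  obtain ⟨h1, g, D, hD, h2⟩ := hs
  have h3 := mul_self_of_orderOf_two h1
  obtain ⟨l, -, h4⟩ := h.toPD.exists_Zo_conj hD h2 (conj_mul_self h3 g)
  rw [show l * (g * s * g⁻¹) * l⁻¹ = l * g * s * (l * g)⁻¹ by group] at h4
  exact h.uniq hM (h.toPD.le hD (mem_Zo.1 h4).1) (h.toPD.A_le hD h4) h3
    (h.cent_Zo hM hD h4 fun e => ne_one_of_orderOf_two h1 (conj_eq_one_iff.1 e)) hp hq

theorem Iv_conj (hs : s ∈ Iv 𝓓) (g : G) : g * s * g⁻¹ ∈ Iv 𝓓 := by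
  obtain ⟨h1, k, D, hD, h2⟩ := hs
  exact ⟨by rw [orderOf_conj, h1], k * g⁻¹, D, hD, by simpa [mul_assoc] using h2⟩

theorem Iv_T (h : P3 T A 𝓓 L) (hs : s ∈ Iv 𝓓) : s ∈ T := by
  obtain ⟨h1, k, D, hD, h2⟩ := hs
  simpa [mul_assoc] using h.sc.conj k⁻¹ _ (h.sub (h.toPD.le hD h2))

theorem Iv_A (h : P3 T A 𝓓 L) (hs : s ∈ Iv 𝓓) (hA : s ∈ A) : ∃ D ∈ 𝓓, s ∈ D := by
  obtain ⟨h1, k, D, hD, h2⟩ := hs
  obtain ⟨σ, h3, h4⟩ := h.toPD.pf1 k⁻¹ (zpowers_le.2 (h.toPD.le hD h2))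
    (by rw [cj_zpowers, zpowers_le]; simpa [mul_assoc] using hA)
  exact ⟨_, h3.mapsTo hD, h4 D hD (mem_cj.2 (by simpa using h2))⟩

theorem one (h : P3 T A 𝓓 L) (hM : JH A 𝓓 M) : ZD.One (Iv 𝓓) (G ⧸ M) := by
  refine ⟨fun hs => hs.1, fun g hs => Iv_conj hs g, ?_, fun hs => h.uniq1 hM hs, ?_⟩
  · rintro s ⟨h1, g, D, hD, h2⟩
    exact ⟨(g⁻¹ : G), smul_mk_eq_mk_iff.2 (by
      simpa using hM.hN (le_normalizer (h.toPD.le hD h2)))⟩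
  intro s t p q hs ht hne hc
  have hV := f4_sup hs.1 ht.1 hne hc
  obtain ⟨g, -, h1⟩ := h.toSA.exists_cj le_top hV.pgroup
    (h.sc.subset hV.pgroup (h.sc.zpowers (h.Iv_T hs)) (h.sc.zpowers (h.Iv_T ht))) le_top
  obtain ⟨D, hD, h2⟩ := h.Iv_A (Iv_conj hs g) (h1 (conj_mem_cj (mem_sup_left (mem_zpowers s))))
  obtain ⟨D', hD', h3⟩ := h.Iv_A (Iv_conj ht g) (h1 (conj_mem_cj (mem_sup_right (mem_zpowers t))))
  have ss := mul_self_of_orderOf_two hs.1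
  have tt := mul_self_of_orderOf_two ht.1
  have h4 := hV.sq (mul_mem (mem_sup_left (mem_zpowers s)) (mem_sup_right (mem_zpowers t)))
  by_cases e : D = D'
  · subst e
    refine h.uniq1 hM ⟨orderOf_eq_two h4 fun e => hne ?_, g, D, hD, ?_⟩
    · rw [← mul_left_inj t, e, tt]
    · simpa [mul_assoc] using mul_mem h2 h3
  obtain ⟨l, hl, h5⟩ := h.toPD.exists_Zo_conj hD h2 (conj_mul_self ss g)
  obtain ⟨k, hk, h6⟩ := h.toPD.exists_Zo_conj hD' h3 (conj_mul_self tt g)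
  have e' : k * l * g * (s * t) * (k * l * g)⁻¹ =
      l * (g * s * g⁻¹) * l⁻¹ * (k * (g * t * g⁻¹) * k⁻¹) := by
    have e1 := mem_cent.1 (PD.cCo_le hD' (Ne.symm e) hl) _ h3
    have e2 := mem_cent.1 (PD.cCo_le hD e hk) _ (mem_Zo.1 h5).1
    calc _ = k * (l * (g * s * g⁻¹) * l⁻¹) * (l * (g * t * g⁻¹)) * l⁻¹ * k⁻¹ := by group
      _ = _ := by rw [← e1, ← e2]; group
  refine h.uniq hM (g := k * l * g) ?_ ?_ h4 ?_ <;> rw [e']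
  · exact mul_mem (h.toPD.le hD (mem_Zo.1 h5).1) (h.toPD.le hD' (mem_Zo.1 h6).1)
  · exact (le_inf (h.toPD.A_le hD h5) (h.toPD.A_le hD' h6)).trans
      (PD.two_le (h.toPD.two_cm hD hD' h5 h6))
  · exact h.cent_two hM hD hD' e h5 h6
      (fun e => ne_one_of_orderOf_two hs.1 (conj_eq_one_iff.1 (conj_eq_one_iff.1 e)))
      fun e => ne_one_of_orderOf_two ht.1 (conj_eq_one_iff.1 (conj_eq_one_iff.1 e))

/-- (f) -/
theorem eq_top (h : P3 T A 𝓓 L) (hM : JH A 𝓓 M) : M = ⊤ := by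
  by_contra hne
  have h1 := h.one hM
  obtain ⟨D, hD, -⟩ := h.three ⊥ ⊥
  have hI : ∀ x ∈ D, x * x = 1 → x ≠ 1 → x ∈ ZD.Sw (Iv 𝓓) ⊤ ((1 : G) : G ⧸ M) ((1 : G) : G ⧸ M) :=
    fun x hx h2 h3 => ⟨mem_top x, ⟨orderOf_eq_two h2 h3, 1, D, hD, by simpa using hx⟩,
      smul_mk_eq_mk_iff.2 (by simpa using hM.hN (le_normalizer (h.toPD.le hD hx)))⟩
  obtain ⟨α, fa, ha⟩ := h.toPD.exists_f4' hD
  obtain ⟨v, hv, h2, -⟩ := fa.exists_ne 1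
  obtain ⟨w, hw, h3, h4⟩ := fa.exists_ne v
  have hv' := hI v (ha hv) (fa.sq hv) h2
  have hw' := hI w (ha hw) (fa.sq hw) h3
  have hd : ZD.Del (Iv 𝓓) ⊤ ((1 : G) : G ⧸ M) := ⟨v, hv'⟩
  obtain ⟨b, hb, h5⟩ := h1.exists_del_ne hd (BD.top_not_le_St hne _)
  obtain ⟨u, hu⟩ := h1.exists_sw hd hb h5.symm
  obtain ⟨Q, h6, h7⟩ := h1.bt3 ⟨w, mem_top w, v, mem_top v, hw'.2.1, hv'.2.1, h4, fa.cm hw hv⟩
    h5.symm hd hu
  have l : ZD.H3 (Iv 𝓓) ⊤ _ b u Q := ⟨h5.symm, hd, hu, h6, h7⟩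
  have key : ∀ x, x ∈ D ∧ x * x = 1 → ∀ y, y ∈ D ∧ y * y = 1 → y * x = x * y := by
    rintro x ⟨hx, xx⟩ y ⟨hy, yy⟩
    by_cases e1 : x = 1
    · simp [e1]
    by_cases e2 : y = 1
    · simp [e2]
    have h8 := (ZD.coset_comm (h1.N_le_norm_Ker (mem_top y)) (h1.N_le_norm_Ker (mem_top x))).1
      (h6.Q0_comm (l.mem_Q0 h1 (hI y hy yy e2)) (h6.Q0_le' (l.mem_Q0 h1 (hI x hx xx e1))))
    rw [← commutatorElement_eq_one_iff_mul_comm]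
    by_contra h9
    have h10 := mem_cent.1 (h.cl (commutator_mem_commutator (h.toPD.le hD hy) (h.toPD.le hD hx)))
      y (h.toPD.le hD hy)
    refine l.not_mem_Ker h1 (hI _ (der_le D (commutator_mem_commutator hy hx)) ?_ h9).2.1 h8
    calc ⁅y, x⁆ * ⁅y, x⁆ = y⁻¹ * (y * ⁅y, x⁆) * ⁅y, x⁆ := by group
      _ = y⁻¹ * (y * x * y⁻¹ * x⁻¹ * y) * (y * x * y⁻¹ * x⁻¹) := by
        rw [h10, commutatorElement_def]
      _ = x * y⁻¹ * x⁻¹ * (y * y) * x * y⁻¹ * x⁻¹ := by group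
      _ = x * y⁻¹ * x⁻¹ * 1 * x * y⁻¹ * x⁻¹ := by rw [yy]
      _ = x * (y * y)⁻¹ * x⁻¹ := by group
      _ = 1 := by rw [yy]; simp
  exact h.nab D hD ((h.gen D hD).trans ((closure_le _).2 fun x hx => le_cent1_iff.1
    ((h.gen D hD).trans ((closure_le _).2 fun y hy => mem_cent1.2 (key x hx y hy)))))

theorem kc_bot (h : P3 T A 𝓓 L) (hO : ∀ D ∈ 𝓓, ∀ u ∈ Zo D, Op' 2 𝒞[u] ≤ 𝒞(Co 𝓓 D))
    (hD : D ∈ 𝓓) (hD' : D' ∈ 𝓓) (hne : D ≠ D') :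
    Kc T 𝒞(Co 𝓓 D) D ≤ 𝒞(Kc T 𝒞(Co 𝓓 D') D') := by
  obtain ⟨E, hE, h1, h2⟩ := h.three D D'
  obtain ⟨u, hu, h3⟩ := h.toPD.exists_Zo hE
  have hu' := (mem_Zo.1 hu).1
  have h4 : Kc T 𝒞[u] D ≤ 𝒞(Op' 2 𝒞[u]) := Kc_le_of
    (H1.le_normalizer_centralizer (Nc_le.trans (nO _)))
    (cent_comm.1 ((hO E hE u hu).trans (PD.cCo_le hD h1.symm)))
  have h5 := h.toPD.sep1 (h.toPD.A_le hE hu) (h.star1 E hE u hu h3) hD hD' hne
  refine commutator_eq_bot_iff.1 (eq_bot_iff.2 ((commutator_mono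
    (Kc_mono ((PD.cCo_le hE h1).trans (cent_le_cent1 hu')))
    (Kc_mono ((PD.cCo_le hE h2).trans (cent_le_cent1 hu')))).trans
    (comm_closure_le (by rw [norm_bot]; exact le_top)
    (by rw [norm_bot]; exact le_top) fun s hs t ht => mem_bot.2 ?_)))
  have h6 := h5 (commutator_mem_commutator (subset_closure hs) (subset_closure ht))
  have h7 : Commute ⁅s, t⁆ s := mem_cent.1 (h4 (subset_closure hs)) _ h6
  obtain ⟨k, -, hk⟩ := hs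
  obtain ⟨n, hn⟩ := h.sc.two _ (h.sub (h.toPD.le hD hk))
  rw [conj_pow, conj_eq_one_iff] at hn
  refine St.eq_one_of_odd_of_pow (odd_elt (odd_Op' _) h6) (k := n) ?_
  have h8 : s⁻¹ * ⁅s, t⁆ = t * s⁻¹ * t⁻¹ := by rw [commutatorElement_def]; group
  have h9 := h7.symm.inv_left.mul_pow (2 ^ n)
  rw [h8, conj_pow, inv_pow, hn] at h9
  simpa using h9.symm

end P3

theorem P3.main (h : P3 T A 𝓓 L) (hD : D ∈ 𝓓) : 𝒩(A) ≤ 𝒩(D) := by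
  obtain ⟨W, hW, hN, key⟩ := h.exists_W
  have two : ∀ D : Subgroup G, ∃ E ∈ 𝓓, ∃ E' ∈ 𝓓, E ≠ E' ∧ E ≠ D ∧ E' ≠ D ∧
      ∃ α β, F4 α ∧ F4 β ∧ α ≤ E ∧ β ≤ E' := fun D => by
    obtain ⟨E, hE, h1, -⟩ := h.three D D
    obtain ⟨E', hE', h2, h3⟩ := h.three D E
    obtain ⟨α, fa, ha⟩ := h.toPD.exists_f4' hE
    obtain ⟨β, fb, hb⟩ := h.toPD.exists_f4' hE'
    exact ⟨E, hE, E', hE', h3.symm, h1, h2, α, β, fa, fb, ha, hb⟩
  by_cases hW1 : W = ⊥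
  swap
  · have h1 := h.eq_top (M := 𝒩(W)) ⟨hN, fun D hD => ?_, fun D hD u hu _ => ?_⟩
    · exact absurd (eq_bot_iff.2 ((le_Op' hW le_top h1.ge).trans h.core.le)) hW1
    all_goals
      obtain ⟨E, hE, E', hE', h1, h2, h3, α, β, fa, fb, ha, hb⟩ := two D
      rw [← key E hE E' hE' h1 α β fa fb ha hb]
    · exact (le_inf ((PD.cCo_le hE h2).trans (cent_le_cent ha))
        ((PD.cCo_le hE' h3).trans (cent_le_cent hb))).trans cent_le_norm_Wd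
    · exact h.O_le_norm hE hE' hD h1 h2 h3 (mem_Zo.1 hu).1 (mem_Zo.1 hu).2.2 fa fb ha hb
  have hO : ∀ D ∈ 𝓓, ∀ u ∈ Zo D, Op' 2 𝒞[u] ≤ 𝒞(Co 𝓓 D) := fun D hD u hu => by
    refine cent_comm.1 (sSup_le fun E hE => (h.gen E hE.1).trans ((closure_le _).2 fun x hx => ?_))
    obtain ⟨α, fa, ha, h1⟩ := h.toPD.exists_f4 hE.1 hx.1 hx.2
    obtain ⟨E', hE', h2, h3⟩ := h.three D E
    obtain ⟨β, fb, hb⟩ := h.toPD.exists_f4' hE'
    have h4 := h.O_le hE.1 hE' hD h3.symm hE.2 h2 (mem_Zo.1 hu).1 (mem_Zo.1 hu).2.2 fa fb ha hb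
    rw [key E hE.1 E' hE' h3.symm α β fa fb ha hb, hW1, bot_sup_eq] at h4
    exact cent_comm.1 (h4.trans inf_le_right) h1
  set M := ⨆ E ∈ 𝓓, Kc T 𝒞(Co 𝓓 E) E with hM
  have hle : ∀ E ∈ 𝓓, Kc T 𝒞(Co 𝓓 E) E ≤ M := fun E hE =>
    le_iSup₂ (f := fun E (_ : E ∈ 𝓓) => Kc T 𝒞(Co 𝓓 E) E) E hE
  have hAM : A ≤ M := h.sup.ge.trans (sSup_le fun E hE => le_Kc.trans (hle E hE))
  have hNM : 𝒩(A) ≤ 𝒩(M) := fun g hg => mem_normalizer_of_cj_le (cj_le_iff_le_cj.2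
    (iSup₂_le fun E hE => cj_le_iff_le_cj.1 ((cj_Kc_le h.sc (by
      rw [cj_centralizer]; exact cent_le_cent (h.toPD.cj_Co hg)) le_rfl).trans
        (hle _ (h.conj g hg E hE)))))
  have hC : ∀ E ∈ 𝓓, 𝒞(Co 𝓓 E) ≤ 𝒩(M) := fun E hE g hg => by
    have nC : A ≤ 𝒩(𝒞(Co 𝓓 E)) := H1.le_normalizer_centralizer h.toPD.norm_Co
    have nK : A ≤ 𝒩(Nc T 𝒞(Co 𝓓 E)) := nC.trans h.sc.norm_Nc
    have h1 : Nc T 𝒞(Co 𝓓 E) ≤ M := (closure_le _).2 fun x hx => by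
      obtain ⟨n, hn⟩ := h.sc.two x hx.1
      obtain ⟨k, hk, h2⟩ := h.toSA.exists_cj_inf nK (isPGroup_zpowers hn) (h.sc.zpowers hx.1)
        (zpowers_le.2 (subset_closure hx))
      obtain ⟨d, hd, e, he, h3⟩ := h.toPD.exists_mul hE (h2 (conj_mem_cj (mem_zpowers x))).1
      have h4 := mem_cent.1 (Nc_le hk) e he
      have h5 : x = k⁻¹ * d * k * e := by
        rw [mul_assoc _ k, ← h4, ← mul_assoc, mul_assoc k⁻¹, ← h3]; group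
      rw [h5]
      exact mul_mem (hle E hE (subset_closure ⟨k, hk, by simpa [mul_assoc] using hd⟩))
        (hAM (h.toPD.Co_le he))
    obtain ⟨k, hk, h2⟩ := h.toPD.exists_cj_cent hE hg le_rfl nK Nc_le
      (le_Nc (h.sc.cjj (h.toPD.sub_T hE le_rfl) g) (cj_le_of_mem hg (h.toPD.le_cCo hE)))
    have h3 : k * g ∈ 𝒩(A) := by
      rw [← h.toPD.sup_Co hE]
      exact H1.le_normalizer_sup (zpowers_le.2 (mem_normalizer_of_cj_le h2))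
        (zpowers_le.2 (cent_le_norm (mul_mem (Nc_le hk) hg))) (mem_zpowers _)
    exact (𝒩(M).mul_mem_cancel_left (le_normalizer (h1 hk))).1 (hNM h3)
  have h1 := h.eq_top (M := 𝒩(M)) ⟨hNM, hC, fun D hD u hu _ => (hO D hD u hu).trans (hC D hD)⟩
  have h2 : ⊤ ≤ M := h.top.ge.trans (h.toSA.nc_le le_top hAM h1.ge)
  have h3 : M ≤ 𝒩(Kc T 𝒞(Co 𝓓 D) D) := iSup₂_le fun E hE => by
    by_cases e : E = D
    · rw [e]; exact le_normalizer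
    · exact (h.kc_bot hO hE hD e).trans cent_le_norm
  intro g hg
  by_contra h4
  have h5 := h.conj g hg D hD
  have h6 : cj g D ≤ Kc T 𝒞(Co 𝓓 D) D :=
    (cj_mono g le_Kc).trans (cj_eq_self_iff.2 (h3 (h2 (mem_top g)))).le
  exact h.nab _ h5 (h6.trans ((h.kc_bot hO hD h5 fun e => h4 (cj_eq_self_iff.1 e.symm)).trans
    (cent_le_cent le_Kc)))

end Cfsg.Agent.C2
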