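import Cfsg.Agent.Lib.C2.A5b
import Cfsg.Agent.Lib.C2.A5f

/-!
# S1170: one factor (part A5) (see notes/C2.md)
-/

set_option autoImplicit false
set_option linter.unusedSectionVars false
set_option linter.unusedVariables false

namespace Cfsg.Agent.C2

open Subgroup Cfsg.Agent.H6 Cfsg.Agent.FT Cfsg.Agent.BD.P1 Cfsg.Agent.G75 Cfsg.Agent.G74 W8
open Cfsg.Agent.St (Od)
open scoped commutatorElement

universe u

variable {G : Type*} [Group G] [Finite G] {T : Set G}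
variable {A B C D D' E H H' K M N P Q R S U V W X Y : Subgroup G}
variable {a b b' c d e g n r s t v w x y z : G}
variable {𝓓 I J : Set (Subgroup G)} {L : Subgroup G → Subgroup G}

theorem SA.sup_O_inf (h : SA T A) (hA : A ≤ H) (hB : B ≤ A) : (B ⊔ Op' 2 H) ⊓ A = B := by
  rw [H1.sup_inf_assoc_of_le ((hB.trans hA).trans (nO H)) hB, h.O_inf, sup_bot_eq]

theorem PD.star_two (h : PD T A 𝓓 L) (h2 : ∀ D'' ∈ 𝓓, D'' = D ∨ D'' = D') : Star T A 𝓓 ⊤ := by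
  intro E hE n hn
  by_contra h1
  refine h.idx (H := ⊤) (M := Nc T ⊤ ⊓ 𝒩(A) ⊓ 𝒩(E)) le_top (le_inf (le_inf (le_Nc h.sub le_top)
    le_normalizer) (h.norm hE)) inf_le_left (relIndex_eq_two_iff.2 ⟨n, hn, fun r hr => ?_⟩)
  by_cases h3 : r ∈ 𝒩(E)
  · refine Or.inr ⟨⟨hr, h3⟩, fun e => h1 ?_⟩
    simpa using mul_mem (inv_mem h3) (mem_inf.1 e).2
  refine Or.inl ⟨⟨mul_mem hr hn, cj_eq_self_iff.1 ?_⟩, fun e => h3 e.2⟩
  have k1 : cj r E ≠ E := fun e => h3 (cj_eq_self_iff.1 e)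
  have k2 : cj (r * n) E ≠ cj r E := fun e =>
    h1 (cj_eq_self_iff.1 (cj_injective r (by rw [cj_cj, e])))
  rcases h2 _ hE with e1 | e1 <;> rcases h2 _ (h.conj r hr.2 E hE) with e2 | e2 <;>
    rcases h2 _ (h.conj _ (mul_mem hr hn).2 E hE) with e3 | e3 <;>
    first
      | exact e3.trans e1.symm
      | exact absurd (e2.trans e1.symm) k1
      | exact absurd (e3.trans e2.symm) k2

theorem PD.star_of_Kc (h : PD T A 𝓓 L) (hA : A ≤ H) (hD : D ∈ 𝓓) (h1 : H ⊓ 𝒩(A) ≤ 𝒩(D))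
    (h2 : H ⊓ 𝒩(A) ≤ 𝒩(Co 𝓓 D))
    (h3 : ∀ D' ∈ 𝓓, D' ≠ D → Kc T H (Co 𝓓 D) ⊓ 𝒩(Co 𝓓 D) ≤ 𝒩(D')) : Star T A 𝓓 H := by
  intro D' hD' n hn
  by_cases hne : D' = D
  · exact hne ▸ h1 ⟨Nc_le hn.1, hn.2⟩
  have hK := le_Nc h.sub hA
  have hE : Kc T H (Co 𝓓 D) ≤ Nc T H := Kc_le (h.Co_le.trans hK)
  have hs : ⁅Kc T H D, Kc T H (Co 𝓓 D)⁆ ≤ Op' 2 H := by
    simpa [Co] using h.sep hA (Set.singleton_subset_iff.2 hD) (Set.diff_subset (t := {D}))
      Set.disjoint_sdiff_right (by simpa using (inf_le_inf_right _ Nc_le).trans h1)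
      ((inf_le_inf_right _ Nc_le).trans h2)
  have h4 : Nc T H ≤ Kc T H D ⊔ Kc T H (Co 𝓓 D) := h.Nc_le_of hA fun D'' hD'' => by
    by_cases e : D'' = D
    · exact e ▸ le_sup_left
    · exact le_trans (Subgroup.closure_mono fun x ⟨k, hk, hx⟩ =>
        (⟨k, hk, PD.le_Co hD'' e hx⟩ : ∃ k ∈ Nc T H, k * x * k⁻¹ ∈ Co 𝓓 D)) le_sup_right
  obtain ⟨j, hj, k, hk, rfl⟩ := (H1.mem_sup_of_le_normalizer (hE.trans norm_Kc)).1 (h4 hn.1)
  have h5 : ∀ x ∈ Co 𝓓 D, ∃ o ∈ Op' 2 H, j * k * x * (j * k)⁻¹ = o * (k * x * k⁻¹) := fun x hx =>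
    ⟨_, hs (commutator_mem_commutator hj (mul_mem (mul_mem hk (le_Kc hx)) (inv_mem hk))), by
      rw [commutatorElement_def]; group⟩
  obtain ⟨r, hr, h6⟩ := h.exists_cj_inf (L := (Co 𝓓 D ⊔ Op' 2 H) ⊓ Kc T H (Co 𝓓 D))
    (H1.le_normalizer_inf (H1.le_normalizer_sup (h.norm_sSup Set.diff_subset) (hA.trans (nO H)))
      (hK.trans norm_Kc)) (isPGroup_cj k (h.two.to_le h.Co_le))
    (h.sc.cjj (fun x hx => h.sub (h.Co_le hx)) k) (le_inf (cj_le_iff.2 fun x hx => by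
      obtain ⟨o, ho, e⟩ := h5 x hx
      rw [eq_inv_mul_of_mul_eq e.symm]
      exact mul_mem (mem_sup_right (inv_mem ho)) (mem_sup_left
        (conj_mem_of_mem_normalizer (h2 ⟨Nc_le hn.1, hn.2⟩) hx))) (cj_le_of_mem hk le_Kc))
  have h7 : r * k ∈ 𝒩(D') := h3 D' hD' hne ⟨mul_mem hr.2 hk, mem_normalizer_of_cj_le (by
    rw [← cj_cj]
    exact h6.trans ((le_inf (inf_le_right.trans inf_le_left) inf_le_left).trans
      (h.sup_O_inf hA h.Co_le).le))⟩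
  have h8 : r ∈ 𝒩(D' ⊔ Op' 2 H) := (sup_le (H1.le_normalizer_sup (h.Co_le.trans (h.norm hD'))
    ((h.Co_le.trans hA).trans (nO H))) (le_sup_right.trans le_normalizer)) hr.1
  refine mem_normalizer_of_conj_mem fun x hx => (h.sup_O_inf hA (h.le hD')).le
    ⟨?_, conj_mem_of_mem_normalizer hn.2 (h.le hD' hx)⟩
  obtain ⟨o, ho, e⟩ := h5 x (PD.le_Co hD' hne hx)
  rw [e]
  refine mul_mem (mem_sup_right ho) ?_
  simpa [mul_assoc] using conj_mem_of_mem_normalizer' h8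
    (mem_sup_left (conj_mem_of_mem_normalizer h7 hx))

theorem norm_of_comap5 (hg : g ∈ K) (hX : X ≤ K) :
    (⟨g, hg⟩ : K) ∈ 𝒩(X.comap K.subtype) ↔ g ∈ 𝒩(X) := by
  rw [← cj_eq_self_iff, ← cj_eq_self_iff, cj_comap5]
  refine ⟨fun e => ?_, fun e => congrArg _ e⟩
  have := congrArg (Subgroup.map K.subtype) e
  rwa [map_comap_eq_self (by rw [range_subtype]; exact cj_le_of_mem hg hX),
    map_comap_eq_self (by rwa [range_subtype])] at this

theorem star_aux (m : ℕ) : ∀ (G : Type u) [Group G] [Finite G] (T : Set G) (A : Subgroup G)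
    (𝓓 : Set (Subgroup G)) (L : Subgroup G → Subgroup G), Nat.card G + 𝓓.ncard = m →
    PD T A 𝓓 L → Star T A 𝓓 ⊤ := by
  induction m using Nat.strong_induction_on with
  | _ m ih =>
  intro G _ _ T A 𝓓 L hm h
  by_cases h3 : ¬ ∀ D D' : Subgroup G, ∃ D'' ∈ 𝓓, D'' ≠ D ∧ D'' ≠ D'
  · push Not at h3
    obtain ⟨D, D', h3⟩ := h3
    exact h.star_two fun D'' hD'' => or_iff_not_imp_left.2 (h3 D'' hD'')
  rw [not_not] at h3
  have hK := le_Nc h.sub (le_top : A ≤ ⊤)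
  by_cases ht : ¬ Nc T ⊤ = ⊤
  · have h1 := h.comap (f := (Nc T ⊤).subtype) (subtype_injective _) subset_rfl
      (fun D hD => by rw [range_subtype]; exact (h.L_le_Nc hD).trans (Nc_mono le_top))
      (h.sup.symm ▸ h.toSA.comap (subtype_injective _) (by rwa [range_subtype]))
      fun g _ P => h.sup.symm ▸ h.pf g P
    have h2 := ih _ (hm ▸ add_lt_add_of_lt_of_le (H1.card_lt_of_ne_top ht)
      (Set.ncard_image_le (Set.toFinite _))) _ _ _ _ _ rfl h1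
    intro D hD n hn
    refine (norm_of_comap5 hn.1 ((h.le hD).trans hK)).1 (h2 _ ⟨D, hD, rfl⟩
      ⟨?_, h.sup.symm ▸ (norm_of_comap5 hn.1 hK).2 hn.2⟩)
    refine comap_le5 (subtype_injective _) (X := Nc T ⊤) ((closure_le _).2 fun x hx => ?_) hn.1
    exact ⟨⟨x, subset_closure hx⟩, subset_closure ⟨hx.1, mem_top _⟩, rfl⟩
  rw [not_not] at ht
  by_cases hO : ¬ pPrimeCore 2 G = ⊥
  · have hk : Odd (Nat.card (QuotientGroup.mk' (pPrimeCore 2 G)).ker) := by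
      rw [QuotientGroup.ker_mk', ← Op'_top Nat.prime_two]; exact odd_Op' _
    have h2 := ih _ (hm ▸ add_lt_add_of_lt_of_le (H1.card_quotient_lt hO)
      (Set.ncard_image_le (Set.toFinite _))) _ _ _ _ _ rfl
      (h.map (QuotientGroup.mk'_surjective _) hk)
    intro D hD n hn
    have h4 := cj_eq_self_iff.2 (h2 _ ⟨D, hD, rfl⟩ (x := QuotientGroup.mk' _ n) ⟨?_, ?_⟩)
    · rw [← map_cj5] at h4
      rw [← cj_eq_self_iff, ← h.comap_map5 hk (h.le (h.conj n hn.2 D hD)), h4,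
        h.comap_map5 hk (h.le hD)]
    · refine (show Nc T ⊤ ≤ (Nc _ ⊤).comap (QuotientGroup.mk' _) from
        (closure_le _).2 fun x hx => ?_) hn.1
      exact subset_closure ⟨⟨x, hx.1, rfl⟩, mem_top _⟩
    · exact cj_eq_self_iff.1 (by rw [← map_cj5, cj_eq_self_iff.2 hn.2])
  rw [not_not, ← Op'_top Nat.prime_two] at hO
  refine fun D hD => inf_le_right.trans (P3.main ⟨h, h3, ht, hO, fun D hD u hu hu1 => ?_⟩ hD)
  have hA := h.A_le hD hu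
  have hK := le_Nc h.sub hA
  have hu2 := (mem_Zo.1 hu).1
  have fx : ∀ g ∈ 𝒞[u], g * u * g⁻¹ = u := fun g hg => by rw [mem_cent1.1 hg]; group
  have h1 : 𝒞[u] ⊓ 𝒩(A) ≤ 𝒩(D) := fun n hn => cj_eq_self_iff.1
    (h.eq_of_mem (h.conj n hn.2 D hD) hD (fx n hn.1 ▸ conj_mem_cj hu2) hu2 hu1)
  have h2 : 𝒞[u] ⊓ 𝒩(A) ≤ 𝒩(Co 𝓓 D) := fun n hn => mem_normalizer_of_cj_le
    (cj_le_iff_le_cj.2 (sSup_le fun D' hD' => cj_le_iff_le_cj.1 (PD.le_Co (h.conj n hn.2 D' hD'.1)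
      fun e => hD'.2 (cj_injective n (e.trans (cj_eq_self_iff.2 (h1 hn)).symm)))))
  refine h.star_of_Kc hA hD h1 h2 fun D' hD' hne n hn => ?_
  have h4 := h.comap (f := (Nc T 𝒞[u]).subtype) (subtype_injective _) (Set.diff_subset (t := {D}))
    (fun D' hD' => by
      rw [range_subtype]
      exact (h.L_le_Nc hD'.1).trans (Nc_mono ((h.L_cent hD'.1 hD (Ne.symm hD'.2)).trans
        (cent_le_cent1 hu2))))
    ((h.toSA.comap (subtype_injective _) (by rwa [range_subtype])).of_fus (comap_mono h.Co_le)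
      fun x hx g hg => h.fus hA Set.diff_subset ((inf_le_inf_right _ Nc_le).trans h2) hx g.2 hg)
    fun g hg P hP hP' => by
      rw [range_subtype] at hg
      obtain ⟨σ, h5, h6⟩ := h.pf g (P ⊔ zpowers u) (sup_le (hP.trans h.Co_le)
        (zpowers_le.2 (h.le hD hu2))) (by
          rw [cj_sup, cj_zpowers, fx g (Nc_le hg)]
          exact sup_le (hP'.trans h.Co_le) (zpowers_le.2 (h.le hD hu2)))
      have h7 : σ D = D := h.eq_of_mem (h5.mapsTo hD) hD (by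
        simpa [fx g (Nc_le hg)] using h6 {D} (Set.singleton_subset_iff.2 hD)
          (conj_mem_cj ⟨mem_sup_right (mem_zpowers u), by simpa using hu2⟩)) hu2 hu1
      refine ⟨σ, ⟨fun X hX => ⟨h5.mapsTo hX.1, fun e => hX.2 (h5.injOn hX.1 hD (e.trans h7.symm))⟩,
        h5.injOn.mono Set.diff_subset, fun X hX => ?_⟩, fun J hJ =>
        (cj_mono g (inf_le_inf_right _ le_sup_left)).trans (h6 J (hJ.trans Set.diff_subset))⟩
      obtain ⟨Y, hY, rfl⟩ := h5.surjOn hX.1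
      exact ⟨Y, ⟨hY, fun e => hX.2 (e ▸ h7)⟩, rfl⟩
  have h5 := ih _ (hm ▸ add_lt_add_of_le_of_lt (card_le_card_group _)
    ((Set.ncard_image_le (Set.toFinite _)).trans_lt
      (Set.ncard_diff_singleton_lt_of_mem hD))) _ _ _ _ _ rfl h4
  have hE := h.Co_le (D := D).trans hK
  have hn1 := Kc_le hE hn.1
  refine (norm_of_comap5 hn1 ((h.le hD').trans hK)).1 (h5 _ ⟨D', ⟨hD', hne⟩, rfl⟩
    ⟨?_, (norm_of_comap5 hn1 hE).2 hn.2⟩)
  refine comap_le5 (subtype_injective _) (X := Kc T 𝒞[u] (Co 𝓓 D)) ?_ hn.1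
  rw [Kc_eq_map hE]
  exact map_mono (closure_mono fun x hx => ⟨hx, mem_top _⟩)

theorem PD.star (h : PD T A 𝓓 L) (hD : D ∈ 𝓓) : Nc T ⊤ ⊓ 𝒩(A) ≤ 𝒩(D) :=
  star_aux _ G T A 𝓓 L rfl h D hD

end Cfsg.Agent.C2
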