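import Cfsg.Agent.Lib.C2.Basic

/-!
# S1170: one factor (part A5), local analysis (see notes/C2.md)
-/

set_option autoImplicit false
set_option linter.unusedSectionVars false
set_option linter.unusedVariables false

namespace Cfsg.Agent.C2

open Subgroup Cfsg.Agent.H6 Cfsg.Agent.FT Cfsg.Agent.BD.P1 Cfsg.Agent.G75 Cfsg.Agent.G74 W8
open Cfsg.Agent.St (Od)
open scoped commutatorElement

universe u

variable {G : Type*} [Group G] [Finite G] {T : Set G}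
variable {A B C D D' E H H' K M N P Q R S U V W X Y : Subgroup G}
variable {a b b' c d e g n r s t v w x y z : G}
variable {𝓓 I J : Set (Subgroup G)} {L : Subgroup G → Subgroup G}

/-- The conclusion of part A5 in the subgroup `H`. -/
def Star (T : Set G) (A : Subgroup G) (𝓓 : Set (Subgroup G)) (H : Subgroup G) : Prop :=
  ∀ D ∈ 𝓓, Nc T H ⊓ 𝒩(A) ≤ 𝒩(D)

/-- The minimal configuration with at least three factors. -/
structure P3 (T : Set G) (A : Subgroup G) (𝓓 : Set (Subgroup G)) (L : Subgroup G → Subgroup G) :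
    Prop extends PD T A 𝓓 L where
  three : ∀ D D' : Subgroup G, ∃ D'' ∈ 𝓓, D'' ≠ D ∧ D'' ≠ D'
  top : Nc T ⊤ = ⊤
  core : Op' 2 (⊤ : Subgroup G) = ⊥
  star1 : ∀ D ∈ 𝓓, ∀ u ∈ Zo D, u ≠ 1 → Star T A 𝓓 𝒞[u]

theorem Star.mono (h : Star T A 𝓓 H) (h1 : H' ≤ H) : Star T A 𝓓 H' :=
  fun D hD => (inf_le_inf_right _ (Nc_mono h1)).trans (h D hD)

theorem norm_sSup_of (h : ∀ D ∈ I, K ≤ 𝒩(D)) : K ≤ 𝒩(sSup I) := fun g hg =>
  mem_normalizer_of_cj_le (cj_le_iff_le_cj.2 (sSup_le fun D hD => cj_le_iff_le_cj.1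
    ((cj_eq_self_iff.2 (h D hD hg)).le.trans (le_sSup hD))))

theorem SA.O_norm (h : SA T A) (hA : A ≤ H) : Op' 2 H ⊓ 𝒩(A) ≤ 𝒞(A) :=
  commutator_eq_bot_iff.1 (le_bot_iff.1 ((le_inf ((commutator_mono inf_le_left le_rfl).trans
    (commutator_le_left (hA.trans (nO H)))) (commutator_le_right inf_le_right)).trans h.O_inf.le))

theorem SA.Kc_comm (h : SA T A) (hA : A ≤ H) (hU : U ≤ A) (hV : V ≤ A)
    (h1 : ∀ x ∈ U, ∀ g ∈ Nc T H, g * x * g⁻¹ ∈ A → g * x * g⁻¹ ∈ U)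
    (h2 : ∀ x ∈ V, ∀ g ∈ Nc T H, g * x * g⁻¹ ∈ A → g * x * g⁻¹ ∈ V)
    (hc : U ≤ 𝒞(V)) (hd : U ⊓ V = ⊥) : ⁅Kc T H U, Kc T H V⁆ ≤ Op' 2 H := by
  have hK := le_Nc h.sub hA
  have h' := h.comap (f := (Nc T H).subtype) (Nc T H).subtype_injective (by rwa [range_subtype])
  have := ((h'.of_fus (comap_mono hU) fun x hx g hg => h1 x hx g g.2 hg).pr
    (h'.of_fus (comap_mono hV) fun x hx g hg => h2 x hx g g.2 hg)
    (fun x hx => mem_cent.2 fun y hy => Subtype.ext (mem_cent.1 (hc hx) y hy))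
    (by rw [← comap_inf, hd, MonoidHom.comap_bot, ker_subtype])).comm_le
  rw [Kc_eq_map (hU.trans hK), Kc_eq_map (hV.trans hK), ← Subgroup.map_commutator]
  refine (map_mono this).trans ?_
  rw [← Op'_eq_map Nat.prime_two]
  exact core_le_of_normal h.sc.normal_Nc

theorem four_conj (hb : orderOf b = 2) (hb' : orderOf b' = 2) (hne : b ≠ b') (hc : b * b' = b' * b)
    (hn : n ∈ 𝒩(zpowers b ⊔ zpowers b')) (hn' : n ∈ 𝒞[b * b']) :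
    n * b * n⁻¹ = b ∨ n * b * n⁻¹ = b' := by
  have h1 : b ≠ 1 := fun e => by simp [e] at hb
  have h1' : b' ≠ 1 := fun e => by simp [e] at hb'
  have m1 : b ∈ zpowers b ⊔ zpowers b' := mem_sup_left (mem_zpowers b)
  rcases (f4_sup hb hb' hne hc).cases m1 (mem_sup_right (mem_zpowers b')) h1 h1' hne.symm
    (conj_mem_of_mem_normalizer hn m1) with e | e | e | e
  · exact absurd (by simpa using e) h1
  · exact Or.inl e
  · exact Or.inr e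
  · exfalso
    have h3 : n * (b * b') * n⁻¹ = b * b' := by rw [mem_cent1.1 hn']; group
    rw [← h3] at e
    exact h1' (by simpa using e)

theorem four_cent (hn : n ∈ 𝒞[b]) (hn' : n ∈ 𝒞[b * b']) : n ∈ 𝒞(zpowers b ⊔ zpowers b') := by
  rw [FT.cent_sup, cent_zpowers, cent_zpowers]
  refine ⟨hn, mem_cent1.2 (mul_left_cancel (a := b) ?_)⟩
  rw [← mul_assoc, ← mem_cent1.1 hn, mul_assoc, mem_cent1.1 hn', mul_assoc]

theorem four_mul (hb : orderOf b = 2) (hb' : orderOf b' = 2) (hne : b ≠ b') (hc : b * b' = b' * b)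
    (hn : n ∈ 𝒩(zpowers b ⊔ zpowers b')) (hn' : n ∈ 𝒞[b * b'])
    (hr : r ∈ 𝒩(zpowers b ⊔ zpowers b')) (hr' : r ∈ 𝒞[b * b'])
    (h1 : n ∉ 𝒞(zpowers b ⊔ zpowers b')) (h2 : r ∉ 𝒞(zpowers b ⊔ zpowers b')) :
    r * n ∈ 𝒞(zpowers b ⊔ zpowers b') := by
  have k1 := (four_conj hb hb' hne hc hn hn').resolve_left fun e =>
    h1 (four_cent (mem_cent1.2 (mul_inv_eq_iff_eq_mul.1 e)) hn')
  have k2 := (four_conj hb hb' hne hc hr hr').resolve_left fun e =>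
    h2 (four_cent (mem_cent1.2 (mul_inv_eq_iff_eq_mul.1 e)) hr')
  refine four_cent (mem_cent1.2 (mul_inv_eq_iff_eq_mul.1 ?_)) (mul_mem hr' hn')
  have k3 : r * (b * b') * r⁻¹ = b * b' := by rw [mem_cent1.1 hr']; group
  calc r * n * b * (r * n)⁻¹ = (r * b * r⁻¹)⁻¹ * (r * (b * (n * b * n⁻¹)) * r⁻¹) := by group
    _ = b := by rw [k1, k2, k3, hc]; group

theorem four_top (h : ZA T (zpowers b ⊔ zpowers b')) (hb : orderOf b = 2) (hb' : orderOf b' = 2)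
    (hne : b ≠ b') (hc : b * b' = b' * b) (hz : ∀ g, g ∈ 𝒞[b * b']) :
    ⊤ ≤ Op' 2 (⊤ : Subgroup G) ⊔ 𝒩(zpowers b ⊔ zpowers b') := by
  refine (h.frattini (le_Nc h.sub le_top) h.sc.normal_Nc).trans (sup_le ((h.le_of_cent le_top
    fun n hn => ?_).trans (sup_le_sup_left le_normalizer _)) (inf_le_right.trans le_sup_right))
  by_contra h1
  refine h.sa.idx (H := ⊤) (M := Nc T ⊤ ⊓ 𝒞(zpowers b ⊔ zpowers b')) le_top
    (le_inf (le_Nc h.sub le_top) h.le_cent) (inf_le_inf_left _ cent_le_norm) ?_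
  refine relIndex_eq_two_iff.2 ⟨n, hn, fun r hr => ?_⟩
  by_cases h2 : r ∈ 𝒞(zpowers b ⊔ zpowers b')
  · refine Or.inr ⟨⟨hr.1, h2⟩, fun e => h1 ?_⟩
    simpa using mul_mem (inv_mem h2) e.2
  · exact Or.inl ⟨⟨mul_mem hr.1 hn.1, four_mul hb hb' hne hc hn.2 (hz _) hr.2 (hz _) h1 h2⟩,
      fun e => h2 e.2⟩

namespace PD

theorem sSup_le' (h : PD T A 𝓓 L) (hI : I ⊆ 𝓓) : sSup I ≤ A := h.sup ▸ sSup_le_sSup hI
theorem le (h : PD T A 𝓓 L) (hD : D ∈ 𝓓) : D ≤ A := h.sup ▸ le_sSup hD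
theorem le_Co (hD' : D' ∈ 𝓓) (hne : D' ≠ D) : D' ≤ Co 𝓓 D := le_sSup ⟨hD', hne⟩
theorem sSup_le_Co (hI : I ⊆ 𝓓) (hD : D ∉ I) : sSup I ≤ Co 𝓓 D :=
  sSup_le fun D' hD' => le_Co (hI hD') fun e => hD (e ▸ hD')
theorem Co_le (h : PD T A 𝓓 L) : Co 𝓓 D ≤ A := h.sSup_le' Set.diff_subset
theorem sup_Co (h : PD T A 𝓓 L) (hD : D ∈ 𝓓) : D ⊔ Co 𝓓 D = A :=
  le_antisymm (sup_le (h.le hD) h.Co_le) (h.sup.ge.trans (sSup_le fun D' hD' => by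
    by_cases e : D' = D
    · exact e ▸ le_sup_left
    · exact (le_Co hD' e).trans le_sup_right))
theorem exists_mul (h : PD T A 𝓓 L) (hD : D ∈ 𝓓) (ha : a ∈ A) :
    ∃ d ∈ D, ∃ e ∈ Co 𝓓 D, a = d * e := by
  obtain ⟨d, hd, e, he, rfl⟩ := (H1.mem_sup_of_le_normalizer ((h.cm D hD).trans cent_le_norm)).1
    ((h.sup_Co hD).ge ha)
  exact ⟨d, hd, e, he, rfl⟩
theorem comm (h : PD T A 𝓓 L) (hD : D ∈ 𝓓) (hD' : D' ∈ 𝓓) (hne : D' ≠ D) : D' ≤ 𝒞(D) :=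
  (le_Co hD' hne).trans (h.cm D hD)
theorem disj (h : PD T A 𝓓 L) (hD : D ∈ 𝓓) (hD' : D' ∈ 𝓓) (hne : D ≠ D') : D ⊓ D' = ⊥ :=
  le_bot_iff.1 ((inf_le_inf_left _ (le_Co hD' hne.symm)).trans (h.ind D hD).le)
theorem eq_one (h : PD T A 𝓓 L) (hD : D ∈ 𝓓) (hx : x ∈ D) (hx' : x ∈ Co 𝓓 D) : x = 1 :=
  mem_bot.1 ((h.ind D hD).le ⟨hx, hx'⟩)
theorem eq_of_mem (h : PD T A 𝓓 L) (hD : D ∈ 𝓓) (hD' : D' ∈ 𝓓) (hx : x ∈ D) (hx' : x ∈ D')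
    (h1 : x ≠ 1) : D = D' := by
  by_contra e
  exact h1 (mem_bot.1 ((h.disj hD hD' e).le ⟨hx, hx'⟩))
theorem norm (h : PD T A 𝓓 L) (hD : D ∈ 𝓓) : A ≤ 𝒩(D) :=
  (h.sup_Co hD).ge.trans (sup_le le_normalizer ((h.cm D hD).trans cent_le_norm))
theorem norm_sSup (h : PD T A 𝓓 L) (hI : I ⊆ 𝓓) : A ≤ 𝒩(sSup I) :=
  norm_sSup_of fun D hD => h.norm (hI hD)
theorem cent_le (h : PD T A 𝓓 L) (hD : D ∈ 𝓓) : D ⊓ 𝒞(D) ≤ 𝒞(A) := by
  rw [← h.sup_Co hD, FT.cent_sup]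
  exact le_inf inf_le_right (inf_le_left.trans (cent_comm.1 (h.cm D hD)))
theorem Zo_le_Zo (h : PD T A 𝓓 L) (hD : D ∈ 𝓓) : Zo D ≤ Zo A := fun x hx =>
  have := mem_Zo.1 hx
  mem_Zo.2 ⟨h.le hD this.1, h.cent_le hD ⟨this.1, this.2.1⟩, this.2.2⟩
theorem A_le (h : PD T A 𝓓 L) (hD : D ∈ 𝓓) (hb : b ∈ Zo D) : A ≤ 𝒞[b] :=
  le_cent1_iff.2 (mem_Zo.1 (h.Zo_le_Zo hD hb)).2.1
theorem exists_Zo (h : PD T A 𝓓 L) (hD : D ∈ 𝓓) : ∃ u ∈ Zo D, u ≠ 1 := by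
  by_contra hc
  push Not at hc
  refine h.nab D hD ((h.gen D hD).trans ((closure_le _).2 fun x hx => ?_))
  obtain ⟨g, -, h1⟩ := h.Lz D hD x hx.1 hx.2
  have := hc _ (mem_Zo.2 ⟨h1.1, h1.2, by rw [conj_mul, hx.2]; simp⟩)
  rw [conj_eq_one_iff.1 this]
  exact one_mem _
theorem pf1 (h : PD T A 𝓓 L) (g : G) (hP : P ≤ A) (hP' : cj g P ≤ A) :
    ∃ σ : Subgroup G → Subgroup G, Set.BijOn σ 𝓓 𝓓 ∧ ∀ D ∈ 𝓓, cj g (P ⊓ D) ≤ σ D := by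
  obtain ⟨σ, h1, h2⟩ := h.pf g P hP hP'
  exact ⟨σ, h1, fun D hD => by simpa using h2 {D} (Set.singleton_subset_iff.2 hD)⟩
/-- Disjoint sets of factors. -/
theorem comm_sSup (h : PD T A 𝓓 L) (hI : I ⊆ 𝓓) (hJ : J ⊆ 𝓓) (hd : Disjoint I J) :
    sSup I ≤ 𝒞(sSup J) := sSup_le fun D hD => cent_comm.1
  ((sSup_le_Co hJ (Set.disjoint_left.1 hd hD)).trans (h.cm D (hI hD)))
theorem mem_insert (h : PD T A 𝓓 L) (hD : D ∈ 𝓓) (hI : I ⊆ 𝓓) (hx : x ∈ sSup (insert D I)) :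
    ∃ d ∈ D, ∃ y ∈ sSup I, d * y = x := by
  rw [sSup_insert] at hx
  exact (H1.mem_sup_of_le_normalizer ((h.sSup_le' hI).trans (h.norm hD))).1 hx
theorem disj_sSup (h : PD T A 𝓓 L) (hI : I ⊆ 𝓓) (hJ : J ⊆ 𝓓) (hd : Disjoint I J) :
    sSup I ⊓ sSup J = ⊥ := by
  induction I, Set.toFinite I using Set.Finite.induction_on with
  | empty => simp
  | @insert D I hDI _ ih =>
    have hD := hI (Set.mem_insert D I)
    have hI' := (Set.subset_insert D I).trans hI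
    refine le_bot_iff.1 (fun x hx => (ih hI' (hd.mono_left (Set.subset_insert D I))).le ?_)
    obtain ⟨d, h1, y, h2, rfl⟩ := h.mem_insert hD hI' hx.1
    have : d = 1 := h.eq_one hD h1 (by
      simpa using mul_mem (sSup_le_Co hJ (Set.disjoint_left.1 hd (Set.mem_insert D I)) hx.2)
        (inv_mem (sSup_le_Co hI' hDI h2)))
    rw [this, one_mul] at hx ⊢
    exact ⟨h2, hx.2⟩
theorem L_cent (h : PD T A 𝓓 L) (hD : D ∈ 𝓓) (hD' : D' ∈ 𝓓) (hne : D' ≠ D) : L D ≤ 𝒞(D') :=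
  (h.Lc D hD).trans (cent_le_cent (le_Co hD' hne))
/-- Every involution of `A` is conjugate into `Z(A)`, component by component. -/
theorem exists_center (h : PD T A 𝓓 L) (hI : I ⊆ 𝓓) (ha : a ∈ sSup I) (h2 : a * a = 1) :
    ∃ g ∈ sSup (L '' I), g * a * g⁻¹ ∈ sSup I ⊓ 𝒞(A) := by
  induction I, Set.toFinite I using Set.Finite.induction_on generalizing a with
  | empty => exact ⟨1, one_mem _, by
      rw [sSup_empty, mem_bot] at ha; rw [ha]; simpa using one_mem _⟩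
  | @insert D I hDI _ ih =>
    have hD := hI (Set.mem_insert D I)
    have hI' := (Set.subset_insert D I).trans hI
    obtain ⟨d, h1, y, h3, rfl⟩ := h.mem_insert hD hI' ha
    have hy := sSup_le_Co hI' hDI h3
    have hc : d * y = y * d := mem_cent.1 (h.cm D hD hy) d h1
    have h4 : d * d * (y * y) = 1 := by
      rw [← h2, mul_assoc d y, ← mul_assoc y d, ← hc]; simp only [mul_assoc]
    have h5 : d * d = 1 := h.eq_one hD (mul_mem h1 h1) (by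
      rw [eq_inv_of_mul_eq_one_left h4]; exact inv_mem (mul_mem hy hy))
    rw [h5, one_mul] at h4
    obtain ⟨g', hg', h6⟩ := ih hI' h3 h4
    obtain ⟨g, hg, h7⟩ := h.Lz D hD d h1 h5
    have h8 : sSup (L '' I) ≤ 𝒞(D) := sSup_le fun _ ⟨D', hD', e⟩ =>
      e ▸ h.L_cent (hI' hD') hD fun e => hDI (e ▸ hD')
    have h9 := mem_cent.1 (h8 hg') d h1
    have h10 := mem_cent.1 (h.Lc D hD hg) _ (sSup_le_Co hI' hDI h6.1)
    refine ⟨g * g', mul_mem (le_sSup (Set.mem_image_of_mem L (Set.mem_insert D I)) hg)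
      ((sSup_le_sSup (Set.image_mono (Set.subset_insert D I)) : sSup (L '' I) ≤ _) hg'), ?_⟩
    have : g * g' * (d * y) * (g * g')⁻¹ = g * d * g⁻¹ * (g' * y * g'⁻¹) := by
      calc _ = g * (g' * d) * g'⁻¹ * g⁻¹ * (g * (g' * y * g'⁻¹)) * g⁻¹ := by group
        _ = _ := by rw [← h9, ← h10]; group
    rw [this]
    exact mul_mem ⟨le_sSup (Set.mem_insert D I) h7.1, h.cent_le hD h7⟩
      ⟨(sSup_le_sSup (Set.subset_insert D I) : sSup I ≤ _) h6.1, h6.2⟩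
theorem L_le_Nc (h : PD T A 𝓓 L) (hD : D ∈ 𝓓) : L D ≤ Nc T (L D) :=
  (h.Lg D hD).trans (iSup₂_le fun g hg => le_Nc (h.sc.cjj (fun x hx => h.sub (h.le hD hx)) g)
    (cj_le_of_mem hg (h.LD D hD)))

theorem perm (h : PD T A 𝓓 L) (hQ : Q ≤ A) (hc : A ⊓ 𝒞(Q) ≤ Q) (hn : n ∈ 𝒩(Q)) (hD : D ∈ 𝓓) :
    ∃ D' ∈ 𝓓, cj n (Q ⊓ D) = Q ⊓ D' := by
  obtain ⟨σ, h1, h2⟩ := h.pf1 n hQ ((cj_eq_self_iff.2 hn).le.trans hQ)
  obtain ⟨τ, h3, h4⟩ := h.pf1 n⁻¹ hQ ((cj_eq_self_iff.2 (inv_mem hn)).le.trans hQ)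
  obtain ⟨u, hu, hu1⟩ := h.exists_Zo hD
  have hu2 := mem_Zo.1 (h.Zo_le_Zo hD hu)
  have hu3 : u ∈ Q ⊓ D := ⟨hc ⟨hu2.1, cent_le_cent hQ hu2.2.1⟩, (mem_Zo.1 hu).1⟩
  have h5 : cj n (Q ⊓ D) ≤ Q ⊓ σ D :=
    le_inf ((cj_mono n inf_le_left).trans (cj_eq_self_iff.2 hn).le) (h2 D hD)
  have h6 : D = τ (σ D) := h.eq_of_mem hD (h3.mapsTo (h1.mapsTo hD)) hu3.2
    (h4 _ (h1.mapsTo hD) (cj_le_iff_le_cj.1 h5 hu3)) hu1
  refine ⟨σ D, h1.mapsTo hD, le_antisymm h5 ?_⟩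
  rw [← inv_inv n, ← cj_le_iff_le_cj]
  exact le_inf ((cj_mono _ inf_le_left).trans (cj_eq_self_iff.2 (inv_mem hn)).le)
    ((h4 _ (h1.mapsTo hD)).trans h6.ge)

theorem Nc_norm (h : PD T A 𝓓 L) (hQ : Q ≤ A) (hc : A ⊓ 𝒞(Q) ≤ Q) (hI : I ⊆ 𝓓) :
    Nc T 𝒩(Q) ≤ 𝒩(sSup I ⊓ Q) := by
  have hA := h.toSB.norm_of_cent hQ hc
  have h1 : Nc T 𝒩(Q) ≤ 𝒩(Q) ⊓ ⨅ (D : Subgroup G) (_ : D ∈ 𝓓), 𝒩(Q ⊓ D) := by
    refine h.nc_le hA (le_inf hA (le_iInf₂ fun D hD => H1.le_normalizer_inf hA (h.norm hD)))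
      fun n hn => mem_normalizer_of_conj_mem fun g hg =>
        mem_inf.2 ⟨mul_mem (mul_mem hn hg.1) (inv_mem hn), ?_⟩
    refine mem_iInf.2 fun D => mem_iInf.2 fun hD => cj_eq_self_iff.1 ?_
    obtain ⟨D', hD', e⟩ := h.perm hQ hc (inv_mem hn) hD
    rw [← cj_cj, ← cj_cj, e, cj_eq_self_iff.2 (mem_iInf.1 (mem_iInf.1 hg.2 D') hD'), ← e, cj_cj_inv]
  intro g hg
  obtain ⟨hg1, hg2⟩ := h1 hg
  obtain ⟨σ, h2, h3⟩ := h.pf g Q hQ ((cj_eq_self_iff.2 hg1).le.trans hQ)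
  have h4 : ∀ D ∈ 𝓓, σ D = D := fun D hD => by
    obtain ⟨u, hu, hu1⟩ := h.exists_Zo hD
    have hu2 := mem_Zo.1 (h.Zo_le_Zo hD hu)
    have hu3 : u ∈ Q ⊓ D := ⟨hc ⟨hu2.1, cent_le_cent hQ hu2.2.1⟩, (mem_Zo.1 hu).1⟩
    have h5 := h3 {D} (Set.singleton_subset_iff.2 hD)
    rw [sSup_singleton, Set.image_singleton, sSup_singleton,
      cj_eq_self_iff.2 (mem_iInf.1 (mem_iInf.1 hg2 D) hD)] at h5
    exact h.eq_of_mem (h2.mapsTo hD) hD (h5 hu3) hu3.2 hu1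
  refine mem_normalizer_of_cj_le (le_inf ?_
    ((cj_mono g inf_le_right).trans (cj_eq_self_iff.2 hg1).le))
  rw [inf_comm]
  exact (h3 I hI).trans (sSup_le fun _ ⟨D, hD, e⟩ => e ▸ (h4 D (hI hD)).le.trans (le_sSup hD))

/-- (a) -/
theorem fus (h : PD T A 𝓓 L) (hA : A ≤ H) (hI : I ⊆ 𝓓) (h1 : Nc T H ⊓ 𝒩(A) ≤ 𝒩(sSup I))
    (hx : x ∈ sSup I) (hg : g ∈ Nc T H) (h2 : g * x * g⁻¹ ∈ A) : g * x * g⁻¹ ∈ sSup I := by
  have hK := le_Nc h.sub hA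
  refine h.fus_of hK (h.sSup_le' hI) h1 (fun Q hQ => ?_) x hx g hg h2
  refine (h.frattini (le_Nc h.sub (le_inf hK (hQ.norm h.toSB))) h.sc.normal_Nc).trans
    (sup_le ((Nc_mono inf_le_right).trans (h.Nc_norm hQ.lt.le hQ.cent hI))
      (H1.le_normalizer_inf ((inf_le_inf_right _ inf_le_left).trans h1)
        (inf_le_left.trans inf_le_right)))
theorem sep (h : PD T A 𝓓 L) (hA : A ≤ H) (hI : I ⊆ 𝓓) (hJ : J ⊆ 𝓓) (hd : Disjoint I J)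
    (h1 : Nc T H ⊓ 𝒩(A) ≤ 𝒩(sSup I)) (h2 : Nc T H ⊓ 𝒩(A) ≤ 𝒩(sSup J)) :
    ⁅Kc T H (sSup I), Kc T H (sSup J)⁆ ≤ Op' 2 H :=
  h.Kc_comm hA (h.sSup_le' hI) (h.sSup_le' hJ) (fun x hx g hg => h.fus hA hI h1 hx hg)
    (fun x hx g hg => h.fus hA hJ h2 hx hg) (h.comm_sSup hI hJ hd) (h.disj_sSup hI hJ hd)
theorem sep1 (h : PD T A 𝓓 L) (hA : A ≤ H) (hs : Star T A 𝓓 H) (hD : D ∈ 𝓓) (hD' : D' ∈ 𝓓)
    (hne : D ≠ D') : ⁅Kc T H D, Kc T H D'⁆ ≤ Op' 2 H := by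
  simpa using h.sep hA (Set.singleton_subset_iff.2 hD) (Set.singleton_subset_iff.2 hD')
    (Set.disjoint_singleton.2 hne) (by simpa using hs D hD) (by simpa using hs D' hD')
theorem sepCo (h : PD T A 𝓓 L) (hA : A ≤ H) (hs : Star T A 𝓓 H) (hD : D ∈ 𝓓) :
    ⁅Kc T H D, Kc T H (Co 𝓓 D)⁆ ≤ Op' 2 H := by
  simpa [Co] using h.sep hA (Set.singleton_subset_iff.2 hD) (Set.diff_subset (t := {D}))
    Set.disjoint_sdiff_right (by simpa using hs D hD) (norm_sSup_of fun D' hD' => hs D' hD'.1)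
theorem Nc_le_of (h : PD T A 𝓓 L) (hA : A ≤ H) (hJ : ∀ D ∈ 𝓓, Kc T H D ≤ K) : Nc T H ≤ K :=
  (closure_le _).2 fun x hx => by
  obtain ⟨g, hg, h1⟩ := h.exists_conj (le_Nc h.sub hA) hx.1 (subset_closure hx)
  have : sSup 𝓓 ≤ cj g K := sSup_le fun α hα y hy => mem_cj.2
    (hJ α hα (subset_closure ⟨g, hg, by simpa [mul_assoc] using hy⟩))
  exact conj_mem_cj_iff.1 (this (h.sup.ge h1))
theorem star_of_O (h : PD T A 𝓓 L) (hA : A ≤ H') (hH : H' ≤ H) (h1 : Nc T H ≤ Op' 2 H ⊔ H')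
    (hs : Star T A 𝓓 H') : Star T A 𝓓 H := by
  intro D hD n hn
  have hK := le_Nc h.sub hA
  have h2 : Nc T H ≤ Op' 2 H ⊔ Nc T H' :=
    (closure_mono fun x hx => ⟨hx.1, h1 (subset_closure hx)⟩ : Nc T H ≤ Nc T (Op' 2 H ⊔ H')).trans
      (h.nc_le (hA.trans le_sup_right) (hK.trans le_sup_right) (sup_le
        (le_sup_left.trans le_normalizer)
        (H1.le_normalizer_sup (hH.trans (nO H)) h.sc.normal_Nc.norm)))
  obtain ⟨o, ho, k, hk, rfl⟩ :=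
    (H1.mem_sup_of_le_normalizer ((Nc_le.trans hH).trans (nO H))).1 (h2 hn.1)
  have h3 : cj k A = cj o⁻¹ A := by
    conv_rhs => rw [← cj_eq_self_iff.2 hn.2, cj_cj, inv_mul_cancel_left]
  obtain ⟨r, hr, h4⟩ := h.exists_cj_eq (H := (A ⊔ Op' 2 H) ⊓ Nc T H') (h.toSA.cjj k)
    (le_inf le_sup_left hK) (le_inf (h3 ▸ cj_le_of_mem (mem_sup_right (inv_mem ho)) le_sup_left)
      (cj_le_of_mem hk hK))
  rw [cj_cj, cj_eq_self_iff] at h4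
  have h5 : o * r⁻¹ ∈ (A ⊔ Op' 2 H) ⊓ 𝒩(A) := mem_inf.2 ⟨mul_mem (mem_sup_right ho)
    (inv_mem (mem_inf.1 hr).1), by simpa [mul_assoc] using mul_mem (mem_inf.1 hn).2 (inv_mem h4)⟩
  rw [H1.sup_inf_assoc_of_le ((hA.trans hH).trans (nO H)) le_normalizer] at h5
  have h6 := (sup_le (h.norm hD) ((h.O_norm (hA.trans hH)).trans
    ((cent_le_cent (h.le hD)).trans cent_le_norm))) h5
  simpa [mul_assoc] using mul_mem h6 (hs D hD ⟨mul_mem hr.2 hk, h4⟩)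

theorem ord (hb : b ∈ Zo D) (h1 : b ≠ 1) : orderOf b = 2 :=
  orderOf_eq_prime (by rw [pow_two]; exact (mem_Zo.1 hb).2.2) h1
theorem two_ne (h : PD T A 𝓓 L) (hD : D ∈ 𝓓) (hD' : D' ∈ 𝓓) (hne : D ≠ D') (hb : b ∈ Zo D)
    (hb' : b' ∈ Zo D') (h1 : b ≠ 1) : b ≠ b' := fun e =>
  hne (h.eq_of_mem hD hD' (mem_Zo.1 hb).1 (e ▸ (mem_Zo.1 hb').1) h1)
theorem two_cm (h : PD T A 𝓓 L) (hD : D ∈ 𝓓) (hD' : D' ∈ 𝓓) (hb : b ∈ Zo D)
    (hb' : b' ∈ Zo D') : b * b' = b' * b :=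
  mem_cent1.1 (h.A_le hD' hb' (h.le hD (mem_Zo.1 hb).1))
theorem two_le (hc : b * b' = b' * b) : 𝒞[b] ⊓ 𝒞[b'] ≤ 𝒞[b * b'] := fun x hx =>
  mem_cent1_comm.1 (mul_mem (mem_cent1_comm.1 hx.1) (mem_cent1_comm.1 hx.2))

theorem two_fus (h : PD T A 𝓓 L) (hD : D ∈ 𝓓) (hD' : D' ∈ 𝓓) (hne : D ≠ D') (hb : b ∈ D)
    (hb' : b' ∈ D') (h1 : b ≠ 1) (hg : g ∈ 𝒞[b * b']) (h2 : g * b * g⁻¹ ∈ A) :
    g * b * g⁻¹ = b ∨ g * b * g⁻¹ = b' := by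
  have e : g * b * g⁻¹ * (g * b' * g⁻¹) = b * b' := by rw [conj_mul, mem_cent1.1 hg]; group
  have hc : b * b' = b' * b := mem_cent.1 (h.comm hD hD' hne.symm hb') b hb
  have h3 : g * b' * g⁻¹ ∈ A := by
    rw [eq_inv_mul_of_mul_eq e]
    exact mul_mem (inv_mem h2) (mul_mem (h.le hD hb) (h.le hD' hb'))
  obtain ⟨σ, h4, h5⟩ := h.pf1 (P := zpowers b ⊔ zpowers b') g
    (sup_le (zpowers_le.2 (h.le hD hb)) (zpowers_le.2 (h.le hD' hb')))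
    (by rw [cj_sup, cj_zpowers, cj_zpowers]; exact sup_le (zpowers_le.2 h2) (zpowers_le.2 h3))
  have m1 := h5 D hD (conj_mem_cj ⟨mem_sup_left (mem_zpowers b), hb⟩)
  have m2 := h5 D' hD' (conj_mem_cj ⟨mem_sup_right (mem_zpowers b'), hb'⟩)
  have m3 := le_Co (h4.mapsTo hD') (fun e => hne (h4.injOn hD' hD e).symm) m2
  generalize g * b' * g⁻¹ = y' at e m3
  by_cases k1 : D = σ D
  · refine Or.inl (inv_mul_eq_one.1 (h.eq_one (h4.mapsTo hD) (mul_mem (inv_mem m1) (k1 ▸ hb)) ?_))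
    rw [inv_mul_eq_of_eq_mul (eq_mul_inv_of_mul_eq e.symm |>.trans (mul_assoc _ _ _))]
    exact mul_mem m3 (inv_mem (le_Co hD' (fun e => hne (k1.trans e.symm)) hb'))
  by_cases k2 : D' = σ D
  · refine Or.inr (inv_mul_eq_one.1 (h.eq_one (h4.mapsTo hD) (mul_mem (inv_mem m1) (k2 ▸ hb')) ?_))
    rw [inv_mul_eq_of_eq_mul (eq_mul_inv_of_mul_eq (e.trans hc).symm |>.trans (mul_assoc _ _ _))]
    exact mul_mem m3 (inv_mem (le_Co hD k1 hb))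
  refine absurd (conj_eq_one_iff.1 (h.eq_one (h4.mapsTo hD) m1 ?_)) h1
  rw [eq_mul_inv_of_mul_eq e]
  exact mul_mem (mul_mem (le_Co hD k1 hb) (le_Co hD' k2 hb')) (inv_mem m3)

/-- (c) -/
theorem two_norm (h : PD T A 𝓓 L) (hD : D ∈ 𝓓) (hD' : D' ∈ 𝓓) (hne : D ≠ D') (hb : b ∈ Zo D)
    (hb' : b' ∈ Zo D') (h1 : b ≠ 1) (h1' : b' ≠ 1) :
    𝒞[b * b'] ≤ Op' 2 𝒞[b * b'] ⊔ (𝒞[b * b'] ⊓ 𝒩(zpowers b ⊔ zpowers b')) := by
  have hc := h.two_cm hD hD' hb hb'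
  have hA : A ≤ 𝒞[b * b'] := (le_inf (h.A_le hD hb) (h.A_le hD' hb')).trans (two_le hc)
  have m1 := h.le hD (mem_Zo.1 hb).1
  have m2 := h.le hD' (mem_Zo.1 hb').1
  have h' := h.toSA.comap (f := (𝒞[b * b']).subtype) (subtype_injective _) (by rwa [range_subtype])
  set β : 𝒞[b * b'] := ⟨b, hA m1⟩
  set β' : 𝒞[b * b'] := ⟨b', hA m2⟩
  have o1 : orderOf β = 2 := by rw [← orderOf_coe]; exact ord hb h1
  have o2 : orderOf β' = 2 := by rw [← orderOf_coe]; exact ord hb' h1'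
  have n1 : β ≠ β' := fun e => h.two_ne hD hD' hne hb hb' h1 (congrArg Subtype.val e)
  have c1 : β * β' = β' * β := Subtype.ext hc
  have hz : ∀ g : 𝒞[b * b'], g ∈ 𝒞[β * β'] := fun g => mem_cent1.2 (Subtype.ext (mem_cent1.1 g.2))
  have f4 := f4_sup o1 o2 n1 c1
  have k1 : β ∈ zpowers β ⊔ zpowers β' := mem_sup_left (mem_zpowers _)
  have k2 : β' ∈ zpowers β ⊔ zpowers β' := mem_sup_right (mem_zpowers _)
  have h2 := four_top ((h'.of_fus (sup_le (zpowers_le.2 (show β ∈ _ from m1))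
    (zpowers_le.2 (show β' ∈ _ from m2))) fun x hx g hg => by
      rcases f4.cases k1 k2 (fun e => h1 (congrArg Subtype.val e))
        (fun e => h1' (congrArg Subtype.val e)) n1.symm hx with rfl | rfl | rfl | rfl
      · simpa using one_mem _
      · rcases h.two_fus hD hD' hne (mem_Zo.1 hb).1 (mem_Zo.1 hb').1 h1 g.2 hg with e | e
        · rwa [(Subtype.ext e : g * β * g⁻¹ = β)]
        · rwa [(Subtype.ext e : g * β * g⁻¹ = β')]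
      · rcases h.two_fus hD' hD hne.symm (mem_Zo.1 hb').1 (mem_Zo.1 hb).1 h1' (hc ▸ g.2) hg
          with e | e
        · rwa [(Subtype.ext e : g * β' * g⁻¹ = β')]
        · rwa [(Subtype.ext e : g * β' * g⁻¹ = β)]
      · rw [mem_cent1.1 (hz g), mul_inv_cancel_right]
        exact hx).za fun a ha => f4.sq ha) o1 o2 n1 c1 hz
  intro x hx
  obtain ⟨o, ho, n, hn, e⟩ := (H1.mem_sup_of_le_normalizer (le_top.trans (nO ⊤))).1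
    (h2 (mem_top (⟨x, hx⟩ : 𝒞[b * b'])))
  obtain rfl : (o : G) * n = x := congrArg Subtype.val e
  refine mul_mem (mem_sup_left ?_) (mem_sup_right ⟨n.2, mem_normalizer_of_cj_le ?_⟩)
  · rw [Op'_eq_map Nat.prime_two]
    exact ⟨o, Op'_top (G := 𝒞[b * b']) Nat.prime_two ▸ ho, rfl⟩
  · have h3 : (zpowers β ⊔ zpowers β').map (𝒞[b * b']).subtype = zpowers b ⊔ zpowers b' := by
      rw [Subgroup.map_sup, MonoidHom.map_zpowers, MonoidHom.map_zpowers]; rfl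
    rw [cj_sup, cj_zpowers, cj_zpowers]
    exact sup_le (zpowers_le.2 (h3 ▸ ⟨_, conj_mem_of_mem_normalizer hn k1, rfl⟩))
      (zpowers_le.2 (h3 ▸ ⟨_, conj_mem_of_mem_normalizer hn k2, rfl⟩))
theorem norm_two : 𝒩(zpowers b ⊔ zpowers b') ≤ 𝒩(𝒞[b] ⊓ 𝒞[b']) := by
  rw [← cent_zpowers, ← cent_zpowers, ← FT.cent_sup]
  exact H1.le_normalizer_centralizer le_rfl
theorem two_Nc (h : PD T A 𝓓 L) (hD : D ∈ 𝓓) (hD' : D' ∈ 𝓓) (hne : D ≠ D') (hb : b ∈ Zo D)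
    (hb' : b' ∈ Zo D') (h1 : b ≠ 1) (h1' : b' ≠ 1) :
    Nc T 𝒞[b * b'] ≤ Op' 2 𝒞[b * b'] ⊔ (𝒞[b] ⊓ 𝒞[b']) :=
  have hA := le_inf (h.A_le hD hb) (h.A_le hD' hb')
  h.nc_le (hA.trans (two_le (h.two_cm hD hD' hb hb'))) (hA.trans le_sup_right)
    ((h.two_norm hD hD' hne hb hb' h1 h1').trans (sup_le (le_sup_left.trans le_normalizer)
      (H1.le_normalizer_sup (inf_le_left.trans (nO _)) (inf_le_right.trans norm_two))))
theorem two_odd (h : PD T A 𝓓 L) (hD : D ∈ 𝓓) (hD' : D' ∈ 𝓓) (hne : D ≠ D') (hb : b ∈ Zo D)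
    (hb' : b' ∈ Zo D') (h1 : b ≠ 1) (h1' : b' ≠ 1) (hX : Odd (Nat.card X)) (hle : X ≤ 𝒞[b * b']) :
    X ≤ Op' 2 𝒞[b * b'] ⊔ (𝒞[b] ⊓ 𝒞[b']) := fun x hx => by
  refine mem_of_sq_mem (odd_elt hX hx) ?_
  obtain ⟨o, ho, n, hn, rfl⟩ := (H1.mem_sup_of_le_normalizer (inf_le_left.trans (nO _))).1
    (h.two_norm hD hD' hne hb hb' h1 h1' (hle hx))
  rw [show (o * n) ^ 2 = o * (n * o * n⁻¹) * (n * n) by rw [pow_two]; group]
  refine mul_mem (mem_sup_left (mul_mem ho (conj_mem_of_mem_normalizer (nO _ hn.1) ho)))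
    (mem_sup_right ?_)
  rw [← cent_zpowers, ← cent_zpowers, ← FT.cent_sup]
  by_cases h2 : n ∈ 𝒞(zpowers b ⊔ zpowers b')
  · exact mul_mem h2 h2
  · exact four_mul (ord hb h1) (ord hb' h1') (h.two_ne hD hD' hne hb hb' h1)
      (h.two_cm hD hD' hb hb') hn.2 hn.1 hn.2 hn.1 h2 h2
theorem two_O (h : PD T A 𝓓 L) (hD : D ∈ 𝓓) (hD' : D' ∈ 𝓓) (hne : D ≠ D') (hb : b ∈ Zo D)
    (hb' : b' ∈ Zo D') (h1 : b ≠ 1) (h1' : b' ≠ 1) :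
    Op' 2 (𝒞[b] ⊓ 𝒞[b']) ≤ Op' 2 𝒞[b * b'] :=
  have hle := (O_le _).trans (two_le (h.two_cm hD hD' hb hb'))
  le_sup_left.trans (le_Op' (odd_sup (odd_Op' _) (odd_Op' _) (hle.trans (nO _)))
    (sup_le hle (O_le _)) ((h.two_norm hD hD' hne hb hb' h1 h1').trans
      (sup_le (le_sup_right.trans le_normalizer) (H1.le_normalizer_sup
        ((inf_le_right.trans norm_two).trans (norm_le_norm_core _ _)) (inf_le_left.trans (nO _))))))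

end PD

theorem P3.star2 (h : P3 T A 𝓓 L) (hD : D ∈ 𝓓) (hD' : D' ∈ 𝓓) (hne : D ≠ D') (hb : b ∈ Zo D)
    (hb' : b' ∈ Zo D') (h1 : b ≠ 1) (h1' : b' ≠ 1) : Star T A 𝓓 𝒞[b * b'] :=
  h.star_of_O (le_inf (h.A_le hD hb) (h.A_le hD' hb')) (PD.two_le (h.two_cm hD hD' hb hb'))
    (h.two_Nc hD hD' hne hb hb' h1 h1') ((h.star1 D hD b hb h1).mono inf_le_left)

end Cfsg.Agent.C2
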