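import Cfsg.Agent.Lib.C2.A5a

/-!
# S1170: one factor (part A5), subgroups and quotients (see notes/C2.md)
-/

set_option autoImplicit false
set_option linter.unusedSectionVars false
set_option linter.unusedVariables false

namespace Cfsg.Agent.C2

open Subgroup Cfsg.Agent.H6 Cfsg.Agent.FT Cfsg.Agent.BD.P1 Cfsg.Agent.G75 Cfsg.Agent.G74 W8
open Cfsg.Agent.St (Od)
open scoped commutatorElement

universe u

variable {G : Type*} [Group G] [Finite G] {T : Set G}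
variable {A B C D D' E H H' K M N P Q R S U V W X Y : Subgroup G}
variable {a b b' c d e g n r s t v w x y z : G}
variable {𝓓 I J : Set (Subgroup G)} {L : Subgroup G → Subgroup G}

section
variable {G' : Type*} [Group G'] [Finite G']

theorem cj_comap5 (f : G' →* G) (g : G') (X : Subgroup G) :
    cj g (X.comap f) = (cj (f g) X).comap f := by
  ext x; simp only [mem_cj, mem_comap, map_mul, map_inv]
theorem map_cj5 (f : G →* G') (g : G) (X : Subgroup G) :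
    (cj g X).map f = cj (f g) (X.map f) := by
  rw [cj, cj, map_map, map_map]
  congr 1
  ext x; simp
theorem comap_cent5 {f : G' →* G} (hf : Function.Injective f) (h : X ≤ 𝒞(Y)) :
    X.comap f ≤ 𝒞(Y.comap f) := fun x hx => mem_cent.2 fun y hy => hf (by
  rw [map_mul, map_mul]; exact mem_cent.1 (h hx) _ hy)
theorem map_cent5 (f : G →* G') (h : X ≤ 𝒞(Y)) : X.map f ≤ 𝒞(Y.map f) := by
  rintro _ ⟨x, hx, rfl⟩
  refine mem_cent.2 ?_
  rintro _ ⟨y, hy, rfl⟩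
  rw [← map_mul, ← map_mul, mem_cent.1 (h hx) y hy]
theorem comap_le5 {f : G' →* G} (hf : Function.Injective f) {Y : Subgroup G'} (h : X ≤ Y.map f) :
    X.comap f ≤ Y := (comap_mono h).trans (comap_map_eq_self_of_injective hf Y).le
theorem map_sSup5 (f : G →* G') (I : Set (Subgroup G)) :
    sSup (Subgroup.map f '' I) = (sSup I).map f := by
  rw [(gc_map_comap f).l_sSup, sSup_image]

theorem PD.comap (h : PD T A 𝓓 L) {f : G' →* G} (hf : Function.Injective f) (hI : I ⊆ 𝓓)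
    (hL : ∀ D ∈ I, L D ≤ f.range) {T' : Set G'} (hs : SA T' ((sSup I).comap f))
    (hpf : ∀ g ∈ f.range, ∀ P ≤ sSup I, cj g P ≤ sSup I → ∃ σ : Subgroup G → Subgroup G,
      Set.BijOn σ I I ∧ ∀ J ⊆ I, cj g (P ⊓ sSup J) ≤ sSup (σ '' J)) :
    PD T' ((sSup I).comap f) (Subgroup.comap f '' I) (fun D => (L (D.map f)).comap f) := by
  have lr : ∀ D ∈ I, D ≤ f.range := fun D hD => (h.LD D (hI hD)).trans (hL D hD)
  have mc : ∀ D ∈ I, (D.comap f).map f = D := fun D hD => map_comap_eq_self (lr D hD)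
  have inj : Set.InjOn (Subgroup.comap f) I := fun D hD D' hD' e => by rw [← mc D hD, e, mc D' hD']
  have cs : ∀ J ⊆ I, sSup (Subgroup.comap f '' J) = (sSup J).comap f := fun J hJ =>
    le_antisymm (sSup_le fun _ ⟨D, hD, e⟩ => e ▸ comap_mono (le_sSup hD))
      (comap_le5 hf (sSup_le fun D hD => (mc D (hJ hD)).ge.trans
        (map_mono (le_sSup (Set.mem_image_of_mem _ hD)))))
  have co : ∀ D ∈ I, Co (Subgroup.comap f '' I) (D.comap f) ≤ (Co 𝓓 D).comap f := fun D hD =>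
    sSup_le fun _ ⟨⟨D', hD', e⟩, h1⟩ => e ▸ comap_mono (PD.le_Co (hI hD') fun e' => h1 (by
      rw [← e, e']; rfl))
  have b1 : Set.BijOn (Subgroup.comap f) I (Subgroup.comap f '' I) := inj.bijOn_image
  have b2 : Set.BijOn (Subgroup.map f) (Subgroup.comap f '' I) I :=
    b1.symm ⟨fun _ ⟨D, hD, e⟩ => by rw [← e, mc D hD], fun D hD => mc D hD⟩
  refine ⟨⟨hs, ?_⟩, cs I le_rfl, ?_, ?_, ?_, ?_, ?_, ?_, ?_, ?_, ?_, ?_⟩
  · refine (map_le_iff_le_comap.1 ?_).trans (comap_cent5 hf (h.cl.trans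
      (cent_le_cent (h.sSup_le' hI))))
    rw [Subgroup.map_commutator]
    exact commutator_mono ((map_comap_le _ _).trans (h.sSup_le' hI))
      ((map_comap_le _ _).trans (h.sSup_le' hI))
  · rintro _ ⟨D, hD, rfl⟩
    exact (co D hD).trans (comap_cent5 hf (h.cm D (hI hD)))
  · rintro _ ⟨D, hD, rfl⟩
    refine le_bot_iff.1 fun x hx => mem_bot.2 (hf ?_)
    rw [map_one]
    exact h.eq_one (hI hD) hx.1 (co D hD hx.2)
  · rintro _ ⟨D, hD, rfl⟩ h1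
    exact h.nab D (hI hD) (by simpa only [mc D hD] using map_cent5 f h1)
  · rintro _ ⟨D, hD, rfl⟩
    refine comap_le5 hf ((h.gen D (hI hD)).trans ((closure_le _).2 fun x hx => ?_))
    obtain ⟨y, rfl⟩ := lr D hD hx.1
    exact ⟨y, subset_closure ⟨hx.1, hf (by rw [map_mul, map_one]; exact hx.2)⟩, rfl⟩
  · rintro g hg _ ⟨D, hD, rfl⟩
    have k : ∀ g ∈ 𝒩((sSup I).comap f), ∃ σ : Subgroup G → Subgroup G, Set.MapsTo σ I I ∧
        ∀ D ∈ I, cj (f g) D ≤ σ D := fun g hg => by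
      obtain ⟨σ, h1, h2⟩ := hpf (f g) ⟨g, rfl⟩ _ le_rfl (by
        rw [← map_comap_eq_self (sSup_le lr), ← map_cj5, cj_eq_self_iff.2 hg])
      exact ⟨σ, h1.mapsTo, fun D hD => by
        simpa [inf_eq_right.2 (le_sSup hD)] using h2 {D} (Set.singleton_subset_iff.2 hD)⟩
    obtain ⟨σ, h1, h2⟩ := k g hg
    obtain ⟨τ, h3, h4⟩ := k g⁻¹ (inv_mem hg)
    obtain ⟨u, hu, hu1⟩ := h.exists_Zo (hI hD)
    rw [map_inv] at h4
    have h5 : D = τ (σ D) := h.eq_of_mem (hI hD) (hI (h3 (h1 hD))) (mem_Zo.1 hu).1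
      (h4 _ (h1 hD) (cj_le_iff_le_cj.1 (h2 D hD) (mem_Zo.1 hu).1)) hu1
    refine ⟨σ D, h1 hD, ?_⟩
    rw [cj_comap5, le_antisymm (h2 D hD)]
    rw [← inv_inv (f g), ← cj_le_iff_le_cj]
    exact (h4 _ (h1 hD)).trans h5.ge
  · intro g P h1 h2
    obtain ⟨σ, h3, h4⟩ := hpf (f g) ⟨g, rfl⟩ (P.map f) (map_le_iff_le_comap.2 h1)
      (by rw [← map_cj5]; exact map_le_iff_le_comap.2 h2)
    refine ⟨fun D => (σ (D.map f)).comap f, b1.comp (h3.comp b2), fun J' hJ' => ?_⟩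
    obtain ⟨J, hJ, rfl⟩ := Set.subset_image_iff.1 hJ'
    rw [cs J hJ]
    refine le_trans (b := (sSup (σ '' J)).comap f) (map_le_iff_le_comap.1 (le_trans ?_ (h4 J hJ))) ?_
    · rw [map_cj5]
      exact cj_mono _ (le_inf (map_mono inf_le_left)
        ((map_mono inf_le_right).trans (map_comap_le _ _)))
    · rw [← cs _ ((Set.image_mono hJ).trans h3.image_eq.le)]
      exact sSup_le fun _ ⟨_, ⟨D, hD, e⟩, e'⟩ => le_sSup ⟨_, ⟨D, hD, rfl⟩, by
        simp only [mc D (hJ hD), e, e']⟩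
  · rintro _ ⟨D, hD, rfl⟩
    simp only [mc D hD]
    exact comap_mono (h.LD D (hI hD))
  · rintro _ ⟨D, hD, rfl⟩
    simp only [mc D hD]
    exact (comap_cent5 hf (h.Lc D (hI hD))).trans (cent_le_cent (co D hD))
  · rintro _ ⟨D, hD, rfl⟩
    simp only [mc D hD]
    refine comap_le5 hf ((h.Lg D (hI hD)).trans (iSup₂_le fun g hg => ?_))
    obtain ⟨y, rfl⟩ := hL D hD hg
    conv_lhs => rw [← mc D hD, ← map_cj5]
    exact map_mono (le_iSup₂_of_le y hg le_rfl)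
  · rintro _ ⟨D, hD, rfl⟩ x hx h1
    simp only [mc D hD]
    obtain ⟨g, hg, h2⟩ := h.Lz D (hI hD) (f x) hx (by rw [← map_mul, h1, map_one])
    obtain ⟨y, rfl⟩ := hL D hD hg
    rw [← map_inv, ← map_mul, ← map_mul] at h2
    exact ⟨y, hg, h2.1, comap_cent5 hf le_rfl h2.2⟩

theorem SA.comap_map5 (h : SA T A) {f : G →* G'} (hk : Odd (Nat.card f.ker)) (hB : B ≤ A) :
    (B.map f).comap f ⊓ A = B := by
  rw [comap_map_eq, H1.sup_inf_assoc_of_le (le_top.trans (normalizer_eq_top _).ge) hB,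
    inf_eq_bot_of_coprime' (cop2 hk h.two), sup_bot_eq]

theorem SA.lift5 (h : SA T A) {f : G →* G'} (hf : Function.Surjective f) (hP : P ≤ A) {g' : G'}
    (h1 : cj g' (P.map f) ≤ A.map f) : ∃ g, f g = g' ∧ cj g P ≤ A := by
  obtain ⟨g, rfl⟩ := hf g'
  rw [← map_cj5, map_le_iff_le_comap, comap_map_eq] at h1
  obtain ⟨k, hk, h2⟩ := h.exists_cj le_sup_left (isPGroup_cj g (h.two.to_le hP))
    (h.sc.cjj (fun x hx => h.sub (hP hx)) g) h1
  obtain ⟨a, ha, o, ho, rfl⟩ :=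
    (H1.mem_sup_of_le_normalizer' (le_top.trans (normalizer_eq_top _).ge)).1 hk
  refine ⟨o * g, by rw [map_mul, MonoidHom.mem_ker.1 ho, one_mul], ?_⟩
  rw [← cj_cj, cj_le_iff_le_cj, cj_eq_self_of_mem (inv_mem ha), cj_cj] at h2
  exact h2

theorem PD.map (h : PD T A 𝓓 L) {f : G →* G'} (hf : Function.Surjective f)
    (hk : Odd (Nat.card f.ker)) :
    PD (f '' T) (A.map f) (Subgroup.map f '' 𝓓) (fun D => (L (D.comap f ⊓ A)).map f) := by
  have cm : ∀ D ∈ 𝓓, (D.map f).comap f ⊓ A = D := fun D hD => h.comap_map5 hk (h.le hD)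
  have inj : Set.InjOn (Subgroup.map f) 𝓓 := fun D hD D' hD' e => by rw [← cm D hD, e, cm D' hD']
  have ij : ∀ x ∈ A, ∀ y ∈ A, f x = f y → x = y := fun x hx y hy e => by
    refine inv_mul_eq_one.1 (mem_bot.1 ((h.comap_map5 hk bot_le).le
      (mem_inf.2 ⟨?_, mul_mem (inv_mem hx) hy⟩)))
    simp [e]
  have co : ∀ D ∈ 𝓓, Co (Subgroup.map f '' 𝓓) (D.map f) ≤ (Co 𝓓 D).map f := fun D hD =>
    sSup_le fun _ ⟨⟨D', hD', e⟩, h1⟩ => e ▸ map_mono (PD.le_Co hD' fun e' => h1 (by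
      rw [← e, e']; rfl))
  have b1 : Set.BijOn (Subgroup.map f) 𝓓 (Subgroup.map f '' 𝓓) := inj.bijOn_image
  have b2 : Set.BijOn (fun D : Subgroup G' => D.comap f ⊓ A) (Subgroup.map f '' 𝓓) 𝓓 :=
    b1.symm ⟨fun _ ⟨D, hD, e⟩ => by simp only [← e, cm D hD], fun D hD => cm D hD⟩
  refine ⟨⟨h.toSA.map hf, ?_⟩, by rw [map_sSup5, h.sup], ?_, ?_, ?_, ?_, ?_, ?_, ?_, ?_, ?_, ?_⟩
  · rw [← Subgroup.map_commutator]
    exact map_cent5 f h.cl
  · rintro _ ⟨D, hD, rfl⟩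
    exact (co D hD).trans (map_cent5 f (h.cm D hD))
  · rintro _ ⟨D, hD, rfl⟩
    refine le_bot_iff.1 ?_
    rintro _ ⟨⟨x, hx, rfl⟩, h1⟩
    obtain ⟨y, hy, e⟩ := co D hD h1
    rw [h.eq_one hD hx (ij y (h.Co_le hy) x (h.le hD hx) e ▸ hy), map_one]
    exact one_mem _
  · rintro _ ⟨D, hD, rfl⟩ h1
    exact h.nab D hD fun x hx => mem_cent.2 fun y hy => ij _ (h.le hD (mul_mem hy hx)) _
      (h.le hD (mul_mem hx hy)) (by
        rw [map_mul, map_mul]; exact mem_cent.1 (h1 ⟨x, hx, rfl⟩) _ ⟨y, hy, rfl⟩)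
  · rintro _ ⟨D, hD, rfl⟩
    refine map_le_iff_le_comap.2 ((h.gen D hD).trans ((closure_le _).2 fun x hx => ?_))
    exact subset_closure ⟨⟨x, hx.1, rfl⟩, by rw [← map_mul, hx.2, map_one]⟩
  · rintro g' hg _ ⟨D, hD, rfl⟩
    obtain ⟨g, rfl, h1⟩ := h.lift5 hf le_rfl (cj_eq_self_iff.2 hg).le
    exact ⟨_, h.conj g (mem_normalizer_of_cj_le h1) D hD, map_cj5 f g D⟩
  · intro g' P h1 h2
    obtain ⟨g, rfl, h3⟩ := h.lift5 hf (P := P.comap f ⊓ A) inf_le_right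
      ((cj_mono g' ((map_mono inf_le_left).trans (map_comap_le _ _))).trans h2)
    obtain ⟨σ, h4, h5⟩ := h.pf g _ inf_le_right h3
    refine ⟨fun D => (σ (D.comap f ⊓ A)).map f, b1.comp (h4.comp b2), fun J' hJ' => ?_⟩
    obtain ⟨J, hJ, rfl⟩ := Set.subset_image_iff.1 hJ'
    rw [map_sSup5]
    refine le_trans (b := (sSup (σ '' J)).map f) (le_trans ?_ (map_mono (h5 J hJ))) ?_
    · rw [map_cj5]
      refine cj_mono _ ?_
      rintro _ ⟨h6, x, hx, rfl⟩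
      exact ⟨x, ⟨⟨h6, h.sSup_le' hJ hx⟩, hx⟩, rfl⟩
    · rw [← map_sSup5]
      exact sSup_le fun _ ⟨_, ⟨D, hD, e⟩, e'⟩ => le_sSup ⟨_, ⟨D, hD, rfl⟩, by
        simp only [cm D (hJ hD), e, e']⟩
  · rintro _ ⟨D, hD, rfl⟩
    simp only [cm D hD]
    exact map_mono (h.LD D hD)
  · rintro _ ⟨D, hD, rfl⟩
    simp only [cm D hD]
    exact (map_cent5 f (h.Lc D hD)).trans (cent_le_cent (co D hD))
  · rintro _ ⟨D, hD, rfl⟩
    simp only [cm D hD]
    refine map_le_iff_le_comap.2 ((h.Lg D hD).trans (iSup₂_le fun g hg =>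
      map_le_iff_le_comap.1 ?_))
    rw [map_cj5]
    exact le_iSup₂_of_le (f g) ⟨g, hg, rfl⟩ le_rfl
  · rintro _ ⟨D, hD, rfl⟩ _ ⟨x, hx, rfl⟩ h1
    simp only [cm D hD]
    obtain ⟨g, hg, h2⟩ := h.Lz D hD x hx (ij _ (h.le hD (mul_mem hx hx)) _ (one_mem _)
      (by rw [map_mul, h1, map_one]))
    refine ⟨f g, ⟨g, hg, rfl⟩, ?_⟩
    rw [← map_inv, ← map_mul, ← map_mul]
    exact ⟨⟨_, h2.1, rfl⟩, map_cent5 f le_rfl ⟨_, h2.2, rfl⟩⟩

end

end Cfsg.Agent.C2
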