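import Cfsg.Agent.Lib.C2.Basic

/-!
# S1170: essential subgroups (part A2) (see notes/C2.md)
-/

set_option autoImplicit false
set_option linter.unusedSectionVars false
set_option linter.unusedVariables false

namespace Cfsg.Agent.C2

open Subgroup Cfsg.Agent.H6 Cfsg.Agent.FT Cfsg.Agent.BD.P1 Cfsg.Agent.G75 Cfsg.Agent.G74
open Cfsg.Agent.St (Od)
open scoped commutatorElement MatrixGroups Matrix

universe u

variable {G : Type*} [Group G] [Finite G] {T : Set G}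
variable {A B C D E H K L M N P Q R S U V W X Y W₁ W₂ : Subgroup G}
variable {a b c d e g h n r s t v w x y z : G}

/-- The normal closure of `B` in `N`. -/
def Cl (N B : Subgroup G) : Subgroup G := ⨆ (g : G) (_ : g ∈ N), cj g B

theorem le_Cl : B ≤ Cl N B := le_iSup₂_of_le (1 : G) (one_mem N) (by rw [cj_one])
theorem Cl_le (hn : N ≤ 𝒩(M)) (h : B ≤ M) : Cl N B ≤ M :=
  iSup₂_le fun g hg => (cj_mono g h).trans (cj_eq_self_iff.2 (hn hg)).le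
theorem norm_Cl : N ≤ 𝒩(Cl N B) := fun g hg => mem_normalizer_of_cj_le
  (cj_le_iff_le_cj.2 (iSup₂_le fun x hx => cj_le_iff_le_cj.1 (by
    rw [cj_cj]; exact le_iSup₂_of_le (g * x) (mul_mem hg hx) le_rfl)))
theorem comm_Cl (hK : N ≤ 𝒩(K)) (hM : N ≤ 𝒩(M)) (hB : B ≤ N) (h : ⁅K, B⁆ ≤ M) :
    ⁅K, Cl N B⁆ ≤ M :=
  (le_centMod_iff.1 (Cl_le (centMod_normal hK hM).norm
    (le_centMod_iff.2 ⟨hB, hB.trans hM, h⟩))).2.2
theorem SA.comm_Nc (h : SA T A) (hA : A ≤ N) (hK : N ≤ 𝒩(K)) (hM : N ≤ 𝒩(M))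
    (h1 : ⁅K, A⁆ ≤ M) : ⁅K, Nc T N⁆ ≤ M :=
  (le_centMod_iff.1 (h.nc_le hA (le_centMod_iff.2 ⟨hA, hA.trans hM, h1⟩)
    (centMod_normal hK hM).norm)).2.2

theorem SB.comm_mem (h : SB T A) (ha : a ∈ A) (hb : b ∈ A) : ⁅a, b⁆ ∈ A ⊓ 𝒞(A) :=
  ⟨der_le A (commutator_mem_commutator ha hb), h.cl (commutator_mem_commutator ha hb)⟩
theorem SB.comm_sq_left (h : SB T A) (ha : a ∈ A) (hb : b ∈ A) :
    ⁅a * a, b⁆ = ⁅a, b⁆ * ⁅a, b⁆ := by
  have e := mem_cent.1 (h.comm_mem ha hb).2 a ha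
  calc ⁅a * a, b⁆ = a * ⁅a, b⁆ * a⁻¹ * ⁅a, b⁆ := by simp only [commutatorElement_def]; group
    _ = _ := by rw [e, mul_inv_cancel_right]
theorem SB.comm_sq_right (h : SB T A) (ha : a ∈ A) (hb : b ∈ A) :
    ⁅a, b * b⁆ = ⁅a, b⁆ * ⁅a, b⁆ := by
  have e := mem_cent.1 (h.comm_mem ha hb).2 b hb
  calc ⁅a, b * b⁆ = ⁅a, b⁆ * (b * ⁅a, b⁆ * b⁻¹) := by simp only [commutatorElement_def]; group
    _ = _ := by rw [e, mul_inv_cancel_right]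

theorem Ess.le (hQ : Ess H A Q) : Q ≤ A := hQ.lt.le
theorem Ess.two (h : SB T A) (hQ : Ess H A Q) : IsPGroup 2 Q := h.toSA.two.to_le hQ.le
theorem Ess.Z_le (hQ : Ess H A Q) : A ⊓ 𝒞(A) ≤ Q ⊓ 𝒞(Q) :=
  have := inf_le_inf_left A (cent_le_cent hQ.le)
  le_inf (this.trans hQ.cent) (this.trans inf_le_right)
theorem norm_ZQ : 𝒩(Q) ≤ 𝒩(Q ⊓ 𝒞(Q)) :=
  H1.le_normalizer_inf le_rfl (H1.le_normalizer_centralizer le_rfl)
theorem comm_ZQ : IsMulCommutative (Q ⊓ 𝒞(Q) : Subgroup G) :=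
  comm_iff.2 (inf_le_right.trans (cent_le_cent inf_le_left))
theorem Ess.Vs_le (hQ : Ess H A Q) : Cl 𝒩(Q) (A ⊓ 𝒞(A)) ≤ Q ⊓ 𝒞(Q) := Cl_le norm_ZQ hQ.Z_le
theorem Ess.A_le_X (h : SB T A) (hQ : Ess H A Q) : A ≤ XX T Q := le_Nc h.sub (hQ.norm h)
theorem Ess.comm_QA (h : SB T A) (hQ : Ess H A Q) : ⁅Q, A⁆ ≤ A ⊓ 𝒞(A) :=
  commutator_le.2 fun _ a _ b => h.comm_mem (hQ.le a) b

theorem Ess.VV_le (h : SB T A) (hQ : Ess ⊤ A Q) : VV A Q ≤ Q ⊓ 𝒞(Q) :=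
  Cl_le norm_ZQ (Zo_le.trans hQ.Z_le)
theorem Ess.VV_elem (h : SB T A) (hQ : Ess ⊤ A Q) : IsElementaryAbelian 2 (VV A Q) := by
  have h1 : VV A Q ≤ omegaOne 2 (Q ⊓ 𝒞(Q)) :=
    Cl_le (norm_ZQ.trans (norm_le_norm_omega 2 _)) (H9.omegaOne_mono hQ.Z_le)
  have h2 := elem_iff.1 (elem_omega_of_comm (p := 2) (comm_ZQ (Q := Q)))
  exact elem_iff.2 ⟨h1.trans (h2.1.trans (cent_le_cent h1)), fun a ha => h2.2 a (h1 ha)⟩
theorem Ess.VV_sq (h : SB T A) (hQ : Ess ⊤ A Q) (hv : v ∈ VV A Q) : v * v = 1 := by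
  rw [← pow_two]; exact (elem_iff.1 (hQ.VV_elem h)).2 v hv
theorem Ess.VV_le_A (h : SB T A) (hQ : Ess ⊤ A Q) : VV A Q ≤ A :=
  (hQ.VV_le h).trans (inf_le_left.trans hQ.le)
theorem Ess.le_cent_VV (h : SB T A) (hQ : Ess ⊤ A Q) : Q ≤ 𝒞(VV A Q) :=
  cent_comm.1 ((hQ.VV_le h).trans inf_le_right)

theorem le_MM (h1 : Q < R) (h2 : R ≤ A) : 𝒩(Q) ⊓ 𝒩(R) ≤ MM ⊤ A Q :=
  le_sup_of_le_right (le_iSup₂_of_le R ⟨h1, h2⟩ (by rw [top_inf_eq]))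
theorem cent_le_MM : 𝒞(Q) ≤ MM ⊤ A Q := le_sup_of_le_left (by rw [top_inf_eq])
theorem Ess.le_MM_of_Od (h : SB T A) (hQ : Ess ⊤ A Q) (hK : NormalIn K 𝒩(Q))
    (h1 : Od K ≤ 𝒞(Q)) : K ≤ MM ⊤ A Q := by
  obtain ⟨S, hS, h2⟩ := exists_sylIn_ge h.toSA.two (hQ.norm h)
  have h3 := (hall_singleton Nat.prime_two).1
    (((hall_singleton Nat.prime_two).2 (syl_iff_sylIn.2 hS)).inf_normal hK)
  rw [← St.Od_sup_syl h3]
  exact sup_le (h1.trans cent_le_MM) ((le_inf (inf_le_left.trans hS.le)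
    (inf_le_left.trans (h.toSA.le_norm_of_two hS.isPGroup h2))).trans (le_MM hQ.lt le_rfl))
theorem Ess.nle' (hQ : Ess ⊤ A Q) : ¬ 𝒩(Q) ≤ MM ⊤ A Q := fun a => hQ.nle (inf_le_right.trans a)

theorem Ess.cent_VV (h : SB T A) (hQ : Ess ⊤ A Q) : A ⊓ 𝒞(VV A Q) = Q := by
  by_contra hne
  set R := A ⊓ 𝒞(VV A Q) with hR
  have h1 : Q < R := lt_of_le_of_ne (le_inf hQ.le (hQ.le_cent_VV h)) (Ne.symm hne)
  have hRN : R ≤ 𝒩(Q) := inf_le_left.trans (hQ.norm h)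
  set Y := Cl 𝒩(Q) R with hY
  set Vs := Cl 𝒩(Q) (A ⊓ 𝒞(A)) with hVs
  have y1 : Y ≤ 𝒞(VV A Q) := Cl_le (H1.le_normalizer_centralizer norm_VV) inf_le_right
  have y2 : Y ≤ 𝒩(Q) := Cl_le le_normalizer hRN
  have v0 : Vs ≤ Q ⊓ 𝒞(Q) := hQ.Vs_le
  have v1 : IsMulCommutative Vs := comm_of_le comm_ZQ v0
  have v2 : IsPGroup 2 Vs := (hQ.two h).to_le (v0.trans inf_le_left)
  have v3 : 𝒩(Q) ≤ 𝒩(omegaOne 2 Vs) := norm_Cl.trans (norm_le_norm_omega 2 _)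
  have v4 : ⁅omegaOne 2 Vs, Y⁆ ≤ VV A Q := by
    refine comm_Cl v3 norm_VV hRN (le_trans (commutator_le.2 fun v hv a ha => ?_) Zo_le_VV)
    obtain ⟨hv1, hv2⟩ := (mem_omega_of_comm v1).1 hv
    have hvA := hQ.le (v0 hv1).1
    have := h.comm_mem hvA ha.1
    refine mem_Zo.2 ⟨this.1, this.2, ?_⟩
    rw [← h.comm_sq_left hvA ha.1, ← pow_two, hv2, commutatorElement_one_left]
  have o1 : Od Y ≤ 𝒞(omegaOne 2 Vs) := St.Od_le_cent (v2.to_le (omega_normal 2 Vs).le)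
    (y2.trans v3) ((commutator_mono le_rfl (St.Od_le Y)).trans v4) ((St.Od_le Y).trans y1)
  have o2 : Od Y ≤ 𝒞(Vs) := St.Od_le_iff.2 fun y hy ho =>
    zpowers_le.1 (coprime_abelian_faithful_omega Nat.prime_two v2
      (zpowers_le.2 (norm_Cl (y2 hy))) (St.coprime_of_odd v2 (St.odd_card_zpowers.2 ho)) v1
      (zpowers_le.2 (o1 (St.mem_Od hy ho))))
  have o3 : Od Y ≤ 𝒞(Q) := St.Od_le_cent (hQ.two h) y2
    ((commutator_mono le_rfl (St.Od_le Y)).trans (comm_Cl le_rfl norm_Cl hRN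
      ((commutator_mono le_rfl inf_le_left).trans ((hQ.comm_QA h).trans le_Cl)))) o2
  have n1 : NormalIn Y 𝒩(Q) := ⟨y2, norm_Cl⟩
  have e : A ⊓ Y = R := le_antisymm (inf_le_inf_left A y1) (le_inf inf_le_left le_Cl)
  have := h.toSA.frattini_inf (hQ.norm h) n1
  rw [e] at this
  exact hQ.nle' (this.trans (sup_le (hQ.le_MM_of_Od h n1 o3) (le_MM h1 inf_le_left)))
theorem Ess.VV_inf (h : SB T A) (hQ : Ess ⊤ A Q) : VV A Q ⊓ 𝒞(A) = Zo A :=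
  le_antisymm (fun v hv => mem_Zo.2 ⟨hQ.VV_le_A h hv.1, hv.2, hQ.VV_sq h hv.1⟩)
    (le_inf Zo_le_VV (Zo_le.trans inf_le_right))
theorem Ess.sq (h : SB T A) (hQ : Ess ⊤ A Q) (ha : a ∈ A) : a * a ∈ Q := by
  rw [← hQ.cent_VV h]
  refine ⟨mul_mem ha ha, mem_cent.2 fun v hv => ?_⟩
  have hvA := hQ.VV_le_A h hv
  rw [← commutatorElement_eq_one_iff_mul_comm, h.comm_sq_right hvA ha, ← h.comm_sq_left hvA ha,
    hQ.VV_sq h hv, commutatorElement_one_left]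
theorem Ess.comm_Od (h : SB T A) (hQ : Ess ⊤ A Q) : ⁅Q, Od (XX T Q)⁆ ≤ VV A Q := by
  have v0 := hQ.Vs_le
  have h1 : ⁅Q, XX T Q⁆ ≤ Cl 𝒩(Q) (A ⊓ 𝒞(A)) :=
    h.toSA.comm_Nc (hQ.norm h) le_rfl norm_Cl ((hQ.comm_QA h).trans le_Cl)
  have h2 : ⁅Cl 𝒩(Q) (A ⊓ 𝒞(A)), XX T Q⁆ ≤ VV A Q := by
    refine h.toSA.comm_Nc (hQ.norm h) norm_Cl norm_VV
      (le_trans (commutator_le.2 fun v hv a ha => ?_) Zo_le_VV)
    have hvA := hQ.le (v0 hv).1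
    have := h.comm_mem hvA ha
    refine mem_Zo.2 ⟨this.1, this.2, ?_⟩
    rw [← h.comm_sq_right hvA ha, commutatorElement_eq_one_iff_mul_comm,
      mem_cent.1 (v0 hv).2 _ (hQ.sq h ha)]
  exact St.comm_Od_le (hQ.two h) XX_le (XX_le.trans norm_VV)
    ((commutator_mono le_rfl (St.Od_le _)).trans h1)
    ((commutator_mono le_rfl (St.Od_le _)).trans h2)
theorem Ess.ker_two (h : SB T A) (hQ : Ess ⊤ A Q) :
    Od (XX T Q ⊓ 𝒞(VV A Q)) ≤ 𝒞(Q) :=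
  St.Od_le_cent (hQ.two h) (inf_le_left.trans XX_le)
    ((commutator_mono le_rfl (St.Od_mono inf_le_left)).trans (hQ.comm_Od h))
    ((St.Od_le _).trans inf_le_right)

theorem gen_abs (hz : ZA T E) (hE : E ≤ M) (hM : M ≤ X)
    (hc : ∀ a ∈ E, a ≠ 1 → X ⊓ 𝒞[a] ≤ M) (hn : X ⊓ 𝒩(E) ≤ M) (hg : g ∈ X) (hg' : g ∉ M)
    (ha : a ∈ E) (a1 : a ≠ 1) (hb : b ∈ cj g E) (b1 : b ≠ 1) :
    a * b ≠ 1 ∧ Odd (orderOf (a * b)) := by
  have k1 : ∀ t ∈ T, t ∈ M → t ≠ 1 → X ⊓ 𝒞[t] ≤ M := fun t ht h1 h2 x hx => by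
    obtain ⟨m, hm, h3⟩ := hz.exists_conj hE ht h1
    have := hc _ h3 (by rwa [Ne, conj_eq_one_iff]) (x := m * x * m⁻¹)
      ⟨X.mul_mem (X.mul_mem (hM hm) hx.1) (X.inv_mem (hM hm)), by
        rw [← cj_centralizer_singleton]; exact conj_mem_cj hx.2⟩
    exact (M.mul_mem_cancel_left hm).1 ((M.mul_mem_cancel_right (M.inv_mem hm)).1 this)
  have hz' := hz.cjj g
  have hEX : cj g E ≤ X := cj_le_of_mem hg (hE.trans hM)
  have k2 : b ∉ M := fun h1 => by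
    have h2 : cj g E ≤ M :=
      (le_inf hEX (le_cent1_iff.2 (hz'.le_cent hb))).trans (k1 b (hz'.sub hb) h1 b1)
    obtain ⟨m, hm, e⟩ := hz.sa.exists_cj_eq hz'.sa hE h2
    rw [cj_cj] at e
    exact hg' ((mul_mem_cancel_left hm).1 (hn ⟨mul_mem (hM hm) hg, cj_eq_self_iff.1 e⟩))
  have aa := hz.sq a (hz.sub ha)
  have bb := hz.sq b (hz'.sub hb)
  refine ⟨fun e => k2 (by rw [eq_inv_of_mul_eq_one_right e]; exact inv_mem (hE ha)), ?_⟩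
  rw [← Nat.not_even_iff_odd]
  intro hev
  obtain ⟨m, -, h2, h3, h4⟩ := exists_central_involution aa bb hev
  have ia : a⁻¹ = a := inv_eq_of_mul_eq_one_right aa
  have ib : b⁻¹ = b := inv_eq_of_mul_eq_one_right bb
  have inv1 : ∀ j : ℕ, (a * b) ^ j * a * ((a * b) ^ j)⁻¹ = (a * b) ^ j * (a * b) ^ j * a := by
    intro j
    have : a * (a * b)⁻¹ * a⁻¹ = a * b := by
      rw [mul_inv_rev, ia, ib, mul_assoc, mul_assoc, aa, mul_one]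
    have e2 : a * ((a * b) ^ j)⁻¹ * a⁻¹ = (a * b) ^ j := by
      rw [← inv_pow, ← conj_pow, this]
    calc _ = (a * b) ^ j * (a * ((a * b) ^ j)⁻¹ * a⁻¹) * a := by group
      _ = _ := by rw [e2]
  have hza : (a * b) ^ m * a ∈ T := by
    rcases Nat.even_or_odd' m with ⟨j, rfl | rfl⟩
    · rw [two_mul, pow_add, ← inv1]; exact hz.sc.conj _ _ (hz.sub ha)
    · have := hz.sc.conj ((a * b) ^ j * a) _ (hz'.sub hb)
      have e : (a * b) ^ j * a * b * ((a * b) ^ j * a)⁻¹ = (a * b) ^ (2 * j + 1) * a := by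
        calc _ = (a * b) * ((a * b) ^ j * a * ((a * b) ^ j)⁻¹) := by
              rw [mul_inv_rev, ia, mul_assoc _ a b, ← pow_succ, pow_succ']
              simp only [mul_assoc]
          _ = _ := by rw [inv1]; group
      rwa [e] at this
  have hz2 : ((a * b) ^ m) ^ 2 ^ 1 = 1 := by rw [pow_one, ← h2, pow_orderOf_eq_one]
  have hP : IsPGroup 2 (zpowers ((a * b) ^ m) ⊔ zpowers a : Subgroup G) :=
    isPGroup_sup_of_le_normalizer (isPGroup_zpowers hz2)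
      (isPGroup_zpowers (k := 1) (by rw [pow_one, pow_two, aa]))
      (zpowers_le.2 (cent1_le_norm_zpowers (mem_cent1.2 h3)))
  have hzT := hz.sc.mul _ hP _ hza _ (hz.sub ha)
    (mul_mem (mem_sup_left (mem_zpowers _)) (mem_sup_right (mem_zpowers _)))
    (mem_sup_right (mem_zpowers _))
  rw [mul_assoc, aa, mul_one] at hzT
  have hzX : (a * b) ^ m ∈ X := pow_mem (mul_mem (hM (hE ha)) (hEX hb)) m
  exact k2 (k1 _ hzT (hc a ha a1 ⟨hzX, mem_cent1.2 h3⟩)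
    (fun e => by rw [e, orderOf_one] at h2; exact absurd h2 (by norm_num))
    ⟨hEX hb, mem_cent1.2 h4.symm⟩)

/-- General position. -/
theorem Ess.gen (h : SB T A) (hQ : Ess ⊤ A Q) : ∃ g ∈ XX T Q, ∀ a ∈ A, a ∉ Q →
    ∀ b ∈ cj g A, b ∉ Q → a * b ∉ 𝒞(VV A Q) ∧ ∃ k, Odd k ∧ (a * b) ^ k ∈ 𝒞(VV A Q) := by
  set K := XX T Q ⊓ 𝒞(VV A Q) with hK
  have nX : NormalIn (XX T Q) 𝒩(Q) := h.sc.normal_Nc
  have nK : NormalIn K 𝒩(Q) := ⟨inf_le_left.trans XX_le, H1.le_normalizer_inf nX.norm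
    (H1.le_normalizer_centralizer norm_VV)⟩
  have hA := hQ.norm h
  have hAX := hQ.A_le_X h
  have XK : XX T Q ≤ 𝒩(K) := XX_le.trans nK.norm
  have QK : Q ≤ K := le_inf (hQ.le.trans hAX) (hQ.le_cent_VV h)
  have KM : K ≤ MM ⊤ A Q := hQ.le_MM_of_Od h nK (hQ.ker_two h)
  have AM : A ≤ MM ⊤ A Q := (le_inf hA le_normalizer).trans (le_MM hQ.lt le_rfl)
  have hz : ZA (qT K T) (quo K A) := (h.toSA.quo (hA.trans nK.norm)).za fun z hz => by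
    obtain ⟨a, ha, hn, rfl⟩ := mem_quo.1 hz
    rw [← coset_mul hn hn, coset_eq_one_iff (mul_mem hn hn)]
    exact QK (hQ.sq h ha)
  have AK : ∀ a ∈ A, a ∈ K → a ∈ Q := fun a ha h1 => hQ.cent_VV h ▸ ⟨ha, h1.2⟩
  have L1 : ∀ U : Subgroup (Quo K), U ≠ ⊥ → U ≤ quo K A → quo K (XX T Q) ⊓ 𝒩(U) ≤
      quo K (MM ⊤ A Q ⊓ XX T Q) := fun U U1 U2 z hz' => by
    obtain ⟨x, hx, hn, rfl⟩ := mem_quo.1 hz'.1
    refine coset_mem_quo ⟨?_, hx⟩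
    have l1 : coquo K U ≤ K ⊔ A := (coquo_mono U2).trans (coquo_quo (hA.trans nK.norm)).le
    have l2 : A ≤ 𝒩(Q) ⊓ 𝒩(coquo K U) := le_inf hA ((le_norm_coquo (hA.trans nK.norm)).2
      (hz.le_cent.trans ((cent_le_cent U2).trans cent_le_norm)))
    have l3 := h.toSA.frattini_inf l2 (K := coquo K U)
      ⟨le_inf (l1.trans (sup_le nK.le hA)) le_normalizer, inf_le_right⟩
    have l4 : Q < A ⊓ coquo K U := by
      refine lt_of_le_of_ne (le_inf hQ.le (QK.trans (le_coquo U))) fun e => U1 ?_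
      refine eq_bot_iff.2 fun u hu => ?_
      obtain ⟨a, ha, han, rfl⟩ := mem_quo.1 (U2 hu)
      exact mem_bot.2 ((coset_eq_one_iff han).2 (QK (e ▸ ⟨ha, mem_coquo.2 ⟨han, hu⟩⟩)))
    refine (l3.trans (sup_le (l1.trans (sup_le KM AM))
      ((inf_le_inf_right _ inf_le_left).trans (le_MM l4 inf_le_left)))) ⟨XX_le hx, ?_⟩
    exact zpowers_le.1 ((le_norm_coquo (zpowers_le.2 hn)).2 (by
      rw [quo_zpowers hn]; exact zpowers_le.2 hz'.2))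
  have hXM : ¬ XX T Q ≤ MM ⊤ A Q := fun a =>
    hQ.nle' ((h.toSA.frattini hAX nX).trans (sup_le a (le_MM hQ.lt le_rfl)))
  obtain ⟨g, hg, hg'⟩ := SetLike.not_le_iff_exists.1 hXM
  refine ⟨g, hg, fun a ha a1 b hb b1 => ?_⟩
  have hbX : b ∈ XX T Q := cj_le_of_mem hg hAX hb
  have an := XK (hAX ha)
  have bn := XK hbX
  have hA1 : quo K A ≠ ⊥ := fun e => a1 (AK a ha ((quo_eq_bot_iff (hA.trans nK.norm)).1 e ha))
  obtain ⟨r1, r2⟩ := gen_abs (X := quo K (XX T Q)) (M := quo K (MM ⊤ A Q ⊓ XX T Q))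
    (g := coset K g) (a := coset K a) (b := coset K b) hz (quo_mono K (le_inf AM hAX))
    (quo_mono K inf_le_right) (fun a ha a1 => (inf_le_inf_left _ cent1_le_norm_zpowers).trans
      (L1 _ (by rwa [Ne, zpowers_eq_bot]) (zpowers_le.2 ha))) (L1 _ hA1 le_rfl)
    (coset_mem_quo hg) (fun a => hg' ((quo_le_quo_iff' (zpowers_le.2 (XK hg))
      (le_inf KM inf_le_left)).1 (by rw [quo_zpowers (XK hg)]; exact zpowers_le.2 a)
        (mem_zpowers g)).1) (coset_mem_quo ha)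
    (fun e => a1 (AK a ha ((coset_eq_one_iff an).1 e)))
    (by rw [← quo_cj (XK hg)]; exact coset_mem_quo hb) (fun e => b1 (by
      have h1 := (coset_eq_one_iff bn).1 e
      have h2 := AK _ (mem_cj.1 hb) (nK.conj_mem' (XX_le hg) h1)
      simpa [mul_assoc] using conj_mem_of_mem_normalizer (XX_le hg) h2))
  rw [← coset_mul an bn] at r1 r2
  refine ⟨fun e => r1 ((coset_eq_one_iff (mul_mem an bn)).2 ⟨mul_mem (hAX ha) hbX, e⟩), _, r2, ?_⟩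
  exact ((coset_eq_one_iff (pow_mem (mul_mem an bn) _)).1 (by
    rw [coset_pow (mul_mem an bn), pow_orderOf_eq_one])).2

end Cfsg.Agent.C2
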