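import Cfsg.Agent.Lib.C2.Nm
import Cfsg.Agent.Lib.C2.Loc

/-!
# S1170: from `Dec` to `PD` and `R2` (see notes/C2.md)
-/

set_option autoImplicit false
set_option linter.unusedSectionVars false
set_option linter.unusedVariables false

namespace Cfsg.Agent.C2

open Subgroup Cfsg.Agent.H6 Cfsg.Agent.FT Cfsg.Agent.BD.P1 Cfsg.Agent.G75 Cfsg.Agent.G74
open Cfsg.Agent.St (Od)
open scoped commutatorElement MatrixGroups Matrix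

universe u

variable {G : Type*} [Group G] [Finite G] {T : Set G}
variable {A B C D E H K L M N P Q R S U V W X Y W₁ W₂ : Subgroup G}
variable {a b c d e g h n r s t v w x y z : G}

variable {F : Type} [Field F] [Fintype F] [CharP F 2] {φ φ₁ φ₂ : G → SL(2, F)}
  {ψ ψ₁ ψ₂ : G → Fin 2 → F} {𝓓 : Set (Subgroup G)}

theorem Fac.symm (h : Fac F T A W₁ W₂ E φ₁ φ₂ ψ₁ ψ₂) : Fac F T A W₂ W₁ E φ₂ φ₁ ψ₂ ψ₁ :=
  ⟨by rw [sup_comm W₂, h.sup], by rw [sup_comm W₂, h.ind], by rw [sup_comm W₂]; exact h.cm, h.c2,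
    h.c1, h.n2, h.n1, h.o2, h.o1, by rw [inf_comm, h.inf, Subgroup.commutator_comm],
    by rw [h.z2, inf_comm], by rw [h.z1, inf_comm],
    fun a ha h2 => (h.inv a (by rwa [sup_comm]) h2).symm, eq_bot_iff.2 fun x hx => by
      have h1 : x ∈ W₁ ⊓ W₂ := h.z2 ▸ ⟨hx.1.1, cent_le_cent h.n2.le hx.1.2⟩
      exact h.cc ▸ ⟨⟨h1.1, hx.2⟩, hx.1.2⟩⟩
theorem Fac.inf_le (h : Fac F T A W₁ W₂ E φ₁ φ₂ ψ₁ ψ₂) : (W₁ ⊔ E) ⊓ (W₁ ⊔ W₂) ≤ W₁ := by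
  intro x hx
  obtain ⟨w, hw, e, he, rfl⟩ := (H1.mem_sup_of_le_normalizer
    (h.cm.trans ((cent_le_cent le_sup_left).trans cent_le_norm))).1 hx.1
  have : e ∈ (⊥ : Subgroup G) := h.ind ▸ ⟨(mul_mem_cancel_left (mem_sup_left hw)).1 hx.2, he⟩
  rwa [mem_bot.1 this, mul_one]
theorem Fac.le_Od (hs : SB T A) (h : Fac F T A W₁ W₂ E φ₁ φ₂ ψ₁ ψ₂) :
    XX T (W₁ ⊔ E) ≤ Od (XX T (W₁ ⊔ E)) ⊔ A := hs.toSA.nc_le_Od (h.n1.le.trans XX_le)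
theorem Fac.conj (hs : SB T A) (h : Fac F T A W₁ W₂ E φ₁ φ₂ ψ₁ ψ₂) (hx : x ∈ W₁) :
    ∃ g ∈ 𝒞(E), g * x * g⁻¹ ∈ (W₁ ⊔ W₂) ⊓ 𝒞(W₁ ⊔ W₂) := by
  obtain ⟨g, hg, h1⟩ := h.n1.exists_conj (h.le_Od hs) hx
  exact ⟨g, h.o1 hg, mem_sup_left (conj_mem_of_mem_normalizer (h.n1.norm (St.Od_le _ hg)) hx),
    cent_le_cent (le_sup_left.trans h.sup.le) h1⟩

theorem le_Co (h1 : E ∈ 𝓓) (h2 : E ≠ D) : E ≤ Co 𝓓 D := le_sSup ⟨h1, h2⟩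
theorem cj_eq_of_cent (hg : g ∈ 𝒞(E)) (h : P ≤ E) : cj g P = P :=
  cj_eq_self_iff.2 (cent_le_norm (cent_le_cent h hg))

/-- The relation used with Alperin's theorem. -/
def PF (𝓓 : Set (Subgroup G)) (P : Subgroup G) (g : G) : Prop :=
  ∃ σ : Subgroup G → Subgroup G, Set.BijOn σ 𝓓 𝓓 ∧ ∀ I ⊆ 𝓓, cj g (P ⊓ sSup I) ≤ sSup (σ '' I)

theorem PF.mul {g' : G} (h : PF 𝓓 P g) (h' : PF 𝓓 (cj g P) g') : PF 𝓓 P (g' * g) := by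
  obtain ⟨σ, b, a⟩ := h
  obtain ⟨τ, b', a'⟩ := h'
  refine ⟨τ ∘ σ, b'.comp b, fun D hD => ?_⟩
  rw [← cj_cj, Set.image_comp]
  exact (cj_mono g' (le_inf (cj_mono g inf_le_left) (a D hD))).trans
    (a' _ ((Set.image_mono hD).trans b.mapsTo.image_subset))
theorem PF.of_le (h : ∀ I ⊆ 𝓓, cj g (P ⊓ sSup I) ≤ sSup I) : PF 𝓓 P g :=
  ⟨id, Set.bijOn_id _, by simpa only [Set.image_id] using h⟩
theorem PF.of_norm (h : ∀ g ∈ 𝒩(A), ∀ D ∈ 𝓓, cj g D ∈ 𝓓) (hg : g ∈ 𝒩(A)) : PF 𝓓 P g :=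
  ⟨cj g, ⟨fun D hD => h g hg D hD, fun _ _ _ _ e => cj_injective g e,
    fun D hD => ⟨_, h _ (inv_mem hg) D hD, cj_cj_inv _ _⟩⟩, fun _ _ =>
    (cj_mono g inf_le_right).trans (cj_le_iff_le_cj.2 (sSup_le fun D hD =>
      cj_le_iff_le_cj.1 (le_sSup ⟨D, hD, rfl⟩)))⟩
/-- The elements of `N(P)` satisfying `PF`. -/
def PFs (𝓓 : Set (Subgroup G)) (P : Subgroup G) : Subgroup G :=
  have mul : ∀ {a b : G}, a ∈ 𝒩(P) ∧ PF 𝓓 P a → b ∈ 𝒩(P) ∧ PF 𝓓 P b →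
      a * b ∈ 𝒩(P) ∧ PF 𝓓 P (a * b) := fun ha hb =>
    ⟨mul_mem ha.1 hb.1, hb.2.mul (by rw [cj_eq_self_iff.2 hb.1]; exact ha.2)⟩
  have one : (1 : G) ∈ 𝒩(P) ∧ PF 𝓓 P 1 :=
    ⟨one_mem _, PF.of_le fun _ _ => by rw [cj_one]; exact inf_le_right⟩
  { carrier := {g | g ∈ 𝒩(P) ∧ PF 𝓓 P g}
    mul_mem' := mul
    one_mem' := one
    inv_mem' := fun {x} hx => by
      have : x⁻¹ = x ^ (orderOf x - 1) := by
        rw [eq_comm, eq_inv_iff_mul_eq_one, ← pow_succ, Nat.sub_add_cancel (orderOf_pos x),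
          pow_orderOf_eq_one]
      rw [this]
      induction (orderOf x - 1) with
      | zero => rw [pow_zero]; exact one
      | succ n ih => rw [pow_succ]; exact mul ih hx }

theorem Fac.pf (h : Fac F T A W₁ W₂ E φ₁ φ₂ ψ₁ ψ₂) (hE : ∀ D ∈ 𝓓, D ≠ W₁ ⊔ W₂ → D ≤ E) :
    Od (XX T (W₁ ⊔ E)) ≤ PFs 𝓓 (W₁ ⊔ E) := fun g hg =>
  ⟨XX_le (St.Od_le _ hg), PF.of_le fun I hI => by
    by_cases e : W₁ ⊔ W₂ ∈ I
    · refine cj_le_iff.2 fun x hx => ?_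
      obtain ⟨w, hw, e', he, rfl⟩ := (H1.mem_sup_of_le_normalizer
        (h.cm.trans ((cent_le_cent le_sup_left).trans cent_le_norm))).1 hx.1
      have e1 : g * (w * e') * g⁻¹ = g * w * g⁻¹ * w⁻¹ * (w * e') := by
        rw [mul_assoc g, mul_assoc w, mem_cent.1 (inv_mem (h.o1 hg)) e' he]; group
      rw [e1]
      exact mul_mem ((le_sup_left.trans (le_sSup e)) (mul_mem (conj_mem_of_mem_normalizer
        (h.n1.norm (St.Od_le _ hg)) hw) (inv_mem hw))) hx.2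
    · exact (cj_eq_of_cent (h.o1 hg) (inf_le_right.trans (sSup_le fun D hD =>
        hE D (hI hD) fun a => e (a ▸ hD)))).le.trans inf_le_right⟩

theorem Dec.pf (h : Dec T A 𝓓) (hP : P ≤ A) (h1 : cj g P ≤ A) : PF 𝓓 P g := by
  refine h.toSA.alp (H := ⊤) le_top (R := PF 𝓓) (fun P P' g a ⟨σ, b, c⟩ => ⟨σ, b, fun D hD =>
    (cj_mono g (inf_le_inf_right _ a)).trans (c D hD)⟩) (fun P g g' a b => a.mul b)
    (fun P _ g hg => PF.of_le fun D _ => (cj_eq_of_cent hg.2 inf_le_left).le.trans inf_le_right)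
    (fun g hg => PF.of_norm h.conj hg.2) (fun Q hQ g hg => ?_) P hP g (mem_top g) h1
  suffices hh : 𝒩(Q) ≤ PFs 𝓓 Q from (hh hg.2).2
  refine (h.toSA.le_Od_sup (hQ.norm h.toSB)).trans (sup_le ?_ fun x hx =>
    ⟨hx.1, PF.of_norm h.conj hx.2⟩)
  obtain ⟨D, hD, h2⟩ := h.ess Q hQ
  obtain ⟨F, _, _, _, W₁, W₂, φ₁, φ₂, ψ₁, ψ₂, rfl, a, b⟩ := h.fac D hD
  rcases b Q hQ h2 with rfl | rfl
  · exact a.pf fun D' c d => le_Co c d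
  · exact a.symm.pf fun D' c d => le_Co c (by rwa [sup_comm])

theorem Dec.fratt (h : Dec T A 𝓓) (hD : D ∈ 𝓓) :
    𝒞(Co 𝓓 D) ≤ Cl 𝒞(Co 𝓓 D) D ⊔ (𝒩(Cl 𝒞(Co 𝓓 D) D) ⊓ 𝒩(D)) := by
  obtain ⟨F, _, _, _, W₁, W₂, φ₁, φ₂, ψ₁, ψ₂, e, a, -⟩ := h.fac D hD
  have hA : D ⊔ Co 𝓓 D = A := e ▸ a.sup
  have hc : D ≤ 𝒞(Co 𝓓 D) := cent_comm.1 (e ▸ a.cm)
  set E := Co 𝓓 D with hE
  set L := Cl 𝒞(E) D with hL
  have l1 : L ≤ 𝒞(E) := Cl_le le_normalizer hc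
  have l2 : A ≤ 𝒩(L) := hA ▸ sup_le (le_Cl.trans le_normalizer)
    ((cent_comm.1 l1).trans cent_le_norm)
  intro c hc'
  obtain ⟨l, hl, n, hn, rfl⟩ := (H1.mem_sup_of_le_normalizer inf_le_left).1
    (h.toSA.frattini_inf l2 (normalIn_norm L) (norm_Cl hc'))
  refine mul_mem (mem_sup_left hl) (mem_sup_right ⟨hn.1, ?_⟩)
  have n1 : n ∈ 𝒞(E) := (mul_mem_cancel_left (l1 hl)).1 hc'
  have n2 : n ∈ 𝒩(A) := by
    have : A ⊓ L ⊔ E = A := le_antisymm (sup_le inf_le_left (le_sup_right.trans hA.le))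
      (hA.ge.trans (sup_le_sup_right (le_inf (le_sup_left.trans hA.le) le_Cl) _))
    rw [← this]
    exact zpowers_le.1 (H1.le_normalizer_sup (zpowers_le.2 hn.2)
      (zpowers_le.2 (cent_le_norm n1)))
  by_contra hne
  have := cj_eq_of_cent (inv_mem n1) (le_Co (h.conj n n2 D hD) fun e => hne (cj_eq_self_iff.1 e))
  rw [cj_inv_cj] at this
  exact hne (cj_eq_self_iff.1 this.symm)

theorem Dec.pd {𝓓 : Set (Subgroup G)} (h : Dec T A 𝓓) : ∃ L, PD T A 𝓓 L := by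
  refine ⟨fun D => Cl 𝒞(Co 𝓓 D) D, h.toSB, h.sup, fun D hD => ?_, fun D hD => ?_,
    fun D hD hc => ?_, fun D hD => ?_, h.conj, fun g P a b => h.pf a b, fun D _ => le_Cl,
    fun D hD => ?_, fun D hD => iSup₂_le fun c hc => ?_, fun D hD x hx h2 => ?_⟩
  · obtain ⟨F, _, _, _, W₁, W₂, φ₁, φ₂, ψ₁, ψ₂, e, a, -⟩ := h.fac D hD
    exact e ▸ a.cm
  · obtain ⟨F, _, _, _, W₁, W₂, φ₁, φ₂, ψ₁, ψ₂, e, a, -⟩ := h.fac D hD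
    exact e ▸ a.ind
  · obtain ⟨F, _, _, _, W₁, W₂, φ₁, φ₂, ψ₁, ψ₂, rfl, a, -⟩ := h.fac D hD
    obtain ⟨x, hx, e⟩ := a.n1.A_surj 1
    exact one_ne_zero (e.symm.trans ((a.n1.A_cent hx).1
      (cent_le_cent le_sup_left (a.sup.ge.trans (sup_le hc a.cm) hx))))
  · obtain ⟨F, _, _, _, W₁, W₂, φ₁, φ₂, ψ₁, ψ₂, rfl, a, -⟩ := h.fac D hD
    exact sup_le (fun x hx => subset_closure ⟨mem_sup_left hx, a.n1.sq hx⟩)
      fun x hx => subset_closure ⟨mem_sup_right hx, a.n2.sq hx⟩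
  · obtain ⟨F, _, _, _, W₁, W₂, φ₁, φ₂, ψ₁, ψ₂, e, a, -⟩ := h.fac D hD
    exact Cl_le le_normalizer (cent_comm.1 (e ▸ a.cm))
  · obtain ⟨l, hl, n, hn, rfl⟩ := (H1.mem_sup_of_le_normalizer inf_le_left).1 (h.fratt hD hc)
    rw [← cj_cj, cj_eq_self_iff.2 hn.2]
    exact le_iSup₂_of_le l hl le_rfl
  · obtain ⟨g, hg, h1⟩ : ∃ g ∈ 𝒞(Co 𝓓 D), g * x * g⁻¹ ∈ D ⊓ 𝒞(D) := by
      obtain ⟨F, _, _, _, W₁, W₂, φ₁, φ₂, ψ₁, ψ₂, rfl, a, -⟩ := h.fac D hD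
      rcases a.inv x hx h2 with b | b
      · exact a.conj h.toSB b
      · simpa only [sup_comm W₂] using a.symm.conj h.toSB b
    obtain ⟨n, hn, l, hl, rfl⟩ := (H1.mem_sup_of_le_normalizer' inf_le_left).1
      (sup_comm (Cl 𝒞(Co 𝓓 D) D) _ ▸ h.fratt hD hg)
    refine ⟨l, hl, ?_⟩
    simpa [mul_assoc] using conj_mem_of_mem_normalizer' (norm_ZQ hn.2) h1

theorem Dec.r2 {𝓓 : Set (Subgroup G)} (h : Dec T A 𝓓) (h1 : A ≠ ⊥)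
    (h2 : ∀ D ∈ 𝓓, 𝒩(A) ≤ 𝒩(D)) :
    ∃ (F : Type) (_ : Field F) (_ : Fintype F) (_ : CharP F 2) (W₁ W₂ : Subgroup G)
      (φ₁ φ₂ : G → SL(2, F)) (ψ₁ ψ₂ : G → Fin 2 → F), R2 F T A W₁ W₂ φ₁ φ₂ ψ₁ ψ₂ := by
  obtain ⟨D, hD⟩ : 𝓓.Nonempty := Set.nonempty_iff_ne_empty.2 fun e =>
    h1 (by rw [← h.sup, e, sSup_empty])
  have e0 : Co 𝓓 D = ⊥ := eq_bot_iff.2 (sSup_le fun D' a => by
    obtain ⟨g, hg, e⟩ := h.trans D hD D' a.1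
    exact (a.2 (e.symm.trans (cj_eq_self_iff.2 (h2 D hD hg)))).elim)
  obtain ⟨F, _, _, _, W₁, W₂, φ₁, φ₂, ψ₁, ψ₂, e, a, b⟩ := h.fac D hD
  rw [e0] at a b
  obtain ⟨a1, -, -, a4, a5, a6, a7, -, -, a10, a11, -, a13, a14⟩ := a
  simp only [sup_bot_eq] at a1 a4 a5 a6 a7 a14 b
  refine ⟨F, _, ‹_›, ‹_›, W₁, W₂, φ₁, φ₂, ψ₁, ψ₂, h.toSB, a1, a4, a5, a6, a7, a10,
    le_antisymm (le_inf ?_ ?_) (le_inf (inf_le_left.trans (le_sup_left.trans a1.le))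
      (a11.ge.trans inf_le_right)), fun x hx => a13 x (a1.ge hx), a14, fun Q hQ => b Q hQ bot_le⟩
  · exact (inf_le_inf_left A (cent_le_cent (le_sup_left.trans a1.le))).trans a4.le
  · exact (inf_le_inf_left A (cent_le_cent (le_sup_right.trans a1.le))).trans a5.le

end Cfsg.Agent.C2
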