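import Cfsg.Agent.Lib.C2.Defs

/-!
# S1170: the signalizer functor of a locally separated pair of four-groups (see notes/C2.md)
-/

set_option autoImplicit false
set_option linter.unusedSectionVars false
set_option linter.unusedVariables false

namespace Cfsg.Agent.C2

open Subgroup Cfsg.Agent.H6 Cfsg.Agent.FT Cfsg.Agent.BD.P1 Cfsg.Agent.G75 Cfsg.Agent.G74 W8
open scoped commutatorElement

variable {G : Type*} [Group G] [Finite G] {T : Set G}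
variable {A A' B B' C D E H H' K M N P Q R S U U' V V' W X Y : Subgroup G}
variable {a b c d e g n r s t u v w x y z : G}

/-- `⟨T ∩ H⟩ C_H(V)`. -/
def Hv (T : Set G) (H V : Subgroup G) : Subgroup G := Nc T H ⊔ (H ⊓ 𝒞(V))

/-- A `2`-subgroup of `H` inside `T`. -/
structure Tin (T : Set G) (H V : Subgroup G) : Prop where
  sc : SC T
  two : IsPGroup 2 V
  sub : (V : Set G) ⊆ T
  le : V ≤ H

theorem Hv_le : Hv T H V ≤ H := sup_le Nc_le inf_le_left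

namespace Tin

theorem le_Nc (h : Tin T H V) : V ≤ Nc T H := G75.le_Nc h.sub h.le
theorem mono (h : Tin T H V) (h1 : V ≤ H') : Tin T H' V := ⟨h.sc, h.two, h.sub, h1⟩
theorem of_le (h : Tin T H V) (h1 : U ≤ V) : Tin T H U :=
  ⟨h.sc, h.two.to_le h1, fun _ hx => h.sub (h1 hx), h1.trans h.le⟩
theorem le_Hv (h : Tin T H V) (hX : Odd (Nat.card X)) (hn : V ≤ 𝒩(X)) (hle : X ≤ H) :
    X ≤ Hv T H V := by
  rw [← cent_prod hX h.two hn]
  exact sup_le_sup ((commutator_mono le_rfl h.le_Nc).trans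
    (commutator_le_right (hle.trans h.sc.normal_Nc.norm))) (inf_le_inf_right _ hle)
theorem normal_Kc (h : Tin T H V) : NormalIn (Kc T H V) (Hv T H V) :=
  ⟨(Kc_le h.le_Nc).trans le_sup_left, sup_le norm_Kc fun g hg =>
    mem_normalizer_of_cj_le (cj_Kc_le h.sc (cj_le_of_mem hg.1 le_rfl)
      (cj_eq_self_iff.2 (cent_le_norm hg.2)).le)⟩
theorem Kc_le (h : Tin T H V) : Kc T H V ≤ H := h.normal_Kc.le.trans Hv_le
theorem comm_le_Kc (h : Tin T H V) (hX : Odd (Nat.card X)) (hn : V ≤ 𝒩(X)) (hle : X ≤ H) :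
    ⁅X, V⁆ ≤ Kc T H V :=
  (commutator_mono le_rfl le_Kc).trans
    (commutator_le_right ((h.le_Hv hX hn hle).trans h.normal_Kc.norm))
theorem O_le_Hv (h : Tin T H V) : Op' 2 H ≤ Hv T H V :=
  h.le_Hv (odd_Op' _) (h.le.trans (nO _)) (O_le _)
theorem le_of_comm (h : Tin T H V) (hY : Y ≤ H) (h1 : ⁅V, Y⁆ ≤ Op' 2 H) :
    Y ≤ Op' 2 H ⊔ (H ⊓ 𝒞(V)) := by
  have h4 := coprime_eq_sup_cent_of_commutator_le (H := centMod H V (Op' 2 H)) (A := V)
    ⟨O_le_cM h.le, inf_le_left.trans (nO _)⟩ (h.le.trans (nO _))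
    (by rw [Subgroup.commutator_comm]; exact cM_comm)
    (cop2 (odd_Op' _) h.two) (Or.inr (sol_odd (odd_Op' _)))
  exact (le_cM hY h1).trans (h4.ge.trans (sup_le_sup_left (inf_le_inf_right _ inf_le_left) _))
theorem O_Hv (h : Tin T H V) : Op' 2 (Hv T H V) = Op' 2 H := by
  refine le_antisymm ?_ ((le_inf le_rfl h.O_le_Hv).trans (core_inf_le Hv_le))
  have n1 := h.sc.normal_Nc (H := H)
  have n2 : NormalIn (centMod H (Nc T H) (Op' 2 H)) H := cM_normal n1.norm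
  have h1 : centMod H (Nc T H) (Op' 2 H) ≤ Hv T H V :=
    (h.le_of_comm n2.le ((commutator_mono h.le_Nc le_rfl).trans cM_comm)).trans
      (sup_le h.O_le_Hv le_sup_right)
  have h2 : Op' 2 (Hv T H V) ≤ centMod H (Nc T H) (Op' 2 H) := by
    refine le_cM ((O_le _).trans Hv_le) (le_trans (le_inf ?_ ?_)
      ((core_inf_le (le_sup_left : Nc T H ≤ Hv T H V)).trans (core_le_of_normal n1)))
    · exact commutator_le_right (le_sup_left.trans (nO _))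
    · exact commutator_le_left (((O_le _).trans Hv_le).trans n1.norm)
  exact (le_inf le_rfl h2).trans ((core_inf_le h1).trans (core_le_of_normal n2))
theorem le_O (hU : Tin T H U) (hV : Tin T H V) (hc : ⁅Kc T H V, U⁆ ≤ Op' 2 H)
    (hX : Odd (Nat.card X)) (hle : X ≤ H) (nU : U ≤ 𝒩(X)) (nV : V ≤ 𝒩(X))
    (cU : X ⊓ 𝒞(U) ≤ Op' 2 𝒞(U)) (cV : X ⊓ 𝒞(V) ≤ Op' 2 𝒞(V)) : X ≤ Op' 2 H := by
  rw [← hV.O_Hv] at hc ⊢
  exact le_O_two hU.two hV.two (hU.le_Nc.trans le_sup_left) hV.normal_Kc le_Kc hc hX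
    (hV.le_Hv hX nV hle) nU nV cU cV
/-- The key lemma. -/
theorem comm_le_O (hU : Tin T H U) (hV : Tin T H V) (hc : ⁅Kc T H V, U⁆ ≤ Op' 2 H)
    (hn : V ≤ 𝒩(X)) (hle : X ≤ H) (h1 : X ≤ Op' 2 𝒞(U)) : ⁅X, V⁆ ≤ Op' 2 H := by
  have h4 := odd_le (odd_Op' _) h1
  have h5 := commutator_le_left hn
  have n1 := hV.normal_Kc
  have hUH : U ≤ Hv T H V := hU.le_Nc.trans le_sup_left
  rw [← hV.O_Hv] at hc ⊢
  refine le_trans (le_inf ((hV.comm_le_Kc h4 hn hle).trans le_sup_left)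
    (le_sup_of_le_right (le_inf (h5.trans h1) (h5.trans (hV.le_Hv h4 hn hle)))))
    (L2 hU.two hUH (n1.sup (core_normal' _ _)) le_sup_right ?_).1
  rw [Subgroup.commutator_comm] at hc ⊢
  exact (le_centMod_iff.1 (sup_le (le_cM n1.le hc) (O_le_cM hUH))).2.2

end Tin

/-- Separation in the centralizer of `c`. -/
def CSep (T : Set G) (c : G) (U V : Subgroup G) : Prop :=
  ⁅Kc T 𝒞[c] U, Kc T 𝒞[c] V⁆ ≤ Op' 2 𝒞[c]

theorem CSep.symm (h : CSep T c U V) : CSep T c V U := by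
  rw [CSep, Subgroup.commutator_comm]; exact h
theorem Kc_mono' (h : U ≤ U') : Kc T H U ≤ Kc T H U' := Kc_le_of norm_Kc (h.trans le_Kc)
theorem CSep.mono (h : CSep T c U V) (h1 : U' ≤ U) (h2 : V' ≤ V) : CSep T c U' V' :=
  (commutator_mono (Kc_mono' h1) (Kc_mono' h2)).trans h
theorem CSep.left (h : CSep T c U V) : ⁅Kc T 𝒞[c] U, V⁆ ≤ Op' 2 𝒞[c] :=
  (commutator_mono le_rfl le_Kc).trans h
theorem CSep.of_cj (hT : SC T) (h : CSep T (g * c * g⁻¹) (cj g U) (cj g V)) : CSep T c U V := by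
  rw [CSep, ← cj_le_cj_iff (g := g), cj_commutator, cj_O1]
  exact (commutator_mono (cj_Kc_le hT (cj_centralizer_singleton g c).le le_rfl)
    (cj_Kc_le hT (cj_centralizer_singleton g c).le le_rfl)).trans h

/-- A locally separated pair of commuting four-groups. -/
structure Fq (T : Set G) (A B : Subgroup G) : Prop where
  sc : SC T
  fa : F4 A
  fb : F4 B
  sa : (A : Set G) ⊆ T
  sb : (B : Set G) ⊆ T
  cm : A ≤ 𝒞(B)
  disj : A ⊓ B = ⊥
  cs : ∀ c ∈ A ⊔ B, c ≠ 1 → CSep T c A B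

namespace Fq

theorem symm (h : Fq T A B) : Fq T B A :=
  ⟨h.sc, h.fb, h.fa, h.sb, h.sa, cent_comm.1 h.cm, by rw [inf_comm, h.disj],
    fun c hc h1 => (h.cs c (by rwa [sup_comm]) h1).symm⟩
theorem elem (h : Fq T A B) : IsElementaryAbelian 2 (A ⊔ B) :=
  elem_sup h.fa.elem h.fb.elem h.cm
theorem le_cent (h : Fq T A B) : A ⊔ B ≤ 𝒞(A ⊔ B) := (elem_iff.1 h.elem).1
theorem ca (h : Fq T A B) (hc : c ∈ A ⊔ B) : A ≤ 𝒞[c] :=
  le_sup_left.trans (h.le_cent.trans (cent_le_cent1 hc))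
theorem cb (h : Fq T A B) (hc : c ∈ A ⊔ B) : B ≤ 𝒞[c] :=
  le_sup_right.trans (h.le_cent.trans (cent_le_cent1 hc))
theorem ta (h : Fq T A B) (h1 : A ≤ H) : Tin T H A := ⟨h.sc, h.fa.pgroup, h.sa, h1⟩
theorem tb (h : Fq T A B) (h1 : B ≤ H) : Tin T H B := ⟨h.sc, h.fb.pgroup, h.sb, h1⟩
theorem inf_cent (hX : Good A B X) (h1 : A ≤ 𝒞[c]) (h2 : B ≤ 𝒞[c]) : Good A B (X ⊓ 𝒞[c]) :=
  ⟨odd_le hX.odd inf_le_left, H1.le_normalizer_inf hX.na (norm_cent1 h1),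
    H1.le_normalizer_inf hX.nb (norm_cent1 h2),
    (inf_le_inf_right _ inf_le_left).trans hX.ca, (inf_le_inf_right _ inf_le_left).trans hX.cb⟩
theorem le_O' (h : Fq T A B) (hX : Good A B X) (h1 : A ≤ 𝒞[c]) (h2 : B ≤ 𝒞[c])
    (hs : CSep T c A B) : X ⊓ 𝒞[c] ≤ Op' 2 𝒞[c] :=
  have h3 := inf_cent hX h1 h2
  (h.ta h1).le_O (h.tb h2) hs.symm.left h3.odd inf_le_right h3.na h3.nb h3.ca h3.cb
theorem le_O (h : Fq T A B) (hX : Good A B X) (hc : c ∈ A ⊔ B) (h1 : c ≠ 1) :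
    X ⊓ 𝒞[c] ≤ Op' 2 𝒞[c] := h.le_O' hX (h.ca hc) (h.cb hc) (h.cs c hc h1)

theorem comm_inf_le (h : Fq T A B) (hb : b ∈ A ⊔ B) :
    ⁅Op' 2 𝒞[b], A⁆ ⊓ 𝒞(A) ≤ Op' 2 𝒞(A) := by
  have hBA : B ≤ 𝒞(A) := cent_comm.1 h.cm
  have tB := h.tb hBA
  have hAb : A ≤ 𝒩(Op' 2 𝒞[b]) := (h.ca hb).trans (nO _)
  have hBb : B ≤ 𝒩(Op' 2 𝒞[b]) := (h.cb hb).trans (nO _)
  have hBC : B ≤ 𝒩(𝒞(A)) := hBA.trans le_normalizer
  set H := Hv T 𝒞(A) B with hH
  have hO : Op' 2 H = Op' 2 𝒞(A) := tB.O_Hv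
  have n2 : NormalIn (Kc T 𝒞(A) B) H := tB.normal_Kc
  set E := centMod H (Kc T 𝒞(A) B) (Op' 2 H)
  have nE : NormalIn E H := cM_normal n2.norm
  have h1 : ⁅Op' 2 𝒞[b], A⁆ ⊓ 𝒞(A) ≤ E := by
    refine Z4 h.fa _ _ rfl (odd_Op' _) hAb ((tB.le_Hv
      (odd_le (odd_Op' _) inf_le_left) (H1.le_normalizer_inf hBb hBC) inf_le_right).trans nE.norm)
      fun v hv h1 => ?_
    have hv' : 𝒞(A) ≤ 𝒞[v] := cent_le_cent1 hv
    have h2 : A ≤ 𝒩(Op' 2 𝒞[b] ⊓ 𝒞[v]) :=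
      H1.le_normalizer_inf hAb (norm_cent1 (h.fa.le_cent1 hv))
    have h2' : B ≤ 𝒩(Op' 2 𝒞[b] ⊓ 𝒞[v]) :=
      H1.le_normalizer_inf hBb (norm_cent1 (hBA.trans hv'))
    have h3 := odd_le (odd_Op' 𝒞[b]) (inf_le_left : _ ⊓ 𝒞[v] ≤ _)
    refine le_cM (tB.le_Hv (odd_le h3 (inf_le_left.trans (commutator_le_left h2)))
      (H1.le_normalizer_inf (H1.le_normalizer_commutator h2' (hBA.trans cent_le_norm)) hBC)
      inf_le_right) ?_
    rw [hO]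
    refine (le_inf ?_ ((commutator_mono tB.Kc_le inf_le_right).trans (der_le _))).trans
      (core_inf_le hv')
    exact (commutator_mono (Kc_mono hv') (inf_le_left.trans
      ((h.ta (h.fa.le_cent1 hv)).comm_le_Kc h3 h2 inf_le_right))).trans
      (h.cs v (mem_sup_left hv) h1).symm
  have hAH : A ≤ H := (h.ta h.fa.le_cent).le_Nc.trans le_sup_left
  have hBH : B ≤ H := tB.le_Nc.trans le_sup_left
  have h2 : A ⊔ B ≤ centMod H E (Op' 2 H) := by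
    refine sup_le (le_cM hAH ?_) (le_cM hBH ?_)
    · rw [commutator_eq_bot_iff.2 (nE.le.trans Hv_le)]; exact bot_le
    · rw [Subgroup.commutator_comm]
      exact (commutator_mono le_Kc le_rfl).trans cM_comm
  have h3 := (L2 (B := zpowers b) ((elem_pgroup h.elem).to_le (zpowers_le.2 hb))
    (zpowers_le.2 (sup_le hAH hBH hb)) nE (O_le_cM n2.le)
    ((commutator_mono le_rfl (zpowers_le.2 (h2 hb))).trans cM_comm)).1
  rw [cent_zpowers] at h3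
  rw [← hO]
  exact (le_inf h1 (le_sup_of_le_right (le_inf (inf_le_left.trans
    (commutator_le_left hAb)) (h1.trans nE.le)))).trans h3

theorem norm_Yh' (h : Fq T A B) (hb : b ∈ A ⊔ B) : A ⊔ B ≤ 𝒩(Yh A b) :=
  norm_Yh (sup_le (h.ca hb) (h.cb hb))
    ((sup_le h.fa.le_cent (cent_comm.1 h.cm)).trans cent_le_norm)

theorem good_th (h : Fq T A B) (hb : b ∈ A ⊔ B) : Good A B (th A B b) := by
  have hb' : b ∈ B ⊔ A := by rwa [sup_comm]
  have h1 : A ⊔ B ≤ 𝒩(th A B b) :=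
    H1.le_normalizer_inf (h.norm_Yh' hb) (by rw [sup_comm]; exact h.symm.norm_Yh' hb')
  exact ⟨odd_le (odd_Op' _) (inf_le_left.trans (Yh_le (h.ca hb))), le_sup_left.trans h1,
    le_sup_right.trans h1, (inf_le_inf_right _ inf_le_left).trans (Yh_inf_of (h.comm_inf_le hb)),
    (inf_le_inf_right _ inf_le_right).trans (Yh_inf_of (h.symm.comm_inf_le hb'))⟩

theorem th_le (h : Fq T A B) (hb : b ∈ A ⊔ B) : th A B b ≤ 𝒞[b] :=
  (inf_le_left.trans (Yh_le (h.ca hb))).trans (O_le _)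

theorem le_th (h : Fq T A B) (hX : Good A B X) (hc : c ∈ A ⊔ B) (h1 : c ≠ 1) :
    X ⊓ 𝒞[c] ≤ th A B c := by
  have h2 := inf_cent hX (h.ca hc) (h.cb hc)
  have h3 := h.le_O hX hc h1
  exact le_inf (le_Yh h.fa.pgroup h2.na h3 h2.ca) (le_Yh h.fb.pgroup h2.nb h3 h2.cb)

theorem functor (h : Fq T A B) : IsSignalizerFunctor 2 (A ⊔ B) (th A B) :=
  ⟨fun _ ha _ => h.th_le ha, fun _ ha _ => by
    rw [← even_iff_two_dvd, Nat.not_even_iff_odd]; exact (h.good_th ha).odd,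
    fun _ ha _ _ hb _ hx => conj_mem_of_mem_normalizer
      (sup_le (h.good_th ha).na (h.good_th ha).nb hb) hx,
    fun _ ha _ _ hb h1 => h.le_th (h.good_th ha) hb h1⟩

theorem card (h : Fq T A B) : Nat.card (A ⊔ B : Subgroup G) = 16 := by
  have := card_mul_of_forall_mul (M := A ⊔ B) le_sup_left le_sup_right fun m hm => by
    obtain ⟨a, ha, b, hb, e⟩ := (H1.mem_sup_of_le_normalizer' (h.cm.trans cent_le_norm)).1 hm
    exact ⟨a, ha, b, hb, e.symm⟩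
  rw [h.disj, card_bot, h.fa.card, h.fb.card] at this
  omega

theorem good_Wd (h : Fq T A B) : Good A B (Wd A B) := by
  obtain ⟨W, h1, h2, h3⟩ := sft G _ _ h.elem h.card h.functor
  have key : ∀ {A' : Subgroup G}, F4 A' → A' ≤ A ⊔ B → ∃ a ∈ A ⊔ B, W ⊓ 𝒞(A') ≤ th A B a ⊓ 𝒞(A') :=
    fun hA' hle => by
      obtain ⟨a, ha, h4, -⟩ := hA'.exists_ne 1
      exact ⟨a, hle ha, le_inf (h3 a (hle ha) h4 ▸ inf_le_inf_left _ (cent_le_cent1 ha))
        inf_le_right⟩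
  have h4 : Good A B W := ⟨h1, le_sup_left.trans h2, le_sup_right.trans h2, by
    obtain ⟨a, ha, h5⟩ := key h.fa le_sup_left
    exact h5.trans (h.good_th ha).ca, by
    obtain ⟨a, ha, h5⟩ := key h.fb le_sup_right
    exact h5.trans (h.good_th ha).cb⟩
  have h5 : Wd A B = W := le_antisymm (sSup_le fun X (hX : Good A B X) =>
    coprime_abelian_gen_cent1 h.fa.comm (h.fa.not_cyclic Nat.prime_two) hX.na
      (cop2 hX.odd h.fa.pgroup) fun a ha h5 => (h.le_th hX (mem_sup_left ha) h5).trans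
        (h3 a (mem_sup_left ha) h5 ▸ inf_le_left)) (le_Wd h4)
  rwa [h5]

theorem Wd_le (h : Fq T A B) (h' : Fq T A' B) (ha : a ∈ A) (ha' : a ∈ A')
    (h1 : a ≠ 1) : Wd A B ≤ Wd A' B := by
  have hW := h.good_Wd
  refine coprime_abelian_gen_cent1 h.fb.comm (h.fb.not_cyclic Nat.prime_two) hW.nb
    (cop2 hW.odd h.fb.pgroup) fun e he h2 => le_trans ?_ (le_Wd (h'.good_th (mem_sup_right he)))
  have hX := inf_cent hW (h.ca (mem_sup_right he)) (h.cb (mem_sup_right he))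
  have h3 := h.le_O hW (mem_sup_right he) h2
  refine le_inf ?_ (h3.trans (O_le_Yh h.fb he))
  have h4 := h.le_O hX (mem_sup_left ha) h1
  rw [← cent_prod hX.odd (h.fa.pgroup.to_le (zpowers_le.2 ha)) ((zpowers_le.2 ha).trans hX.na),
    cent_zpowers]
  refine sup_le (le_sup_of_le_left (commutator_mono h3 (zpowers_le.2 ha')))
    ((le_inf (inf_le_left.trans h3) h4).trans (le_Yh h'.fa.pgroup (H1.le_normalizer_inf
      ((h'.ca (mem_sup_right he)).trans (nO _)) ((h'.fa.le_cent1 ha').trans (nO _))) inf_le_left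
      ((inf_le_inf_right _ inf_le_right).trans (core_inf_le (cent_le_cent1 ha')))))

theorem Wd_eq (h : Fq T A B) (h' : Fq T A' B) (ha : a ∈ A) (ha' : a ∈ A')
    (h1 : a ≠ 1) : Wd A B = Wd A' B :=
  le_antisymm (h.Wd_le h' ha ha' h1) (h'.Wd_le h ha' ha h1)

end Fq

theorem Wd_symm (A B : Subgroup G) : Wd A B = Wd B A :=
  le_antisymm (sSup_le fun _ hX => le_Wd (Good.symm hX)) (sSup_le fun _ hX => le_Wd (Good.symm hX))

theorem cent_le_norm_Wd : 𝒞(A) ⊓ 𝒞(B) ≤ 𝒩(Wd A B) := fun g hg => by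
  rw [← cj_eq_self_iff, cj_Wd, cj_eq_self_iff.2 (cent_le_norm hg.1),
    cj_eq_self_iff.2 (cent_le_norm hg.2)]

/-- Change of the second four-group. -/
theorem Fq.Wd_le' (h : Fq T A B) (fb : F4 B') (h1 : B' ≤ 𝒞(A)) (h2 : B' ≤ 𝒞(B))
    (hs : ∀ c ∈ B', c ≠ 1 → CSep T c A B) : Wd A B ≤ Wd A B' := by
  have hW := h.good_Wd
  obtain ⟨c, hc, h3, -⟩ := fb.exists_ne 1
  refine le_Wd ⟨hW.odd, hW.na, (le_inf h1 h2).trans cent_le_norm_Wd, hW.ca, ?_⟩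
  exact (le_inf ((inf_le_inf_left _ (cent_le_cent1 hc)).trans (h.le_O' hW
    (le_cent1_iff.2 (h1 hc)) (le_cent1_iff.2 (h2 hc)) (hs c hc h3))) inf_le_right).trans
    (core_inf_le (cent_le_cent1 hc))

/-- The key lemma. -/
theorem Fq.key (h : Fq T A B) (hu : u ∈ T) (h2 : u * u = 1) (h3 : A ≤ 𝒞[u]) (h4 : B ≤ 𝒞[u])
    (hv : v ∈ B) (s1 : CSep T v A (zpowers u))
    (s2 : ∀ c ∈ A, c ≠ 1 → CSep T c (zpowers u) (zpowers v)) :
    ⁅Op' 2 𝒞[u] ⊓ 𝒞[v], A⁆ ≤ Wd A B := by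
  have hBv := h.fb.le_cent1 hv
  have hAv := h.ca (mem_sup_right hv)
  have pu : IsPGroup 2 (zpowers u) := isPGroup_zpowers (k := 1) (by rw [pow_one, pow_two, h2])
  have tu : ∀ {H : Subgroup G}, u ∈ H → Tin T H (zpowers u) := fun hH =>
    ⟨h.sc, pu, h.sc.zpowers hu, zpowers_le.2 hH⟩
  have nA : A ≤ 𝒩(Op' 2 𝒞[u] ⊓ 𝒞[v]) := H1.le_normalizer_inf (h3.trans (nO _)) (norm_cent1 hAv)
  have nB : B ≤ 𝒩(Op' 2 𝒞[u] ⊓ 𝒞[v]) := H1.le_normalizer_inf (h4.trans (nO _)) (norm_cent1 hBv)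
  have h5 := commutator_le_left nA
  have h6 : ⁅Op' 2 𝒞[u] ⊓ 𝒞[v], A⁆ ≤ Op' 2 𝒞[v] :=
    (tu (mem_cent1_comm.1 (h4 hv))).comm_le_O (h.ta hAv) s1.left nA inf_le_right
      (by rw [cent_zpowers]; exact inf_le_left)
  have h7 := odd_le (odd_Op' _) h6
  obtain ⟨c, hc, h8, -⟩ := h.fa.exists_ne 1
  refine le_Wd ⟨h7, le_norm_commutator_right, H1.le_normalizer_commutator nB
    ((cent_comm.1 h.cm).trans cent_le_norm), ?_,
    (inf_le_inf_right _ h6).trans (core_inf_le (cent_le_cent1 hv))⟩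
  refine (le_inf ((inf_le_inf_left _ (cent_le_cent1 hc)).trans ?_) inf_le_right).trans
    (core_inf_le (cent_le_cent1 hc))
  have h9 : ∀ {w : G}, ⁅Op' 2 𝒞[u] ⊓ 𝒞[v], A⁆ ≤ 𝒞[w] →
      zpowers w ≤ 𝒩(⁅Op' 2 𝒞[u] ⊓ 𝒞[v], A⁆ ⊓ 𝒞[c]) := fun h9 =>
    (zpowers_le.2 (le_cent1_iff.1 (inf_le_left.trans h9))).trans cent_le_norm
  refine (tu (mem_cent1_comm.1 (h3 hc))).le_O
    ((h.tb (h.cb (mem_sup_left hc))).of_le (zpowers_le.2 hv)) (s2 c hc h8).symm.left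
    (odd_le h7 inf_le_left) inf_le_right (h9 (h5.trans (inf_le_left.trans (O_le _))))
    (h9 (h5.trans inf_le_right)) ?_ ?_ <;> rw [cent_zpowers]
  · exact inf_le_left.trans (inf_le_left.trans (h5.trans inf_le_left))
  · exact inf_le_left.trans (inf_le_left.trans h6)

end Cfsg.Agent.C2
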