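import Cfsg.Agent.Lib.C2.A5a
import Cfsg.Agent.Lib.C2.A5fa

/-!
# S1170: one factor (part A5), separation and the canonical odd subgroup (see notes/C2.md)
-/

set_option autoImplicit false
set_option linter.unusedSectionVars false
set_option linter.unusedVariables false

namespace Cfsg.Agent.C2

open Subgroup Cfsg.Agent.H6 Cfsg.Agent.FT Cfsg.Agent.BD.P1 Cfsg.Agent.G75 Cfsg.Agent.G74 W8
open scoped commutatorElement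

variable {G : Type*} [Group G] [Finite G] {T : Set G}
variable {A B C D D' D'' E H H' J K M N P Q R S U U' V V' W X Y α α' β β' γ : Subgroup G}
variable {a b b' c d e g n r s t u v w x y z : G}
variable {𝓓 : Set (Subgroup G)} {L : Subgroup G → Subgroup G}

namespace PD

theorem ne_bot (h : PD T A 𝓓 L) (hD : D ∈ 𝓓) : D ≠ ⊥ := fun e => h.nab D hD (e ▸ bot_le)
theorem norm_Co (h : PD T A 𝓓 L) : A ≤ 𝒩(Co 𝓓 D) := h.norm_sSup Set.sdiff_subset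
theorem le_cCo (h : PD T A 𝓓 L) (hD : D ∈ 𝓓) : D ≤ 𝒞(Co 𝓓 D) := cent_comm.1 (h.cm D hD)
theorem cCo_le (hD' : D' ∈ 𝓓) (hne : D' ≠ D) : 𝒞(Co 𝓓 D) ≤ 𝒞(D') :=
  cent_le_cent (le_Co hD' hne)
theorem sub_T (h : PD T A 𝓓 L) (hD : D ∈ 𝓓) (hU : U ≤ D) : (U : Set G) ⊆ T :=
  fun _ hx => h.sub (h.le hD (hU hx))
theorem tin (h : PD T A 𝓓 L) (hU : U ≤ A) (h1 : U ≤ H) : Tin T H U :=
  ⟨h.sc, h.toSA.two.to_le hU, fun _ hx => h.sub (hU hx), h1⟩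

/-- Fusion in `C(E)` respects `D`. -/
theorem cj_le (h : PD T A 𝓓 L) (hD : D ∈ 𝓓) (hg : g ∈ 𝒞(Co 𝓓 D)) (hU : U ≤ D)
    (h1 : cj g U ≤ A) : cj g U ≤ D := by
  have e : cj g (Co 𝓓 D) = Co 𝓓 D := cj_eq_self_iff.2 (cent_le_norm hg)
  obtain ⟨σ, h2, h3⟩ := h.pf1 g (P := U ⊔ Co 𝓓 D) (sup_le (hU.trans (h.le hD)) h.Co_le)
    (by rw [cj_sup, e]; exact sup_le h1 h.Co_le)
  have h4 : σ D = D := by
    by_contra h4
    have h5 := h2.mapsTo hD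
    have h6 := h3 _ h5
    rw [inf_eq_right.2 ((le_Co h5 h4).trans le_sup_right),
      cj_eq_self_iff.2 (cent_le_norm (cCo_le h5 h4 hg))] at h6
    obtain ⟨x, hx, h7⟩ := exists_ne1 (h.ne_bot h5)
    exact h4 (h2.injOn h5 hD (h.eq_of_mem h5 (h2.mapsTo h5) hx (h6 hx) h7).symm)
  exact (cj_mono g (le_inf le_sup_left hU)).trans ((h3 D hD).trans h4.le)

theorem exists_cj_cent (h : PD T A 𝓓 L) (hD : D ∈ 𝓓) (hg : g ∈ 𝒞(Co 𝓓 D)) (hU : U ≤ D)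
    (hK : A ≤ 𝒩(K)) (h1 : K ≤ 𝒞(Co 𝓓 D)) (h2 : cj g U ≤ K) : ∃ k ∈ K, cj (k * g) U ≤ D := by
  obtain ⟨k, hk, h3⟩ := h.toSA.exists_cj_inf hK (isPGroup_cj g (h.toSA.two.to_le
    (hU.trans (h.le hD)))) (h.sc.cjj (h.sub_T hD hU) g) h2
  rw [cj_cj] at h3
  exact ⟨k, hk, h.cj_le hD (mul_mem (h1 hk) hg) hU (h3.trans inf_le_left)⟩

theorem exists_Zo_conj (h : PD T A 𝓓 L) (hD : D ∈ 𝓓) (hx : x ∈ D) (h2 : x * x = 1) :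
    ∃ g ∈ 𝒞(Co 𝓓 D), g * x * g⁻¹ ∈ Zo D := by
  obtain ⟨l, hl, h3⟩ := h.Lz D hD x hx h2
  exact ⟨l, h.Lc D hD hl, mem_Zo.2 ⟨h3.1, h3.2, conj_mul_self h2 l⟩⟩

/-- Moving an involution into the centre. -/
theorem move (h : PD T A 𝓓 L) (hD : D ∈ 𝓓) (hx : x ∈ D) (h2 : x * x = 1) (hU : U ≤ D)
    (h1 : U ≤ 𝒞[x]) : ∃ g ∈ 𝒞(Co 𝓓 D), g * x * g⁻¹ ∈ Zo D ∧ cj g U ≤ D := by
  obtain ⟨l, hl, h3⟩ := h.exists_Zo_conj hD hx h2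
  obtain ⟨k, hk, h4⟩ := h.exists_cj_cent hD hl hU (K := 𝒞[l * x * l⁻¹] ⊓ 𝒞(Co 𝓓 D))
    (H1.le_normalizer_inf (norm_cent1 (h.A_le hD h3)) (H1.le_normalizer_centralizer h.norm_Co))
    inf_le_right (le_inf (by rw [← cj_centralizer_singleton]; exact cj_mono l h1)
      (cj_le_of_mem hl (hU.trans (h.le_cCo hD))))
  refine ⟨k * l, mul_mem hk.2 hl, ?_, h4⟩
  rwa [show k * l * x * (k * l)⁻¹ = k * (l * x * l⁻¹) * k⁻¹ by group, mem_cent1.1 hk.1,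
    mul_inv_cancel_right]

theorem f4_of (h : PD T A 𝓓 L) (hD : D ∈ 𝓓) (hu : u ∈ Zo D) (h1 : u ≠ 1) (hx : x ∈ D)
    (h2 : x * x = 1) (h3 : x ≠ 1) (h4 : x ≠ u) : ∃ α, F4 α ∧ α ≤ D ∧ x ∈ α ∧ u ∈ α := by
  obtain ⟨h5, h6, h7⟩ := mem_Zo.1 hu
  exact ⟨_, f4_sup (orderOf_eq_two h2 h3) (orderOf_eq_two h7 h1) h4 (mem_cent.1 h6 x hx),
    sup_le (zpowers_le.2 hx) (zpowers_le.2 h5), mem_sup_left (mem_zpowers x),
    mem_sup_right (mem_zpowers u)⟩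

theorem exists_f4 (h : PD T A 𝓓 L) (hD : D ∈ 𝓓) (hx : x ∈ D) (h2 : x * x = 1) :
    ∃ α, F4 α ∧ α ≤ D ∧ x ∈ α := by
  obtain ⟨u, hu, h1⟩ := h.exists_Zo hD
  by_cases h3 : x = 1 ∨ x = u
  · obtain ⟨y, hy, h4⟩ : ∃ y, (y ∈ D ∧ y * y = 1) ∧ y ∉ 𝒞(D) := by
      by_contra h4
      push Not at h4
      exact h.nab D hD ((h.gen D hD).trans ((closure_le _).2 h4))
    obtain ⟨α, h5, h6, -, h7⟩ := h.f4_of hD hu h1 hy.1 hy.2 (fun e => h4 (e ▸ one_mem _))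
      fun e => h4 (e ▸ (mem_Zo.1 hu).2.1)
    exact ⟨α, h5, h6, by rcases h3 with rfl | rfl; exacts [α.one_mem, h7]⟩
  · rw [not_or] at h3
    obtain ⟨α, h5, h6, h7, -⟩ := h.f4_of hD hu h1 hx h2 h3.1 h3.2
    exact ⟨α, h5, h6, h7⟩

theorem exists_f4' (h : PD T A 𝓓 L) (hD : D ∈ 𝓓) : ∃ α, F4 α ∧ α ≤ D := by
  obtain ⟨α, h1, h2, -⟩ := h.exists_f4 hD D.one_mem (mul_one 1)
  exact ⟨α, h1, h2⟩

theorem cj_Co (h : PD T A 𝓓 L) (hg : g ∈ 𝒩(A)) : Co 𝓓 (cj g D) ≤ cj g (Co 𝓓 D) :=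
  sSup_le fun β hβ => by
    rw [← cj_cj_inv g β]
    exact cj_mono g (le_Co (h.conj _ (inv_mem hg) β hβ.1) fun e => hβ.2 (by
      rw [← e, cj_cj_inv]; rfl))

end PD

namespace P3

theorem sep_third (h : P3 T A 𝓓 L) (hD : D ∈ 𝓓) (hD' : D' ∈ 𝓓) (hD'' : D'' ∈ 𝓓) (hne : D ≠ D')
    (h1 : D ≠ D'') (h2 : D' ≠ D'') (hc : c ∈ D'') (h3 : c * c = 1) (h4 : c ≠ 1) (hU : U ≤ D)
    (hV : V ≤ D') : CSep T c U V := by
  obtain ⟨g, hg, h5⟩ := h.toPD.exists_Zo_conj hD'' hc h3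
  refine CSep.of_cj h.sc (g := g) ?_
  rw [cj_eq_self_iff.2 (cent_le_norm (cent_le_cent hU (PD.cCo_le hD h1 hg))),
    cj_eq_self_iff.2 (cent_le_norm (cent_le_cent hV (PD.cCo_le hD' h2 hg)))]
  exact CSep.mono (h.toPD.sep1 (h.toPD.A_le hD'' h5) (h.star1 _ hD'' _ h5 (by simpa using h4))
    hD hD' hne) hU hV

theorem fq (h : P3 T A 𝓓 L) (hD : D ∈ 𝓓) (hD' : D' ∈ 𝓓) (hne : D ≠ D') (fa : F4 α) (fb : F4 β)
    (ha : α ≤ D) (hb : β ≤ D') : Fq T α β := by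
  have hc : α ≤ 𝒞(β) := ha.trans ((h.toPD.comm hD' hD hne).trans (cent_le_cent hb))
  refine ⟨h.sc, fa, fb, h.toPD.sub_T hD ha, h.toPD.sub_T hD' hb, hc,
    eq_bot_iff.2 ((inf_le_inf ha hb).trans (h.toPD.disj hD hD' hne).le), fun c hc' h1 => ?_⟩
  obtain ⟨x, hx, y, hy, rfl⟩ := (H1.mem_sup_of_le_normalizer' (hc.trans cent_le_norm)).1 hc'
  obtain ⟨g, hg, h2, h3⟩ := h.toPD.move hD (ha hx) (fa.sq hx) ha (fa.le_cent1 hx)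
  obtain ⟨k, hk, h4, h5⟩ := h.toPD.move hD' (hb hy) (fb.sq hy) hb (fb.le_cent1 hy)
  have hg' := PD.cCo_le hD' hne.symm hg
  have hk' := PD.cCo_le hD hne hk
  have e : k * g * (x * y) * (k * g)⁻¹ = g * x * g⁻¹ * (k * y * k⁻¹) := by
    have e1 := mem_cent.1 hg' y (hb hy)
    have e2 := mem_cent.1 hk' _ (mem_Zo.1 h2).1
    calc _ = k * (g * x * g⁻¹) * (g * y) * g⁻¹ * k⁻¹ := by group
      _ = _ := by rw [← e1, ← e2]; group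
  refine CSep.of_cj h.sc (g := k * g) ?_
  have h6 : g * x * g⁻¹ * (k * y * k⁻¹) ≠ 1 := by rw [← e]; exact fun e => h1 (conj_eq_one_iff.1 e)
  rw [e, ← cj_cj, ← cj_cj, cj_eq_self_iff.2 (cent_le_norm (cent_le_cent h3 hk')),
    cj_eq_self_iff.2 (cent_le_norm (cent_le_cent hb hg'))]
  generalize g * x * g⁻¹ = b at h2 h6
  generalize k * y * k⁻¹ = b' at h4 h6
  refine CSep.mono (h.toPD.sep1 (fun z hz => ?_) ?_ hD hD' hne) h3 h5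
  · exact mem_cent1_comm.1 (mul_mem (mem_cent1_comm.1 (h.toPD.A_le hD h2 hz))
      (mem_cent1_comm.1 (h.toPD.A_le hD' h4 hz)))
  by_cases h7 : b = 1
  · rw [h7, one_mul] at h6 ⊢
    exact h.star1 _ hD' _ h4 h6
  by_cases h8 : b' = 1
  · rw [h8, mul_one]
    exact h.star1 _ hD _ h2 h7
  · exact h.star2 hD hD' hne h2 h4 h7 h8

theorem Wd_left (h : P3 T A 𝓓 L) (hD : D ∈ 𝓓) (hD' : D' ∈ 𝓓) (hne : D ≠ D') (fa : F4 α)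
    (fa' : F4 α') (fb : F4 β) (ha : α ≤ D) (ha' : α' ≤ D) (hb : β ≤ D') : Wd α β = Wd α' β := by
  obtain ⟨u, hu, h1⟩ := h.toPD.exists_Zo hD
  have key : ∀ α, F4 α → α ≤ D → ∃ γ, F4 γ ∧ γ ≤ D ∧ u ∈ γ ∧ Wd α β = Wd γ β := fun α fa ha => by
    obtain ⟨x, hx, h2, h3⟩ := fa.exists_ne u
    obtain ⟨γ, h4, h5, h6, h7⟩ := h.toPD.f4_of hD hu h1 (ha hx) (fa.sq hx) h2 h3
    exact ⟨γ, h4, h5, h7, (h.fq hD hD' hne fa fb ha hb).Wd_eq (h.fq hD hD' hne h4 fb h5 hb) hx h6 h2⟩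
  obtain ⟨γ, h2, h3, h4, h5⟩ := key α fa ha
  obtain ⟨γ', h6, h7, h8, h9⟩ := key α' fa' ha'
  rw [h5, h9]
  exact (h.fq hD hD' hne h2 fb h3 hb).Wd_eq (h.fq hD hD' hne h6 fb h7 hb) h4 h8 h1

theorem Wd_right (h : P3 T A 𝓓 L) (hD : D ∈ 𝓓) (hD' : D' ∈ 𝓓) (hD'' : D'' ∈ 𝓓) (hne : D ≠ D')
    (hne' : D ≠ D'') (fa : F4 α) (fb : F4 β) (fb' : F4 β') (ha : α ≤ D) (hb : β ≤ D')
    (hb' : β' ≤ D'') : Wd α β = Wd α β' := by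
  by_cases e : D' = D''
  · subst e
    rw [Wd_symm, Wd_symm α]
    exact h.Wd_left hD' hD hne.symm fb fb' fa hb hb' ha
  have key : ∀ {D' D'' β β' : Subgroup G}, D' ∈ 𝓓 → D'' ∈ 𝓓 → D ≠ D' → D ≠ D'' → D' ≠ D'' →
      F4 β → F4 β' → β ≤ D' → β' ≤ D'' → Wd α β ≤ Wd α β' :=
    fun hD' hD'' hne hne' e fb fb' hb hb' => (h.fq hD hD' hne fa fb ha hb).Wd_le' fb'
      (hb'.trans ((h.toPD.comm hD hD'' hne'.symm).trans (cent_le_cent ha)))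
      (hb'.trans ((h.toPD.comm hD' hD'' e.symm).trans (cent_le_cent hb)))
      fun c hc h1 => h.sep_third hD hD' hD'' hne hne' e (hb' hc) (fb'.sq hc) h1 ha hb
  exact le_antisymm (key hD' hD'' hne hne' e fb fb' hb hb')
    (key hD'' hD' hne' hne (Ne.symm e) fb' fb hb' hb)

/-- The canonical odd subgroup. -/
theorem exists_W (h : P3 T A 𝓓 L) : ∃ W : Subgroup G, Odd (Nat.card W) ∧ 𝒩(A) ≤ 𝒩(W) ∧
    ∀ D ∈ 𝓓, ∀ D' ∈ 𝓓, D ≠ D' → ∀ α β, F4 α → F4 β → α ≤ D → β ≤ D' → Wd α β = W := by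
  obtain ⟨D, hD, -⟩ := h.three ⊥ ⊥
  obtain ⟨D', hD', hne, -⟩ := h.three D D
  obtain ⟨α, fa, ha⟩ := h.toPD.exists_f4' hD
  obtain ⟨β, fb, hb⟩ := h.toPD.exists_f4' hD'
  have key : ∀ E ∈ 𝓓, ∀ E' ∈ 𝓓, E ≠ E' → ∀ γ δ, F4 γ → F4 δ → γ ≤ E → δ ≤ E' →
      Wd γ δ = Wd α β := fun E hE E' hE' h1 γ δ fc fd hc hd => by
    by_cases e : E = D'
    · subst e
      rw [h.Wd_right hE hE' hD h1 hne fc fd fa hc hd ha, Wd_symm]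
      exact h.Wd_right hD hE hE hne.symm hne.symm fa fc fb ha hc hb
    · rw [h.Wd_right hE hE' hD' h1 e fc fd fb hc hd hb, Wd_symm, Wd_symm α]
      exact h.Wd_right hD' hE hD (Ne.symm e) hne fb fc fa hb hc ha
  refine ⟨_, (h.fq hD hD' hne.symm fa fb ha hb).good_Wd.odd, fun g hg => ?_, key⟩
  rw [← cj_eq_self_iff, cj_Wd]
  exact key _ (h.conj g hg D hD) _ (h.conj g hg D' hD') (fun e => hne (cj_injective g e).symm)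
    _ _ (fa.cjj g) (fb.cjj g) (cj_mono g ha) (cj_mono g hb)

theorem O_le (h : P3 T A 𝓓 L) (hD : D ∈ 𝓓) (hD' : D' ∈ 𝓓) (hD'' : D'' ∈ 𝓓) (hne : D ≠ D')
    (h1 : D ≠ D'') (h2 : D' ≠ D'') (hu : u ∈ D'') (h3 : u * u = 1) (fa : F4 α) (fb : F4 β)
    (ha : α ≤ D) (hb : β ≤ D') : Op' 2 𝒞[u] ≤ Wd α β ⊔ (Op' 2 𝒞[u] ⊓ 𝒞(α)) := by
  have ca : α ≤ 𝒞[u] := ha.trans ((h.toPD.comm hD'' hD h1).trans (cent_le_cent1 hu))
  have cb : β ≤ 𝒞[u] := hb.trans ((h.toPD.comm hD'' hD' h2).trans (cent_le_cent1 hu))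
  have hq := h.fq hD hD' hne fa fb ha hb
  refine coprime_abelian_gen_cent1 fb.comm (fb.not_cyclic Nat.prime_two) (cb.trans (nO _))
    (cop2 (odd_Op' _) fb.pgroup) fun v hv h4 => ?_
  rw [← cent_prod (odd_le (odd_Op' 𝒞[u]) (inf_le_left : _ ⊓ 𝒞[v] ≤ _)) fa.pgroup
    (H1.le_normalizer_inf (ca.trans (nO _)) (norm_cent1 (hq.ca (mem_sup_right hv))))]
  refine sup_le_sup (hq.key (h.toPD.sub_T hD'' le_rfl hu) h3 ca cb hv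
    (h.sep_third hD hD'' hD' h1 hne h2.symm (hb hv) (fb.sq hv) h4 ha (zpowers_le.2 hu))
    fun c hc h5 => h.sep_third hD'' hD' hD h2.symm h1.symm hne.symm (ha hc) (fa.sq hc) h5
      (zpowers_le.2 hu) (zpowers_le.2 (hb hv))) (inf_le_inf_right _ inf_le_left)

theorem O_le_norm (h : P3 T A 𝓓 L) (hD : D ∈ 𝓓) (hD' : D' ∈ 𝓓) (hD'' : D'' ∈ 𝓓) (hne : D ≠ D')
    (h1 : D ≠ D'') (h2 : D' ≠ D'') (hu : u ∈ D'') (h3 : u * u = 1) (fa : F4 α) (fb : F4 β)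
    (ha : α ≤ D) (hb : β ≤ D') : Op' 2 𝒞[u] ≤ 𝒩(Wd α β) := by
  refine (h.O_le hD hD' hD'' hne h1 h2 hu h3 fa fb ha hb).trans (sup_le le_normalizer ?_)
  have ca : α ≤ 𝒞[u] := ha.trans ((h.toPD.comm hD'' hD h1).trans (cent_le_cent1 hu))
  have cb : β ≤ 𝒞[u] := hb.trans ((h.toPD.comm hD'' hD' h2).trans (cent_le_cent1 hu))
  have hq := (h.fq hD hD' hne fa fb ha hb).symm
  obtain ⟨v, hv, h4, -⟩ := fa.exists_ne 1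
  rw [← cent_prod (odd_le (odd_Op' 𝒞[u]) (inf_le_left : _ ⊓ 𝒞(α) ≤ _)) fb.pgroup
    (H1.le_normalizer_inf (cb.trans (nO _)) (hq.cm.trans le_normalizer))]
  refine sup_le (le_trans ?_ le_normalizer)
    ((inf_le_inf_right _ inf_le_right).trans cent_le_norm_Wd)
  rw [Wd_symm]
  exact (commutator_mono (inf_le_inf_left _ (cent_le_cent1 hv)) le_rfl).trans
    (hq.key (h.toPD.sub_T hD'' le_rfl hu) h3 cb ca hv
    (h.sep_third hD' hD'' hD h2 hne.symm h1.symm (ha hv) (fa.sq hv) h4 hb (zpowers_le.2 hu))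
    fun c hc h5 => h.sep_third hD'' hD hD' h1.symm h2.symm hne (hb hc) (fb.sq hc) h5
      (zpowers_le.2 hu) (zpowers_le.2 (ha hv)))

end P3

end Cfsg.Agent.C2
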