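import Cfsg.Agent.Lib.C2.R2a

/-!
# S1170: the complement of `A` in a Sylow subgroup is trivial (part A6) (see notes/C2.md)
-/

set_option autoImplicit false
set_option linter.unusedSectionVars false
set_option linter.unusedVariables false

namespace Cfsg.Agent.C2

open Subgroup Cfsg.Agent.H6 Cfsg.Agent.FT Cfsg.Agent.BD.P1 Cfsg.Agent.G75 Cfsg.Agent.G74
open Cfsg.Agent.St (Od)
open scoped commutatorElement MatrixGroups Matrix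

universe u

variable {G : Type*} [Group G] [Finite G] {T : Set G}
variable {A B C D E H K L M N P Q R S U V W X Y W₁ W₂ : Subgroup G}
variable {a b c d g n r s t v w x y z : G}
variable {F : Type} [Field F] [Fintype F] [CharP F 2] {φ φ₁ φ₂ : G → SL(2, F)}
  {ψ ψ₁ ψ₂ : G → Fin 2 → F}

/-- The elements centralizing `X_W` modulo `O(C(W))`. -/
def CW (T : Set G) (W : Subgroup G) : Subgroup G := centMod ⊤ (XX T W) (Op' 2 𝒞(W))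

theorem mem_CW : x ∈ CW T W ↔
    x ∈ 𝒩(Op' 2 𝒞(W)) ∧ ∀ a ∈ XX T W, ⁅a, x⁆ ∈ Op' 2 𝒞(W) := by
  simp only [CW, mem_centMod, mem_top, true_and]

theorem conj_mem_CW (h : SC T) (g : G) (hx : x ∈ CW T W) : g * x * g⁻¹ ∈ CW T (cj g W) := by
  have e : Op' 2 𝒞(cj g W) = cj g (Op' 2 𝒞(W)) := by rw [Op', Op', cj_core, cj_centralizer]
  rw [mem_CW] at hx ⊢
  rw [e, ← cj_normalizer, ← cj_XX h]
  refine ⟨conj_mem_cj hx.1, fun a ha => mem_cj.2 ?_⟩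
  convert hx.2 _ (mem_cj.1 ha) using 1
  simp only [commutatorElement_def]
  group

theorem norm_O_cent : 𝒩(W) ≤ 𝒩(Op' 2 𝒞(W)) :=
  (H1.normalizer_le_normalizer_centralizer _).trans (norm_le_norm_core _ _)

theorem norm_mem_CW (h : SC T) (hg : g ∈ 𝒩(W)) (hx : x ∈ CW T W) : g * x * g⁻¹ ∈ CW T W := by
  have := conj_mem_CW h g hx
  rwa [cj_eq_self_iff.2 hg] at this

theorem zero_or_one (h2 : Nat.card F = 2) (s : F) : s = 0 ∨ s = 1 := by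
  have := FiniteField.pow_card s
  rw [← Nat.card_eq_fintype_card, h2] at this
  have h3 : s * (s - 1) = 0 := by linear_combination this
  exact (mul_eq_zero.1 h3).imp_right sub_eq_zero.1

theorem R2.inf_CW (h : R2 F T A W₁ W₂ φ₁ φ₂ ψ₁ ψ₂) (ha : a ∈ W₁) (h1 : a ∈ CW T W₁) :
    a ∈ 𝒞(XX T W₁) := mem_cent.2 fun x hx => by
  have h2 : ⁅x, a⁆ ∈ A := h.le1 (mul_mem (h.n1.cj_mem hx ha) (inv_mem ha))
  exact commutatorElement_eq_one_iff_mul_comm.1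
    (mem_bot.1 (h.O_inf.le ⟨(mem_CW.1 h1).2 x hx, h2⟩))

theorem R2.C_le_CW (h : R2 F T A W₁ W₂ φ₁ φ₂ ψ₁ ψ₂) : W₁ ⊓ 𝒞(XX T W₁) ≤ CW T W₁ := fun c hc =>
  mem_CW.2 ⟨norm_O_cent (le_normalizer hc.1), fun a ha => by
    rw [commutatorElement_eq_one_iff_mul_comm.2 (mem_cent.1 hc.2 a ha)]; exact one_mem _⟩

/-- `X₁` is generated by two conjugates of `A` modulo `O(C(W₁))`. -/
theorem R2.X_le (h : R2 F T A W₁ W₂ φ₁ φ₂ ψ₁ ψ₂)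
    (k1 : ⁅𝒞(W₁), XX T W₁⁆ ≤ W₁ ⊔ Op' 2 𝒞(W₁)) (hx : x ∈ XX T W₁) (h1 : φ₁ x = wM) :
    XX T W₁ ≤ A ⊔ cj x A ⊔ Op' 2 𝒞(W₁) := by
  have hA : A ⊔ cj x A ≤ XX T W₁ := sup_le h.n1.le (cj_le_of_mem hx h.n1.le)
  have h2 : ∀ m : SL(2, F), ∃ y ∈ A ⊔ cj x A, φ₁ y = m := sl_ind
    (fun m m' ⟨y, hy, e⟩ ⟨y', hy', e'⟩ =>
      ⟨_, mul_mem hy hy', by rw [h.n1.φ_mul _ (hA hy) _ (hA hy'), e, e']⟩)
    (fun s => let ⟨a, ha, e⟩ := h.n1.exists_uM s; ⟨a, mem_sup_left ha, e⟩)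
    fun s => let ⟨a, ha, e⟩ := h.n1.exists_uM s
      ⟨_, mem_sup_right (conj_mem_cj ha), by rw [h.n1.φ_conj hx (h.n1.le ha), e, h1, wM_uM]⟩
  have h3 : XX T W₁ ≤ 𝒩(A ⊔ cj x A ⊔ Op' 2 𝒞(W₁)) := fun y hy => by
    obtain ⟨z, hz, e⟩ := h2 (φ₁ y)
    have h4 := h.n1.cent_of_φ (hA hz) hy e
    have h5 : z⁻¹ * y ∈ 𝒩(A ⊔ cj x A ⊔ Op' 2 𝒞(W₁)) := mem_normalizer_of_cj_le (by
      rw [cj_sup]
      refine sup_le (fun v hv => ?_) ((cj_eq_self_iff.2 (nO _ h4)).le.trans le_sup_right)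
      have h6 := mem_cj.1 hv
      have h7 := (sup_le_sup_right (h.le1.trans le_sup_left) _ : W₁ ⊔ Op' 2 𝒞(W₁) ≤
        A ⊔ cj x A ⊔ Op' 2 𝒞(W₁)) (k1 (commutator_mem_commutator h4 (hA h6)))
      convert mul_mem h7 (mem_sup_left h6) using 1
      simp only [commutatorElement_def]
      group)
    simpa using mul_mem (le_normalizer (mem_sup_left hz)) h5
  exact (Nc_Nc (T := T) (H := 𝒩(W₁))).ge.trans
    (h.nc_le h.n1.le (le_sup_left.trans le_sup_left) h3)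

theorem R2.dec1 (h : R2 F T A W₁ W₂ φ₁ φ₂ ψ₁ ψ₂)
    (k1 : ⁅𝒞(W₁), XX T W₁⁆ ≤ W₁ ⊔ Op' 2 𝒞(W₁)) (hy : y ∈ 𝒞(A)) :
    ∃ u ∈ W₁ ⊓ W₂, y * u ∈ CW T W₁ := by
  obtain ⟨x, hx, h1⟩ := h.n1.φ_surj wM
  have hyW : y ∈ 𝒞(W₁) := cent_le_cent h.le1 hy
  have h2 : ⁅x, y⁆ ∈ W₁ ⊔ Op' 2 𝒞(W₁) := by
    rw [← commutatorElement_inv]; exact inv_mem (k1 (commutator_mem_commutator hyW hx))
  obtain ⟨v, hv, o, ho, e⟩ := (H1.mem_sup_of_le_normalizer' (le_normalizer.trans norm_O_cent)).1 h2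
  obtain ⟨v', hv', e'⟩ := h.n1.ψ_surj ![ψ₁ v 0, 0]
  have h3 : v' ∈ 𝒞(A) := h.n1.fix _ hv' (by rw [e']; rfl)
  have h4 : v⁻¹ * v' ∈ W₁ := mul_mem (inv_mem hv) hv'
  have h5 : v⁻¹ * v' ∈ 𝒞(cj x A) := by
    rw [← cj_centralizer, mem_cj]
    have h6 : x⁻¹ * (v⁻¹ * v') * x ∈ W₁ := by simpa using h.n1.cj_mem (inv_mem hx) h4
    refine h.n1.fix _ h6 ?_
    have h7 := congrFun (h.n1.act x hx _ h6) 0
    rw [sl_vec, h1, show x * (x⁻¹ * (v⁻¹ * v') * x) * x⁻¹ = v⁻¹ * v' by group,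
      h.n1.ψ_mul _ (inv_mem hv) _ hv', h.n1.ψ_inv hv, e'] at h7
    simpa [wM, CharTwo.add_self_eq_zero] using h7.symm
  have h6 : x * y * x⁻¹ ∈ 𝒞(W₁) :=
    conj_mem_of_mem_normalizer (H1.normalizer_le_normalizer_centralizer _ (h.n1.norm hx)) hyW
  have h7 : y * v' = o⁻¹ * (v⁻¹ * v' * (x * y * x⁻¹)) := by
    rw [mul_assoc v⁻¹, mem_cent.1 h6 v' hv']
    have : x * y * x⁻¹ = v * o * y := by rw [e, commutatorElement_def]; group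
    rw [this]; group
  have hO : y * v' ∈ 𝒩(Op' 2 𝒞(W₁)) := nO _ (mul_mem hyW (h.n1.comm hv'))
  have hc : ∀ {B : Subgroup G} {z : G}, z ∈ 𝒞(B) → z ∈ 𝒩(Op' 2 𝒞(W₁)) →
      z ∈ centMod ⊤ B (Op' 2 𝒞(W₁)) := fun hz hz' => mem_centMod.2 ⟨mem_top _, hz', fun a ha => by
    rw [commutatorElement_eq_one_iff_mul_comm.2 (mem_cent.1 hz a ha)]; exact one_mem _⟩
  have hX : XX T W₁ ≤ 𝒩(Op' 2 𝒞(W₁)) := XX_le.trans norm_O_cent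
  have hA' : cj x A ≤ XX T W₁ := cj_le_of_mem hx h.n1.le
  have h8 : y * v' ∈ centMod ⊤ (cj x A) (Op' 2 𝒞(W₁)) := by
    rw [h7]
    refine mul_mem (inv_mem ((le_centMod_iff.2 ⟨le_top, le_normalizer,
      commutator_le_right (hA'.trans hX)⟩) ho)) (hc (mul_mem h5 ?_) (nO _ (mul_mem (h.n1.comm h4) h6)))
    rw [← cj_centralizer]; exact conj_mem_cj hy
  have sw : ∀ {B : Subgroup G}, B ≤ 𝒩(Op' 2 𝒞(W₁)) → y * v' ∈ centMod ⊤ B (Op' 2 𝒞(W₁)) →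
      B ≤ centMod ⊤ (zpowers (y * v')) (Op' 2 𝒞(W₁)) := fun h1 h2 => le_centMod_iff.2 ⟨le_top, h1, by
    rw [Subgroup.commutator_comm]; exact (le_centMod_iff.1 (zpowers_le.2 h2)).2.2⟩
  have h9 := (h.X_le k1 hx h1).trans (sup_le (sup_le (sw (h.n1.le.trans hX) (hc (mul_mem hy h3) hO))
    (sw (hA'.trans hX) h8)) (le_centMod_iff.2 ⟨le_top, le_normalizer,
      commutator_le_right (zpowers_le.2 hO)⟩))
  refine ⟨v', h.z1.le ⟨hv', h3⟩, mem_CW.2 ⟨hO, fun a ha => ?_⟩⟩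
  rw [← commutatorElement_inv]
  exact inv_mem ((mem_centMod.1 (h9 ha)).2.2 _ (mem_zpowers _))

theorem R2.U_cent (h : R2 F T A W₁ W₂ φ₁ φ₂ ψ₁ ψ₂) : W₁ ⊓ W₂ ≤ 𝒞(A) := h.z.ge.trans inf_le_right

theorem R2.odd_mem (h : R2 F T A W₁ W₂ φ₁ φ₂ ψ₁ ψ₂)
    (k1 : ⁅𝒞(W₁), XX T W₁⁆ ≤ W₁ ⊔ Op' 2 𝒞(W₁)) (hy : y ∈ 𝒞(A)) (ho : Odd (orderOf y)) :
    y ∈ CW T W₁ := by
  obtain ⟨u, hu, h1⟩ := h.dec1 k1 hy
  refine mem_of_sq_mem ho ?_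
  convert mul_mem h1 h1 using 1
  have := mem_cent.1 hy u (h.le1 hu.1)
  calc y ^ 2 = y * y * (u * u) := by rw [h.n1.sq hu.1, mul_one, pow_two]
    _ = y * (y * u) * u := by group
    _ = y * (u * y) * u := by rw [this]
    _ = y * u * (y * u) := by group

theorem R2.ψ_inj (h : R2 F T A W₁ W₂ φ₁ φ₂ ψ₁ ψ₂) (h1 : W₁ ⊓ 𝒞(XX T W₁) = ⊥) (hv : v ∈ W₁)
    (hw : w ∈ W₁) (e : ψ₁ v = ψ₁ w) : v = w :=
  inv_mul_eq_one.1 (mem_bot.1 (h1.le ⟨W₁.mul_mem (W₁.inv_mem hv) hw, h.n1.cent_of_ψ hv hw e⟩))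

theorem R2.le_CW_of_four (h : R2 F T A W₁ W₂ φ₁ φ₂ ψ₁ ψ₂) (h2 : Nat.card F ≠ 2)
    (c1 : W₁ ⊓ 𝒞(XX T W₁) = ⊥) (c2 : W₂ ⊓ 𝒞(XX T W₂) = ⊥)
    (k2 : ⁅𝒞(W₂), XX T W₂⁆ ≤ W₂ ⊔ Op' 2 𝒞(W₂)) (hb : b ∈ 𝒞(A)) (h1 : b ∈ CW T W₁) :
    b ∈ CW T W₂ := by
  obtain ⟨l, hl, hl1⟩ : ∃ l : F, l ≠ 0 ∧ l ≠ 1 := by
    by_contra! hc
    exact h2 (Nat.card_eq_two_iff.2 ⟨0, 1, zero_ne_one, Set.eq_univ_of_forall fun s =>
      (eq_or_ne s 0).imp_right (hc s)⟩)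
  obtain ⟨x, hx, n0, n1, n2, -, e⟩ := h.torus hl
  obtain ⟨u, hu, h3⟩ := h.symm.dec1 k2 hb
  have h4 : ⁅x, b⁆ ∈ CW T W₂ := h.symm.odd_mem k2 (mul_mem (conj_mem_of_mem_normalizer
    (H1.normalizer_le_normalizer_centralizer _ n0) hb) (inv_mem hb))
    ((odd_Op' _).of_dvd_nat (orderOf_dvd_natCard _ ((mem_CW.1 h1).2 x hx)))
  have h5 : u⁻¹ * (x * u * x⁻¹) ∈ W₂ := mul_mem (inv_mem hu.1) (conj_mem_of_mem_normalizer n2 hu.1)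
  have h6 : u⁻¹ * (x * u * x⁻¹) ∈ CW T W₂ := by
    convert mul_mem (mul_mem (inv_mem h3) (inv_mem h4)) (norm_mem_CW h.sc n2 h3) using 1
    simp only [commutatorElement_def]
    group
  have h7 := inv_mul_eq_one.1 (mem_bot.1 (c2.le ⟨h5, h.symm.inf_CW h5 h6⟩))
  have h8 := congrFun (h.n1.act x hx u hu.2) 0
  rw [← h7, sl_vec] at h8
  have e0 : φ₁ x 0 0 = l := by simpa using congrFun (congrFun e 0) 0
  have h9 := (h.mem_U hu.2).1 hu.1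
  rw [e0, h9] at h8
  have h10 : ψ₁ u 0 = 0 := by
    have : (l - 1) * ψ₁ u 0 = 0 := by linear_combination -h8
    exact (mul_eq_zero.1 this).resolve_left (sub_ne_zero.2 hl1)
  have := mem_bot.1 (c1.le ⟨hu.2, (h.n1.ψ_ker u hu.2).1 (vec_ext h10 h9)⟩)
  rwa [this, mul_one] at h3

theorem R2.U_eq (h : R2 F T A W₁ W₂ φ₁ φ₂ ψ₁ ψ₂) (h2 : Nat.card F = 2) (hv : v ∈ W₁ ⊓ W₂)
    (hw : w ∈ W₁ ⊓ W₂) (h1 : v ≠ 1) (h3 : w ≠ 1) : v = w := by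
  have key : ∀ {v}, v ∈ W₁ ⊓ W₂ → v ≠ 1 → ψ₁ v = ![1, 0] := fun {v} hv h1 =>
    vec_ext ((zero_or_one h2 _).resolve_left fun e => h1 (mem_bot.1 ((h.C_bot h2).le
      ⟨hv.1, (h.n1.ψ_ker v hv.1).1 (vec_ext e ((h.mem_U hv.1).1 hv.2))⟩))) ((h.mem_U hv.1).1 hv.2)
  exact h.ψ_inj (h.C_bot h2) hv.1 hw.1 ((key hv h1).trans (key hw h3).symm)

theorem R2.two_fix (h : R2 F T A W₁ W₂ φ₁ φ₂ ψ₁ ψ₂) (h2 : Nat.card F = 2) (n1 : n ∈ 𝒩(W₁))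
    (n2 : n ∈ 𝒩(W₂)) : ∃ a ∈ W₂, a * n ∈ 𝒞(W₁) := by
  have hU : ∀ u ∈ W₁ ⊓ W₂, n * u * n⁻¹ = u := fun u hu => by
    by_cases e : u = 1
    · simp [e]
    exact h.U_eq h2 ⟨conj_mem_of_mem_normalizer n1 hu.1, conj_mem_of_mem_normalizer n2 hu.2⟩ hu
      (mt conj_eq_one_iff.1 e) e
  obtain ⟨w, hw, e⟩ := h.n1.ψ_surj ![0, 1]
  have hw' := conj_mem_of_mem_normalizer n1 hw
  have e1 : ψ₁ (n * w * n⁻¹) 1 = 1 := (zero_or_one h2 _).resolve_left fun e1 => by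
    have := (h.mem_U hw).1 (by
      simpa [mul_assoc] using conj_mem_of_mem_normalizer (inv_mem n2) ((h.mem_U hw').2 e1))
    simp [e] at this
  obtain ⟨a, ha, e2⟩ : ∃ a ∈ W₂, φ₁ a 0 1 = ψ₁ (n * w * n⁻¹) 0 := by
    rcases zero_or_one h2 (ψ₁ (n * w * n⁻¹) 0) with e2 | e2
    · exact ⟨1, one_mem _, by rw [e2, h.n1.φ_one]; rfl⟩
    obtain ⟨a, ha, h3⟩ := SetLike.not_le_iff_exists.1 h.symm.ne
    exact ⟨a, ha, ((zero_or_one h2 _).resolve_left (mt (h.mem_W (h.le2 ha)).2 h3)).trans e2.symm⟩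
  have hA := h.le2 ha
  have h3 : a * n ∈ 𝒞[w] := mem_cent1.2 (by
    have := h.ψ_inj (h.C_bot h2) (h.n1.cj_mem (h.n1.le hA) hw') hw (by
      obtain ⟨a1, a2, a3⟩ := h.n1.φ_A a hA
      rw [h.n1.act a (h.n1.le hA) _ hw', e]
      apply vec_ext <;> rw [sl_vec] <;> simp [a1, a2, a3, e1, e2, CharTwo.add_self_eq_zero])
    calc a * n * w = a * (n * w * n⁻¹) * a⁻¹ * (a * n) := by group
      _ = w * (a * n) := by rw [this])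
  have h4 : ∀ u ∈ W₁ ⊓ W₂, u ∈ 𝒞[a * n] := fun u hu => mem_cent1.2 (by
    calc u * (a * n) = a * (u * n) := by rw [← mul_assoc, h.n2.cm hu.2 ha, mul_assoc]
      _ = a * (n * u * n⁻¹ * n) := by rw [hU u hu]
      _ = a * n * u := by group)
  refine ⟨a, ha, le_cent1_iff.1 fun v hv => ?_⟩
  rcases zero_or_one h2 (ψ₁ v 1) with e3 | e3
  · exact h4 v ⟨hv, (h.mem_U hv).2 e3⟩
  have h5 := h4 (v * w) ⟨mul_mem hv hw, (h.mem_U (mul_mem hv hw)).2 (by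
    rw [h.n1.ψ_mul v hv w hw, e]; simp [e3, CharTwo.add_self_eq_zero])⟩
  exact (mul_mem_cancel_right (mem_cent1_comm.1 h3)).1 h5

theorem R2.le_CW_of_two [IsSimpleGroup G] (h : R2 F T A W₁ W₂ φ₁ φ₂ ψ₁ ψ₂) (h2 : Nat.card F = 2)
    (m1 : 𝒩(A) ≤ 𝒩(W₁)) (m2 : 𝒩(A) ≤ 𝒩(W₂))
    (k1 : ⁅𝒞(W₁), XX T W₁⁆ ≤ W₁ ⊔ Op' 2 𝒞(W₁))
    (k2 : ⁅𝒞(W₂), XX T W₂⁆ ≤ W₂ ⊔ Op' 2 𝒞(W₂)) (hb : b ∈ 𝒞(A)) (h1 : b ∈ CW T W₁) :
    b ∈ CW T W₂ := by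
  by_contra hc
  have hA : A ≠ ⊥ := fun e => h.ne (h.le1.trans (e.le.trans bot_le))
  have hn : 𝒞(A) ⊓ (CW T W₁ ⊓ CW T W₂) ≤ 𝒩(A) := inf_le_left.trans cent_le_norm
  refine h.idx (H := ⊤) (M := A ⊔ 𝒞(A) ⊓ (CW T W₁ ⊓ CW T W₂)) le_top le_sup_left
    (by rw [h.nc_top hA, top_inf_eq]; exact sup_le le_normalizer hn) ?_
  rw [h.nc_top hA, top_inf_eq]
  have hnot : b ∉ A ⊔ 𝒞(A) ⊓ (CW T W₁ ⊓ CW T W₂) := fun h3 => by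
    obtain ⟨a, ha, c, hc', rfl⟩ := (H1.mem_sup_of_le_normalizer hn).1 h3
    have h4 := (h.z.le ⟨ha, (𝒞(A).mul_mem_cancel_right hc'.1).1 hb⟩).1
    have := mem_bot.1 ((h.C_bot h2).le
      ⟨h4, h.inf_CW h4 (((CW T W₁).mul_mem_cancel_right hc'.2.1).1 h1)⟩)
    exact hc (by rw [this, one_mul]; exact hc'.2.2)
  refine relIndex_eq_two_iff.2 ⟨b, cent_le_norm hb, fun n hn' => ?_⟩
  have key : n * b ∈ A ⊔ 𝒞(A) ⊓ (CW T W₁ ⊓ CW T W₂) ∨ n ∈ A ⊔ 𝒞(A) ⊓ (CW T W₁ ⊓ CW T W₂) := by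
    obtain ⟨a2, ha2, h3⟩ := h.two_fix h2 (m1 hn') (m2 hn')
    have hn2 := mul_mem (le_normalizer (h.le2 ha2)) hn'
    obtain ⟨a1, ha1, h4⟩ := h.symm.two_fix h2 (m2 hn2) (m1 hn2)
    have h5 : a1 * (a2 * n) ∈ 𝒞(A) := by
      rw [← h.sup, FT.cent_sup]; exact ⟨mul_mem (h.n1.comm ha1) h3, h4⟩
    obtain ⟨u, hu, h6⟩ := h.dec1 k1 h5
    have h7 := mul_mem h5 (h.U_cent hu)
    have h8 : n = (a1 * a2)⁻¹ * u⁻¹ * (a1 * (a2 * n) * u) := by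
      rw [← mem_cent.1 h5 u (h.le1 hu.1)]; group
    have h9 : (a1 * a2)⁻¹ * u⁻¹ ∈ A :=
      mul_mem (inv_mem (mul_mem (h.le1 ha1) (h.le2 ha2))) (inv_mem (h.le1 hu.1))
    generalize a1 * (a2 * n) * u = c at h6 h7 h8
    by_cases h10 : c ∈ CW T W₂
    · exact Or.inr (h8 ▸ mul_mem (mem_sup_left h9) (mem_sup_right ⟨h7, h6, h10⟩))
    obtain ⟨v, hv, h11⟩ := h.symm.dec1 k2 h7
    obtain ⟨w, hw, h12⟩ := h.symm.dec1 k2 hb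
    obtain rfl : v = w := h.symm.U_eq h2 hv hw (fun e => h10 (by simpa [e] using h11))
      fun e => hc (by simpa [e] using h12)
    refine Or.inl ?_
    rw [h8, mul_assoc]
    refine mul_mem (mem_sup_left h9) (mem_sup_right ⟨mul_mem h7 hb, mul_mem h6 h1, ?_⟩)
    have : c * b = c * v * (b * v) := by
      calc c * b = c * b * (v * v) := by rw [h.n2.sq hv.1, mul_one]
        _ = c * (b * v) * v := by group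
        _ = c * (v * b) * v := by rw [mem_cent.1 hb v (h.le2 hv.1)]
        _ = c * v * (b * v) := by group
    exact this ▸ mul_mem h11 h12
  rcases key with e | e
  · exact Or.inl ⟨e, fun e' => hnot ((mul_mem_cancel_left e').1 e)⟩
  · exact Or.inr ⟨e, fun e' => hnot ((mul_mem_cancel_left e).1 e')⟩

theorem R2.dec2 [IsSimpleGroup G] (h : R2 F T A W₁ W₂ φ₁ φ₂ ψ₁ ψ₂)
    (m1 : 𝒩(A) ≤ 𝒩(W₁)) (m2 : 𝒩(A) ≤ 𝒩(W₂))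
    (k1 : ⁅𝒞(W₁), XX T W₁⁆ ≤ W₁ ⊔ Op' 2 𝒞(W₁))
    (k2 : ⁅𝒞(W₂), XX T W₂⁆ ≤ W₂ ⊔ Op' 2 𝒞(W₂)) (hy : y ∈ 𝒞(A)) :
    ∃ u ∈ W₁ ⊓ W₂, y * u ∈ CW T W₁ ⊓ CW T W₂ := by
  obtain ⟨u, hu, h1⟩ := h.dec1 k1 hy
  have hb := mul_mem hy (h.U_cent hu)
  by_cases h2 : Nat.card F = 2
  · exact ⟨u, hu, h1, h.le_CW_of_two h2 m1 m2 k1 k2 hb h1⟩
  rcases h.typ with ⟨c1, c2⟩ | ⟨hC, -⟩
  · exact ⟨u, hu, h1, h.le_CW_of_four h2 c1 c2 k2 hb h1⟩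
  obtain ⟨v, hv, h3⟩ := h.symm.dec1 k2 hb
  obtain ⟨c, hc, d, hd, rfl⟩ := (H1.mem_sup_of_le_normalizer ((h.symm.C_le.trans inf_le_right).trans
    (h.n1.comm.trans ((cent_le_cent inf_le_left).trans cent_le_norm)))).1 (hC.ge ⟨hv.2, hv.1⟩)
  refine ⟨u * c, mul_mem hu (h.C_le hc), ?_, ?_⟩
  · rw [← mul_assoc]; exact mul_mem h1 (h.C_le_CW hc)
  · rw [← mul_assoc] at h3 ⊢; exact (mul_mem_cancel_right (h.symm.C_le_CW hd)).1 h3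

section
variable (h : R2 F T A W₁ W₂ φ₁ φ₂ ψ₁ ψ₂) (m1 : 𝒩(A) ≤ 𝒩(W₁)) (m2 : 𝒩(A) ≤ 𝒩(W₂))
  (hy : y ∈ 𝒞(A)) (y1 : y ∈ CW T W₁) (y2 : y ∈ CW T W₂)
  (hb : b ∈ 𝒞(A)) (b1 : b ∈ CW T W₁) (b2 : b ∈ CW T W₂) (e : g * y * g⁻¹ = a * b)
include h m1 m2 hy y1 y2 hb b1 b2 e

theorem R2.fus1 (ha : a ∈ W₁ ⊓ W₂) : a = 1 := by
  have h1 : cj g A ≤ 𝒞[a * b] := le_cent1_iff.2 (by
    rw [← e, ← cj_centralizer]; exact conj_mem_cj hy)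
  obtain ⟨c, hc, h2⟩ := h.toSA.exists_cj_eq (h.toSA.cjj g)
    (le_cent1_iff.2 (mul_mem (h.U_cent ha) hb)) h1
  have h3 : c * g ∈ 𝒩(A) := cj_eq_self_iff.1 (by rw [← cj_cj, h2])
  have h4 : c * g * y * (c * g)⁻¹ = a * b := by
    calc _ = c * (g * y * g⁻¹) * c⁻¹ := by group
      _ = a * b := by rw [e, mem_cent1.1 hc]; group
  have h5 := (mul_mem_cancel_right b1).1 (h4 ▸ norm_mem_CW h.sc (m1 h3) y1)
  have h6 := (mul_mem_cancel_right b2).1 (h4 ▸ norm_mem_CW h.sc (m2 h3) y2)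
  exact mem_bot.1 (h.cc.le ⟨⟨ha.1, h.inf_CW ha.1 h5⟩, h.symm.inf_CW ha.2 h6⟩)

theorem R2.fus2 (ha : a ∈ W₁) : a = 1 := by
  have h1 : cj g A ≤ 𝒞[a * b] := le_cent1_iff.2 (by
    rw [← e, ← cj_centralizer]; exact conj_mem_cj hy)
  obtain ⟨c, hc, h2⟩ := (h.toSA.cjj g).exists_cj h1 (h.two.to_le h.le1) (fun x hx => h.sub (h.le1 hx))
    (le_cent1_iff.2 (mul_mem (h.n1.comm ha) (cent_le_cent h.le1 hb)))
  have h3 : cj (g⁻¹ * c) W₁ ≤ A := by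
    rw [← cj_cj]; exact (cj_mono g⁻¹ h2).trans (by rw [cj_cj, inv_mul_cancel, cj_one])
  have h4 : y = g⁻¹ * c * (a * b) * (g⁻¹ * c)⁻¹ := by
    calc y = g⁻¹ * (g * y * g⁻¹) * g := by group
      _ = g⁻¹ * (a * b * c * c⁻¹) * g := by rw [e]; group
      _ = _ := by rw [← mem_cent1.1 hc]; group
  have h5 : y ∈ CW T (cj (g⁻¹ * c) W₁) := by
    rcases h.le_or h3 (fun v hv => (h.n1.cjj _).sq hv) with h5 | h5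
    · rwa [eq_of_le_of_card_le h5 (by rw [card_cj])]
    · rwa [eq_of_le_of_card_le h5 (by rw [card_cj, h.card_eq])]
  have h6 := conj_mem_CW h.sc (g⁻¹ * c)⁻¹ h5
  rw [cj_cj, inv_mul_cancel, cj_one, h4] at h6
  have h7 : a * b ∈ CW T W₁ := by convert h6 using 1; group
  exact h.fus1 m1 m2 hy y1 y2 hb b1 b2 e
    (h.C_le ⟨ha, h.inf_CW ha ((mul_mem_cancel_right b1).1 h7)⟩)

theorem R2.fus3 (ha : a ∈ A) : a = 1 := by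
  have h1 : ∀ {W₁ W₂ : Subgroup G} {φ₁ φ₂ : G → SL(2, F)} {ψ₁ ψ₂ : G → Fin 2 → F},
      R2 F T A W₁ W₂ φ₁ φ₂ ψ₁ ψ₂ → a * a ∈ W₁ := fun h => (h.mem_W (mul_mem ha ha)).2 (by
    rw [h.n1.φ_add ha ha, CharTwo.add_self_eq_zero])
  have h2 : a * a = 1 := h.fus1 m1 m2 (mul_mem hy hy) (mul_mem y1 y1) (mul_mem y2 y2)
    (mul_mem hb hb) (mul_mem b1 b1) (mul_mem b2 b2) (g := g) (by
      calc g * (y * y) * g⁻¹ = g * y * g⁻¹ * (g * y * g⁻¹) := by group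
        _ = a * (b * a) * b := by rw [e]; group
        _ = _ := by rw [← mem_cent.1 hb a ha]; group) ⟨h1 h, h1 h.symm⟩
  rcases h.inv a ha h2 with h3 | h3
  · exact h.fus2 m1 m2 hy y1 y2 hb b1 b2 e h3
  · exact h.symm.fus2 m2 m1 hy y2 y1 hb b2 b1 e h3
end

theorem R2.syl_of [IsSimpleGroup G] (h : R2 F T A W₁ W₂ φ₁ φ₂ ψ₁ ψ₂)
    (m1 : 𝒩(A) ≤ 𝒩(W₁)) (m2 : 𝒩(A) ≤ 𝒩(W₂))
    (hS : ∀ S : Subgroup G, IsPGroup 2 S → A ≤ S → S ≤ A ⊔ 𝒞(A))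
    (k1 : ⁅𝒞(W₁), XX T W₁⁆ ≤ W₁ ⊔ Op' 2 𝒞(W₁))
    (k2 : ⁅𝒞(W₂), XX T W₂⁆ ≤ W₂ ⊔ Op' 2 𝒞(W₂)) : SylIn 2 A ⊤ := by
  obtain ⟨S, h1, hA⟩ := exists_sylIn_ge h.two (le_top : A ≤ ⊤)
  have hd : ∀ s ∈ S, ∃ a ∈ A, ∃ b ∈ S ⊓ (𝒞(A) ⊓ (CW T W₁ ⊓ CW T W₂)), s = a * b := fun s hs => by
    obtain ⟨a, ha, y, hy, rfl⟩ := (H1.mem_sup_of_le_normalizer cent_le_norm).1 (hS S h1.2.1 hA hs)
    obtain ⟨u, hu, h2⟩ := h.dec2 m1 m2 k1 k2 hy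
    have hu' := h.le1 hu.1
    exact ⟨a * u⁻¹, mul_mem ha (inv_mem hu'), y * u, ⟨mul_mem ((mul_mem_cancel_left (hA ha)).1 hs)
      (hA hu'), mul_mem hy (h.U_cent hu), h2⟩, by rw [← mem_cent.1 hy u hu']; group⟩
  have h2 : SA (cls (S ⊓ (𝒞(A) ⊓ (CW T W₁ ⊓ CW T W₂)))) (S ⊓ (𝒞(A) ⊓ (CW T W₁ ⊓ CW T W₂))) :=
    sa_of_closed h1 ⟨inf_le_left, fun y hy g hg => by
      obtain ⟨a, ha, b, hb, e⟩ := hd _ hg
      rwa [e, h.fus3 m1 m2 hy.2.1 hy.2.2.1 hy.2.2.2 hb.2.1 hb.2.2.1 hb.2.2.2 e ha, one_mul]⟩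
  have hA0 : A ≠ ⊥ := fun e => h.ne (h.le1.trans (e.le.trans bot_le))
  have h3 : S ⊓ (𝒞(A) ⊓ (CW T W₁ ⊓ CW T W₂)) = ⊥ := by
    by_contra hne
    have h4 := (h.toSA.pr h2 (cent_comm.1 (inf_le_right.trans inf_le_left))
      (eq_bot_iff.2 fun a ha => mem_bot.2 (h.fus3 m1 m2 ha.2.2.1 ha.2.2.2.1 ha.2.2.2.2 (one_mem _)
        (one_mem _) (one_mem _) (g := 1) (by group) ha.1))).comm_le
    have e1 : closure T = ⊤ := by simpa [Nc] using h.nc_top hA0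
    have e2 : closure (cls (S ⊓ (𝒞(A) ⊓ (CW T W₁ ⊓ CW T W₂)))) = ⊤ := by
      simpa [Nc] using h2.nc_top hne
    rw [e1, e2, ← Op'_top Nat.prime_two] at h4
    have h5 : ⁅W₁, W₂⁆ = ⊥ := eq_bot_iff.2 ((le_inf ((commutator_mono le_top le_top).trans h4)
      (h.inf.ge.trans (inf_le_left.trans h.le1))).trans h.O_inf.le)
    exact h.ne ((le_inf h.le1 (commutator_eq_bot_iff.1 h5)).trans h.c2.le)
  rwa [le_antisymm hA fun s hs => by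
    obtain ⟨a, ha, b, hb, rfl⟩ := hd s hs
    rwa [mem_bot.1 (h3.le hb), mul_one]]

end Cfsg.Agent.C2
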