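import Cfsg.Agent.Lib.C2.A6a
import Cfsg.Agent.Lib.C2.A6b

/-!
# S1170: `A` is a Sylow subgroup (part A6) (see notes/C2.md)
-/

set_option autoImplicit false
set_option linter.unusedSectionVars false
set_option linter.unusedVariables false

namespace Cfsg.Agent.C2

open Subgroup Cfsg.Agent.H6 Cfsg.Agent.FT Cfsg.Agent.BD.P1 Cfsg.Agent.G75 Cfsg.Agent.G74
open Cfsg.Agent.St (Od)
open scoped commutatorElement MatrixGroups Matrix

universe u

variable {G : Type*} [Group G] [Finite G] {T : Set G}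
variable {A B C D E H K L M N P Q R S U V W X Y W₁ W₂ : Subgroup G}
variable {a b c d e g h n r s t v w x y z : G}
variable {F : Type} [Field F] [Fintype F] [CharP F 2] {φ φ₁ φ₂ : G → SL(2, F)}
  {ψ ψ₁ ψ₂ : G → Fin 2 → F}

theorem R2.m1 [IsSimpleGroup G] (h : R2 F T A W₁ W₂ φ₁ φ₂ ψ₁ ψ₂) : 𝒩(A) ≤ 𝒩(W₁) := h.m1'
theorem R2.syl [IsSimpleGroup G] (h : R2 F T A W₁ W₂ φ₁ φ₂ ψ₁ ψ₂) : SylIn 2 A ⊤ :=
  h.syl_of h.m1' h.symm.m1' (fun _ => h.hS) h.k1 h.symm.k1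

end Cfsg.Agent.C2
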