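import Cfsg.Agent.Lib.C2.R2a
import Cfsg.Agent.Lib.SZ.HigField

/-!
# S1170: the normalizer of `A` (part A6) (see notes/C2.md)
-/

set_option autoImplicit false
set_option linter.unusedSectionVars false
set_option linter.unusedVariables false

namespace Cfsg.Agent.C2

open Subgroup Cfsg.Agent.H6 Cfsg.Agent.FT Cfsg.Agent.BD.P1 Cfsg.Agent.G75 Cfsg.Agent.G74
open Cfsg.Agent.St (Od)
open scoped commutatorElement MatrixGroups Matrix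

universe u

variable {G : Type*} [Group G] [Finite G] {T : Set G}
variable {A B C D E H K L M N P Q R S U V W X Y W₁ W₂ : Subgroup G}
variable {a b c d e g n r s t v w x y z : G}
variable {F : Type} [Field F] [Fintype F] [CharP F 2] {φ φ₁ φ₂ : G → SL(2, F)}
  {ψ ψ₁ ψ₂ : G → Fin 2 → F}

theorem SA.le_of_sq [IsSimpleGroup G] (h : SA T A) (hA : A ≠ ⊥) (h1 : A ≤ M) (h2 : M ≤ 𝒩(A))
    (h3 : ∀ x ∈ 𝒩(A), x * x ∈ M) : 𝒩(A) ≤ M := by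
  by_contra hc
  obtain ⟨K, hK, ⟨h4, h5⟩, h6⟩ := Finite.exists_le_maximal
    (p := fun K : Subgroup G => K ≤ 𝒩(A) ∧ ¬ 𝒩(A) ≤ K) ⟨h2, hc⟩
  obtain ⟨x, hx, hxK⟩ := SetLike.not_le_iff_exists.1 h5
  have hn : 𝒩(A) ≤ 𝒩(K) := fun n hn => mem_normalizer_of_conj_mem fun m hm => by
    have := K.mul_mem (K.mul_mem (hK (h3 _ (mul_mem hn (h4 hm)))) (K.inv_mem hm))
      (hK (h3 _ (inv_mem hn)))
    convert this using 1
    group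
  have h7 : 𝒩(A) ≤ K ⊔ zpowers x := by
    by_contra h7
    exact hxK (h6 (y := K ⊔ zpowers x) ⟨sup_le h4 (zpowers_le.2 hx), h7⟩ le_sup_left
      (mem_sup_right (mem_zpowers x)))
  have := h.idx (H := ⊤) (M := K) le_top (h1.trans hK) (by rw [h.nc_top hA, top_inf_eq]; exact h4)
  rw [h.nc_top hA, top_inf_eq] at this
  refine this (relIndex_eq_two_iff.2 ⟨x, hx, fun b hb => ?_⟩)
  have h8 : b * x ∈ K ∨ b ∈ K := by
    obtain ⟨m, hm, _, ⟨k, rfl⟩, rfl⟩ := (H1.mem_sup_of_le_normalizer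
      ((zpowers_le.2 hx).trans hn)).1 (h7 hb)
    rcases Int.even_or_odd' k with ⟨j, rfl | rfl⟩
    · refine Or.inr (K.mul_mem hm ?_)
      have := hK (h3 _ (zpow_mem hx j))
      rwa [← zpow_add, ← two_mul] at this
    · refine Or.inl ?_
      have := K.mul_mem hm (hK (h3 _ (zpow_mem hx (j + 1))))
      convert this using 1
      change m * x ^ (2 * j + 1) * x = _
      group
  rcases h8 with h8 | h8
  · exact Or.inl ⟨h8, fun h9 => hxK ((K.mul_mem_cancel_left h9).1 h8)⟩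
  · exact Or.inr ⟨h8, fun h9 => hxK ((K.mul_mem_cancel_left h8).1 h9)⟩

theorem SA.hom_one [IsSimpleGroup G] (h : SA T A) (hA : A ≠ ⊥) {Γ : Type*} [Group Γ] [Finite Γ]
    (r : 𝒩(A) →* Γ) (comm : ∀ a b : Γ, a * b = b * a) (hr : ∀ a : 𝒩(A), a.1 ∈ A → r a = 1)
    (s : 𝒩(A)) {k : ℕ} (hs : s ^ 2 ^ k = 1) : r s = 1 := by
  let M0 : Subgroup 𝒩(A) :=
    { carrier := {g | ∃ n, r g = r n * r n}
      one_mem' := ⟨1, by simp⟩
      mul_mem' := by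
        rintro a b ⟨n, hn⟩ ⟨n', hn'⟩
        refine ⟨n * n', ?_⟩
        rw [map_mul, map_mul, hn, hn', mul_assoc, mul_assoc, ← mul_assoc (r n) (r n') (r n'),
          ← mul_assoc (r n') (r n) (r n'), comm (r n') (r n)]
      inv_mem' := by
        rintro a ⟨n, hn⟩
        exact ⟨n⁻¹, by rw [map_inv, map_inv, hn, mul_inv_rev]⟩ }
  have h1 := h.le_of_sq hA (M := M0.map (𝒩(A)).subtype)
    (fun a ha => ⟨⟨a, le_normalizer ha⟩, ⟨1, by rw [hr _ ha]; simp⟩, rfl⟩) (map_subtype_le _)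
    fun x hx => ⟨⟨x, hx⟩ * ⟨x, hx⟩, ⟨⟨x, hx⟩, map_mul _ _ _⟩, rfl⟩
  have h2 : Function.Surjective fun x : r.range => x * x := by
    rintro ⟨_, g, rfl⟩
    obtain ⟨g', ⟨n, hn⟩, e⟩ := h1 g.2
    obtain rfl : g' = g := Subtype.ext e
    exact ⟨⟨r n, n, rfl⟩, Subtype.ext hn.symm⟩
  have h3 := Finite.injective_iff_surjective.2 h2
  induction k generalizing s with
  | zero => rw [show s = 1 by simpa using hs, map_one]
  | succ k ih =>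
    have := ih (s * s) (by rw [← pow_two, ← pow_mul, ← pow_succ', hs])
    exact congrArg Subtype.val (h3 (a₁ := ⟨r s, s, rfl⟩) (a₂ := 1)
      (Subtype.ext (by simpa using this)))

theorem R2.ne_bot (h : R2 F T A W₁ W₂ φ₁ φ₂ ψ₁ ψ₂) : A ≠ ⊥ := fun e =>
  h.ne (h.le1.trans (e.le.trans bot_le))

theorem R2.m1' [IsSimpleGroup G] (h : R2 F T A W₁ W₂ φ₁ φ₂ ψ₁ ψ₂) : 𝒩(A) ≤ 𝒩(W₁) := by
  refine (h.toSA.le_of_sq h.ne_bot (M := 𝒩(A) ⊓ 𝒩(W₁)) (le_inf le_normalizer h.norm1)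
    inf_le_left fun x hx => ⟨mul_mem hx hx, ?_⟩).trans inf_le_right
  rcases h.le_or ((cj_mono x h.le1).trans (cj_eq_self_iff.2 hx).le)
    (fun v hv => (h.n1.cjj x).sq hv) with h3 | h3
  · exact mul_mem (mem_normalizer_of_cj_le h3) (mem_normalizer_of_cj_le h3)
  rcases h.le_or ((cj_mono x h.le2).trans (cj_eq_self_iff.2 hx).le)
    (fun v hv => (h.n2.cjj x).sq hv) with h4 | h4
  · exact mem_normalizer_of_cj_le (by rw [← cj_cj]; exact (cj_mono x h3).trans h4)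
  · have := h.symm.norm2_of hx (mem_normalizer_of_cj_le h4)
    exact mul_mem this this

/-- The field automorphism induced by `n`. -/
def Rho (V : Subgroup G) (ψ : G → Fin 2 → F) (n : G) (ρ : F ≃+* F) : Prop :=
  ∀ v ∈ V, ∀ w ∈ V, ∀ l : F, ψ w = l • ψ v → ψ (n * w * n⁻¹) = ρ l • ψ (n * v * n⁻¹)

theorem rho_of {m : Matrix (Fin 2) (Fin 2) F} {ρ : F ≃+* F}
    (hm : ∀ v ∈ V, ψ (n * v * n⁻¹) = m *ᵥ fun i => ρ (ψ v i)) : Rho V ψ n ρ :=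
  fun v hv w hw l e => by
    rw [hm v hv, hm w hw, e, ← Matrix.mulVec_smul]
    congr 1
    funext i
    simp
theorem Nm.rho_uniq (h : Nm F X V A φ ψ) (hn : n ∈ 𝒩(V)) {ρ ρ' : F ≃+* F} (h1 : Rho V ψ n ρ)
    (h2 : Rho V ψ n ρ') : ρ = ρ' := by
  ext l
  obtain ⟨v, hv, e⟩ := h.ψ_surj ![1, 0]
  have hv' := conj_mem_of_mem_normalizer' hn hv
  obtain ⟨w, hw, e'⟩ := h.ψ_surj (l • ψ (n⁻¹ * v * n))
  have := congrFun ((h1 _ hv' _ hw l e').symm.trans (h2 _ hv' _ hw l e')) 0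
  rw [show n * (n⁻¹ * v * n) * n⁻¹ = v by group, e] at this
  simpa using this
theorem Rho.mul (hy : y ∈ 𝒩(V)) {ρ ρ' : F ≃+* F} (h1 : Rho V ψ x ρ) (h2 : Rho V ψ y ρ') :
    Rho V ψ (x * y) (ρ * ρ') := fun v hv w hw l e => by
  have := h1 _ (conj_mem_of_mem_normalizer hy hv) _ (conj_mem_of_mem_normalizer hy hw) _
    (h2 v hv w hw l e)
  simpa [mul_assoc] using this

theorem R2.lin [IsSimpleGroup G] (h : R2 F T A W₁ W₂ φ₁ φ₂ ψ₁ ψ₂) (hs : s ∈ 𝒩(A)) {k : ℕ}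
    (hk : s ^ 2 ^ k = 1) :
    ∃ m : Matrix (Fin 2) (Fin 2) F, ∀ v ∈ W₁, ψ₁ (s * v * s⁻¹) = m *ᵥ ψ₁ v := by
  have h1 : ∀ n : 𝒩(A), ∃ ρ, Rho W₁ ψ₁ n ρ := fun n => by
    obtain ⟨m, ρ, hm, -⟩ := h.n1.semi (norm_XX h.sc (h.m1' n.2)) (h.m1' n.2)
    exact ⟨ρ, rho_of hm⟩
  choose r hr using h1
  have h2 := h.toSA.hom_one h.ne_bot (MonoidHom.mk' r fun a b =>
    h.n1.rho_uniq (h.m1' (a * b).2) (hr _) ((hr a).mul (h.m1' b.2) (hr b))) Hig.aut_comm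
    (fun a ha => h.n1.rho_uniq (h.m1' a.2) (hr a) (rho_of (m := (φ₁ a).1) fun v hv =>
      h.n1.act _ (h.n1.le ha) v hv)) ⟨s, hs⟩ (k := k) (Subtype.ext (by simpa using hk))
  obtain ⟨m, ρ, hm, -⟩ := h.n1.semi (norm_XX h.sc (h.m1' hs)) (h.m1' hs)
  have h3 : ρ = 1 := (h.n1.rho_uniq (h.m1' hs) (rho_of hm) (hr ⟨s, hs⟩)).trans h2
  exact ⟨m.1, fun v hv => by rw [hm v hv, h3]; rfl⟩

theorem pow_ord_one {f : G → F} {c : F} (hn : n ∈ 𝒩(P)) (h1 : ∀ v ∈ P, f (n * v * n⁻¹) = c * f v)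
    (hv : v ∈ P) (h2 : f v = 1) : c ^ orderOf n = 1 := by
  have : ∀ j : ℕ, f (n ^ j * v * (n ^ j)⁻¹) = c ^ j := fun j => by
    induction j with
    | zero => simpa using h2
    | succ j ih =>
      rw [pow_succ' c, ← ih, ← h1 _ (conj_mem_of_mem_normalizer (pow_mem hn j) hv)]
      congr 1
      group
  rw [← this, pow_orderOf_eq_one]
  simpa using h2

theorem R2.uni (h : R2 F T A W₁ W₂ φ₁ φ₂ ψ₁ ψ₂) (h1 : n ∈ 𝒩(W₁)) (h2 : n ∈ 𝒩(W₂))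
    (hc : ∀ c : F, c ^ orderOf n = 1 → c = 1)
    (hm : ∃ m : Matrix (Fin 2) (Fin 2) F, ∀ v ∈ W₁, ψ₁ (n * v * n⁻¹) = m *ᵥ ψ₁ v) :
    ∃ a ∈ W₂, ∀ v ∈ W₁, ψ₁ (n * v * n⁻¹) = ψ₁ (a * v * a⁻¹) := by
  obtain ⟨m, hm⟩ := hm
  have e : ∀ v ∈ W₁, ∀ i, ψ₁ (n * v * n⁻¹) i = m i 0 * ψ₁ v 0 + m i 1 * ψ₁ v 1 := fun v hv i => by
    rw [hm v hv]
    simp [Matrix.mulVec, dotProduct, Fin.sum_univ_two]
  obtain ⟨u, hu, eu⟩ := h.n1.ψ_surj ![1, 0]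
  obtain ⟨w, hw, ew⟩ := h.n1.ψ_surj ![0, 1]
  have hu' := (h.mem_U hu).2 (by rw [eu]; rfl)
  have a1 : m 1 0 = 0 := by
    have := (h.mem_U (conj_mem_of_mem_normalizer h1 hu)).1 (conj_mem_of_mem_normalizer h2 hu')
    rw [e u hu, eu] at this
    simpa using this
  have a2 : m 0 0 = 1 := hc _ (pow_ord_one (f := fun v => ψ₁ v 0) (P := W₁ ⊓ W₂)
    (H1.le_normalizer_inf (zpowers_le.2 h1) (zpowers_le.2 h2) (mem_zpowers n))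
    (fun v hv => by rw [e v hv.1, (h.mem_U hv.1).1 hv.2]; simp) ⟨hu, hu'⟩ (by rw [eu]; rfl))
  have a3 : m 1 1 = 1 := hc _ (pow_ord_one (f := fun v => ψ₁ v 1) h1
    (fun v hv => by rw [e v hv, a1]; simp) hw (by rw [ew]; rfl))
  obtain ⟨a, ha, ea⟩ := h.n1.exists_uM (m 0 1)
  obtain ⟨b, hb, a, ha', rfl⟩ := (H1.mem_sup_of_le_normalizer (h.le2.trans h.norm1)).1
    (h.sup.ge ha)
  rw [h.n1.φ_mul _ (h.n1.le (h.le1 hb)) _ (h.n1.le (h.le2 ha')),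
    (h.n1.φ_ker _ (h.n1.le (h.le1 hb))).2 (h.n1.comm hb), one_mul] at ea
  refine ⟨a, ha', fun v hv => ?_⟩
  rw [h.n1.act _ (h.n1.le (h.le2 ha')) _ hv, ea]
  refine vec_ext ?_ ?_ <;> rw [e v hv, sl_vec] <;> simp [uM, a1, a2, a3]

theorem R2.mem_AC (h : R2 F T A W₁ W₂ φ₁ φ₂ ψ₁ ψ₂) (h1 : n ∈ 𝒩(W₁)) (h2 : n ∈ 𝒩(W₂))
    (l1 : ∃ a ∈ W₂, ∀ v ∈ W₁, ψ₁ (n * v * n⁻¹) = ψ₁ (a * v * a⁻¹))
    (l2 : ∃ a ∈ W₁, ∀ v ∈ W₂, ψ₂ (n * v * n⁻¹) = ψ₂ (a * v * a⁻¹)) : n ∈ A ⊔ 𝒞(A) := by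
  obtain ⟨a, ha, l1⟩ := l1
  obtain ⟨b, hb, l2⟩ := l2
  have hU : n ∈ 𝒞(W₁ ⊓ W₂) := mem_cent.2 fun u hu => by
    have e1 := l1 u hu.1
    have e2 := l2 u hu.2
    rw [h.n2.cm ha hu.2, mul_inv_cancel_right] at e1
    rw [h.n1.cm hb hu.1, mul_inv_cancel_right] at e2
    have c1 := conj_mem_of_mem_normalizer h1 hu.1
    have := mem_bot.1 (h.cc.le ⟨⟨W₁.mul_mem (W₁.inv_mem c1) hu.1, h.n1.cent_of_ψ c1 hu.1 e1⟩,
      h.n2.cent_of_ψ (conj_mem_of_mem_normalizer h2 hu.2) hu.2 e2⟩)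
    rw [inv_mul_eq_one, mul_inv_eq_iff_eq_mul] at this
    exact this.symm
  have key : ∀ {W₁ W₂ : Subgroup G} {φ₁ φ₂ : G → SL(2, F)} {ψ₁ ψ₂ : G → Fin 2 → F},
      R2 F T A W₁ W₂ φ₁ φ₂ ψ₁ ψ₂ → n ∈ 𝒩(W₁) → n ∈ 𝒞(W₁ ⊓ W₂) → ∀ a ∈ W₂,
      (∀ v ∈ W₁, ψ₁ (n * v * n⁻¹) = ψ₁ (a * v * a⁻¹)) → a⁻¹ * n ∈ 𝒞(W₁) :=
    fun h h1 hU a ha l1 => by
      have ha' := inv_mem (h.norm1 (h.le2 ha))
      refine h.n1.hom_zero (norm_XX h.sc (mul_mem ha' h1)) (mul_mem ha' h1) (fun v hv => ?_)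
        (cent_le_cent h.C_le (mul_mem (inv_mem (cent_le_cent inf_le_right (h.n2.comm ha))) hU))
      have := h.n1.ψ_conj_eq (norm_XX h.sc ha') ha' (conj_mem_of_mem_normalizer h1 hv)
        (conj_mem_of_mem_normalizer (h.norm1 (h.le2 ha)) hv) (l1 v hv)
      simpa [mul_assoc] using this
  have k1 := key h h1 hU a ha l1
  have k2 := key h.symm h2 (by rwa [inf_comm]) b hb l2
  have k3 : b⁻¹ * (a⁻¹ * n) ∈ 𝒞(A) := by
    rw [← h.sup, FT.cent_sup]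
    refine mem_inf.2 ⟨mul_mem (inv_mem (h.n1.comm hb)) k1, ?_⟩
    have := mul_mem (h.n2.comm (conj_mem_of_mem_normalizer' (h.symm.norm1 (h.le1 hb))
      (W₂.inv_mem ha))) k2
    convert this using 1
    group
  have := mul_mem (mem_sup_left (T := 𝒞(A)) (A.mul_mem (h.le2 ha) (h.le1 hb))) (mem_sup_right k3)
  convert this using 1
  group

theorem R2.hS [IsSimpleGroup G] (h : R2 F T A W₁ W₂ φ₁ φ₂ ψ₁ ψ₂) (hS : IsPGroup 2 S)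
    (hA : A ≤ S) : S ≤ A ⊔ 𝒞(A) := fun s hs => by
  have h1 := h.toSA.le_norm_of_two hS hA hs
  obtain ⟨k, hk⟩ := hS ⟨s, hs⟩
  have hk' : s ^ 2 ^ k = 1 := by simpa using congrArg Subtype.val hk
  have hc : ∀ c : F, c ^ orderOf s = 1 → c = 1 := fun c hc => by
    obtain ⟨j, hj⟩ := orderOf_dvd_of_pow_eq_one hk'
    have : (c - 1) ^ 2 ^ k = 0 := by rw [sub_pow_char_pow, hj, pow_mul, hc]; simp
    exact sub_eq_zero.1 (pow_eq_zero_iff (by positivity) |>.1 this)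
  exact h.mem_AC (h.m1' h1) (h.symm.m1' h1) (h.uni (h.m1' h1) (h.symm.m1' h1) hc (h.lin h1 hk'))
    (h.symm.uni (h.symm.m1' h1) (h.m1' h1) hc (h.symm.lin h1 hk'))

theorem R2.N_le [IsSimpleGroup G] (h : R2 F T A W₁ W₂ φ₁ φ₂ ψ₁ ψ₂) (h2 : Nat.card F = 2) :
    𝒩(A) ≤ A ⊔ 𝒞(A) := fun n hn => by
  have h01 : ∀ s : F, s = 0 ∨ s = 1 := fun s => by
    have := FiniteField.pow_card s
    rw [← Nat.card_eq_fintype_card, h2, pow_two] at this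
    by_cases e : s = 0
    · exact Or.inl e
    · exact Or.inr (mul_left_cancel₀ e (by rw [this, mul_one]))
  have hc : ∀ c : F, c ^ orderOf n = 1 → c = 1 := fun c hc => (h01 c).resolve_left fun e => by
    rw [e, zero_pow (orderOf_pos n).ne'] at hc
    exact zero_ne_one hc
  have key : ∀ {W₁ W₂ : Subgroup G} {φ₁ φ₂ : G → SL(2, F)} {ψ₁ ψ₂ : G → Fin 2 → F},
      R2 F T A W₁ W₂ φ₁ φ₂ ψ₁ ψ₂ →
      ∃ m : Matrix (Fin 2) (Fin 2) F, ∀ v ∈ W₁, ψ₁ (n * v * n⁻¹) = m *ᵥ ψ₁ v := fun h => by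
    obtain ⟨m, ρ, hm, -⟩ := h.n1.semi (norm_XX h.sc (h.m1' hn)) (h.m1' hn)
    refine ⟨m.1, fun v hv => ?_⟩
    rw [hm v hv]
    congr 1
    funext i
    exact (fun c => by rcases h01 c with e | e <;> rw [e] <;> simp : ∀ c, ρ c = c) _
  exact h.mem_AC (h.m1' hn) (h.symm.m1' hn) (h.uni (h.m1' hn) (h.symm.m1' hn) hc (key h))
    (h.symm.uni (h.symm.m1' hn) (h.m1' hn) hc (key h.symm))

theorem R2.k1 (h : R2 F T A W₁ W₂ φ₁ φ₂ ψ₁ ψ₂) :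
    ⁅𝒞(W₁), XX T W₁⁆ ≤ W₁ ⊔ Op' 2 𝒞(W₁) := by
  have nC := normalIn_cent_norm W₁
  obtain ⟨E, hE, h4, h5⟩ := h.sc.comm_le_in (normalIn_norm W₁) nC fun x hx hx' => by
    have h1 : x ∈ 𝒞(W₁) := sup_le le_rfl h.n1.comm hx'
    exact h.c1.le ⟨h.toSA.mem_inf (h.norm1.trans nC.norm) hx h1
      (by rw [h.c1]; exact nC.le h1), h1⟩
  have n0 := hE.inf nC
  have h6 := G75.le_sup_of_central (h.two.to_le h.le1) n0.le
    (inf_le_right.trans (cent_le_cent inf_le_right))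
    (h4.of_dvd_nat (relIndex_dvd_of_le_norm inf_le_left hE.le))
  have h7 : Op' 2 (E ⊓ 𝒞(W₁)) ≤ Op' 2 𝒞(W₁) := core_le_of_normal (n0.mono inf_le_right nC.le)
  rw [Subgroup.commutator_comm, sup_comm]
  exact (le_inf h5 (commutator_le_right (XX_le.trans nC.norm))).trans
    (h6.trans (sup_le_sup h7 inf_le_right))

end Cfsg.Agent.C2
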