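import Cfsg.Agent.Lib.C2.Defs
import Cfsg.Agent.Lib.C2.A7c
import Cfsg.Agent.Lib.GW.Hat
import Cfsg.Agent.Lib.GW.DG

/-!
# S1170: recognition of `A₇` (see notes/C2.md)
-/

set_option autoImplicit false
set_option linter.unusedSectionVars false
set_option linter.unusedVariables false

namespace Cfsg.Agent.C2

open Subgroup Cfsg.Agent.H6 Cfsg.Agent.FT Cfsg.Agent.BD.P1 Cfsg.Agent.G75 Cfsg.Agent.G74
open Cfsg.Agent.St (Od)
open scoped commutatorElement MatrixGroups Matrix

universe u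

variable {G : Type*} [Group G] [Finite G] {T : Set G}
variable {A B C D E H K L M N P Q R S U V W X Y W₁ W₂ : Subgroup G}
variable {a b c d e g n r s t v w x y z : G}

namespace Sev

theorem cube_of_card (hU : Nat.card U = 3) (hx : x ∈ U) : x ^ 3 = 1 :=
  congrArg Subtype.val (hU ▸ pow_card_eq_one' (x := (⟨x, hx⟩ : U)))

theorem three (hU : Nat.card U = 3) (hx : x ∈ U) (h1 : x ≠ 1) (hg : g ∈ U) : g = 1 ∨ Ev x g := by
  have h3 := ne_inv3 (cube_of_card hU hx) h1
  have : ({1, x, x⁻¹} : Set G) = U := Set.eq_of_subset_of_ncard_le (by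
    rintro _ (rfl | rfl | rfl)
    exacts [U.one_mem, hx, U.inv_mem hx]) (by
    rw [Set.ncard_eq_three.2 ⟨_, _, _, h1.symm, by simpa using h1, h3, rfl⟩]
    exact hU.le)
  exact (this ▸ hg : g ∈ ({1, x, x⁻¹} : Set G))

theorem ord2 (h : t * t = 1) (h1 : t ≠ 1) : orderOf t = 2 :=
  orderOf_eq_prime (by rw [pow_two, h]) h1

theorem mem_UU (hD : GW.Dy (⊤ : Subgroup G)) (ht : orderOf t = 2) (hg : g ^ 3 = 1)
    (c : Commute t g) : g ∈ GW.UU t :=
  (hD.nc2_top ht).mem (mem_cent1.2 c.symm)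
    ((by decide : Odd 3).of_dvd_nat (orderOf_dvd_of_pow_eq_one hg))

end Sev

open Sev in
theorem a7 (hD : GW.Dy (⊤ : Subgroup G)) (h : GW.A7T (⊤ : Subgroup G)) :
    Nonempty (G ≃* alternatingGroup (Fin 7)) := by
  have := h.simple
  have : IsSimpleGroup G := topEquiv.symm.isSimpleGroup
  obtain ⟨S, r, s, dih, syl, cU, sU, aU, idx, -⟩ := h.ex
  simp only [top_inf_eq, relIndex_top_right] at cU sU aU idx
  have ds : GW.DS S 2 r s := ⟨dih, by decide, syl⟩
  have one : ∀ a b : G, orderOf a = 2 → orderOf b = 2 → ∃ g, g * a * g⁻¹ = b := fun a b ha hb =>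
    let ⟨g, _, e⟩ := GW.oneClass_of_simple ds a trivial b trivial ha hb
    ⟨g, e⟩
  have tw := ds.swap.two
  have so := ds.two.hb
  have c24 := ds.sdp.card_mul
  have le := ds.sdp.left_le
  rw [ds.card] at c24
  set t := r ^ 2 with ht
  set a := r * s with ha
  set U := GW.UU t with hU
  change Nat.card U = 3 at cU
  change ∀ u ∈ U, _ at sU
  change U ≤ _ at aU
  rw [cU] at c24
  have cG : Nat.card G = 2520 := by rw [← (𝒞[t] : Subgroup G).index_mul_card, idx, ← c24]
  have cH : (𝒞[t] : Subgroup G) ≤ 𝒩(U) := GW.le_norm_OO _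
  have : Fact (Nat.Prime 3) := ⟨Nat.prime_three⟩
  have d9 : 3 ^ (1 + 1) ∣ Nat.card 𝒩(U) :=
    Sylow.prime_pow_dvd_card_normalizer (by rw [cG]; norm_num) (by rw [cU]; rfl)
  have d24 := card_dvd_of_le cH
  rw [← c24] at d24
  have d72 : 72 ∣ Nat.card 𝒩(U) := by omega
  have iH := (𝒩(U) : Subgroup G).index_mul_card
  obtain ⟨k, hk⟩ := d72
  rw [cG, hk] at iH
  have i35 : (𝒩(U) : Subgroup G).index ∣ 35 := ⟨k, by
    generalize (𝒩(U) : Subgroup G).index = m at iH
    nlinarith⟩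
  have : (𝒩(U) : Subgroup G).index ∈ Nat.divisors 35 := Nat.mem_divisors.2 ⟨i35, by decide⟩
  rw [show Nat.divisors 35 = {1, 5, 7, 35} by decide] at this
  simp only [Finset.mem_insert, Finset.mem_singleton] at this
  rcases this with i | i | i | i
  · rcases IsSimpleGroup.eq_bot_or_eq_top_of_normal U
      (normalizer_eq_top_iff.1 (index_eq_one.1 i)) with e | e
    · rw [e, card_bot] at cU; omega
    · rw [e, card_top, cG] at cU; omega
  · exact absurd i (index_ne_five cG _)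
  · exact iso_of_index cG i
  have c72 : Nat.card 𝒩(U) = 72 := by rw [i] at iH; omega
  obtain ⟨x, hx, x1⟩ : ∃ v ∈ U, v ≠ 1 := by
    by_contra c
    push Not at c
    rw [(eq_bot_iff_forall U).2 c, card_bot] at cU
    omega
  have x3 := cube_of_card cU hx
  have nH : ∀ g, g ∈ 𝒩(U) ↔ Ev x (g * x * g⁻¹) := fun g => by
    refine ⟨fun hg => (three cU hx x1 (conj_mem_of_mem_normalizer hg hx)).resolve_left (cne x1 g),
      fun e => mem_normalizer_of_conj_mem fun y hy => ?_⟩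
    rcases three cU hx x1 hy with rfl | e'
    · simp
    · rcases e.trans (e'.conj g) with k | k <;> rw [k]
      exacts [hx, U.inv_mem hx]
  have sx := sU x hx
  have c36 : Nat.card 𝒞[x] = 36 := by
    have h1 : classSupport {x} 𝒩(U) = {x, x⁻¹} := by
      ext y
      constructor
      · rintro ⟨_, rfl, g, hg, rfl⟩
        exact (nH g).1 hg
      · rintro (rfl | rfl)
        · exact ⟨_, rfl, 1, one_mem _, by simp⟩
        · exact ⟨_, rfl, s, (nH s).2 (Or.inr sx), sx.symm⟩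
    have h2 := GW.ncard_orbit x 𝒩(U)
    have h3 := H1.card_mul_relIndex (A := 𝒞[x]) (K := 𝒩(U)) fun g hg =>
      (nH g).2 (Or.inl (cfix (mem_cent1.1 hg)))
    rw [h1, Set.ncard_pair (ne_inv3 x3 x1)] at h2
    rw [← h2, c72] at h3
    omega
  have tx : Commute t x := (mem_cent1.1 (le hx)).symm
  have ax : Commute a x := (mem_cent1.1 (aU hx)).symm
  have cUU : ∀ v : G, orderOf v = 2 → Nat.card (GW.UU v) = 3 := fun v hv => by
    obtain ⟨g, rfl⟩ := one t v tw.ha hv
    rw [← GW.cj_UU, card_cj]; exact cU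
  have hV : ∀ v, v ∈ GW.V4 t a ↔ Vx x v := by
    have sub : ∀ v, orderOf v = 2 → Commute v x → v ∈ classSupport {t} 𝒩(U) := fun v hv c => by
      obtain ⟨g, rfl⟩ := one t v tw.ha hv
      have k := mem_UU hD hv x3 c
      rw [← GW.cj_UU, mem_cj] at k
      refine ⟨_, rfl, g, inv_mem_iff.1 ((nH _).2 ?_), rfl⟩
      rw [inv_inv]
      exact (three cU hx x1 k).resolve_left (by simpa using cne x1 g⁻¹)
    have h2 := GW.ncard_orbit t 𝒩(U)
    have h3 := H1.card_mul_relIndex cH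
    rw [← h2, c72, ← c24] at h3
    have h4 : ({t, a, t * a} : Set G) = classSupport {t} 𝒩(U) := Set.eq_of_subset_of_ncard_le (by
      rintro _ (rfl | rfl | rfl)
      exacts [sub _ tw.ha tx, sub _ tw.hb ax, sub _ tw.hab (tx.mul_left ax)]) (by
      rw [Set.ncard_eq_three.2 ⟨_, _, _, tw.ne, tw.left.ne, tw.right.ne, rfl⟩]
      omega)
    intro v
    rw [tw.mem_iff]
    constructor
    · rintro (rfl | rfl | rfl | rfl)
      exacts [⟨by simp, Commute.one_left x⟩, ⟨tw.aa, tx⟩, ⟨tw.bb, ax⟩, ⟨tw.left.bb, tx.mul_left ax⟩]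
    · intro hv
      by_cases v1 : v = 1
      · exact Or.inl v1
      · have := sub v (ord2 hv.1 v1) hv.2
        rw [← h4] at this
        exact Or.inr this
  have mT : ∀ g, g * x * g⁻¹ ∈ classSupport {x} (⊤ : Subgroup G) := fun g =>
    ⟨_, rfl, g, trivial, rfl⟩
  have cube : ∀ y ∈ classSupport {x} (⊤ : Subgroup G), y ^ 3 = 1 := by
    rintro _ ⟨_, rfl, g, -, rfl⟩
    rw [conj_pow, x3]; simp
  have ne : ∀ y ∈ classSupport {x} (⊤ : Subgroup G), y ≠ 1 := by
    rintro _ ⟨_, rfl, g, -, rfl⟩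
    exact cne x1 g
  refine Cx.iso (T := classSupport {x} ⊤) ⟨cube, ne, ?_, ?_, ?_, ?_, ?_, ?_, ?_, ?_, ?_⟩ cG
  · rintro _ ⟨_, rfl, g, -, rfl⟩ k
    convert mT (k * g) using 1
    group
  · rintro _ ⟨y, hy, g, -, rfl⟩
    rw [Set.mem_singleton_iff.1 hy]
    convert mT (g * s) using 1
    calc _ = g * (s * x * s⁻¹) * g⁻¹ := by rw [sx]; group
      _ = _ := by group
  · have := (𝒞[x] : Subgroup G).index_mul_card
    rw [GW.ncard_orbit, relIndex_top_right]
    rw [c36, cG] at this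
    omega
  · rintro _ ⟨_, rfl, g, -, rfl⟩
    rw [← cj_centralizer_singleton, card_cj, c36]
  · rintro _ ⟨_, rfl, g, -, rfl⟩
    refine ⟨cj g (GW.V4 t a), by rw [card_cj, tw.card], fun v => ?_⟩
    rw [mem_cj, hV]
    exact ⟨fun k => by simpa [mul_assoc] using k.conj g, fun k => by
      simpa [mul_assoc] using k.conj g⁻¹⟩
  · intro v w z k z2 c1 c2
    rw [k.mem_iff]
    by_cases z1 : z = 1
    · exact Or.inl z1
    · exact Or.inr (hD.inv_cases k trivial trivial trivial (ord2 z2 z1) (mem_cent1.2 c1)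
        (mem_cent1.2 c2))
  · intro v v2 v1 y hy c g g3 c'
    have := ord2 v2 v1
    exact three (cUU v this) (mem_UU hD this (cube y hy) c) (ne y hy) (mem_UU hD this g3 c')
  · intro v v2 v1
    obtain ⟨g, rfl⟩ := one s v so (ord2 v2 v1)
    refine ⟨_, mT g, ?_⟩
    calc _ = g * (s * x * s⁻¹) * g⁻¹ := by group
      _ = _ := by rw [sx]; group
  · intro v v2 v1
    obtain ⟨g, rfl⟩ := one t v tw.ha (ord2 v2 v1)
    exact ⟨_, mT g, cconj tx g⟩

end Cfsg.Agent.C2
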