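import Cfsg.Agent.Lib.C2.Defs

/-!
# S1170: part B, general lemmas
-/

set_option autoImplicit false
set_option linter.unusedSectionVars false
set_option linter.unusedVariables false

namespace Cfsg.Agent.C2

open Subgroup Cfsg.Agent.H6 Cfsg.Agent.FT Cfsg.Agent.BD.P1 Cfsg.Agent.G75 Cfsg.Agent.G74
open scoped commutatorElement

universe u

/-- The trace of a component on the strongly closed subgroup `W` of `H`. -/
structure Cf {G : Type*} [Group G] (H W B P : Subgroup G) : Prop where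
  cen : W ⊓ 𝒞(H) ≤ B
  le : B ≤ W
  four : 4 ≤ B.relIndex W
  pw : P ≤ 𝒩(W)
  pb : P ≤ 𝒞(B)
  tr : TrOn P W B
  nm : H ⊓ 𝒩(W) ⊓ 𝒩(B) ≤ 𝒩(P)
  sz : ⁅W, P⁆ ⊓ B ≠ ⊥ → ∃ q ∈ P, ⁅W, zpowers q⁆ ≤ B ∧ q ∉ 𝒞(W) ∧ ¬ W ⊓ 𝒞[q] ≤ B

section Map

variable {G G' : Type*} [Group G] [Group G'] {f : G →* G'} {H W B P : Subgroup G} {x : G}

theorem mem_cent_map (hf : Function.Injective f) : f x ∈ 𝒞(W.map f) ↔ x ∈ 𝒞(W) := by
  simp only [mem_cent, mem_map]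
  exact ⟨fun h w hw => hf (by simpa using h _ ⟨w, hw, rfl⟩), by
    rintro h _ ⟨w, hw, rfl⟩
    rw [← map_mul, h w hw, map_mul]⟩

theorem mem_norm_map (hf : Function.Injective f) : f x ∈ 𝒩(W.map f) ↔ x ∈ 𝒩(W) := by
  refine ⟨fun h => mem_normalizer_iff.2 fun w => ?_, fun h => le_normalizer_map f ⟨x, h, rfl⟩⟩
  rw [← mem_map_iff_mem hf, ← mem_map_iff_mem hf (x := x * w * x⁻¹), mem_normalizer_iff.1 h]
  simp

theorem Cf.map (h : Cf H W B P) (hf : Function.Injective f) :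
    Cf (H.map f) (W.map f) (B.map f) (P.map f) := by
  refine ⟨?_, map_mono h.le, ?_, ?_, ?_, ?_, ?_, fun h1 => ?_⟩
  · rintro _ ⟨⟨w, hw, rfl⟩, h1⟩
    exact ⟨w, h.cen ⟨hw, (mem_cent_map hf).1 h1⟩, rfl⟩
  · rw [relIndex_map_map_of_injective _ _ hf]; exact h.four
  · rintro _ ⟨w, hw, rfl⟩
    exact (mem_norm_map hf).2 (h.pw hw)
  · rintro _ ⟨w, hw, rfl⟩
    exact (mem_cent_map hf).2 (h.pb hw)
  · rintro _ ⟨a, ha, rfl⟩ h1 _ ⟨b, hb, rfl⟩ h2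
    obtain ⟨g, hg, e⟩ := h.tr a ha (fun e => h1 ⟨a, e, rfl⟩) b hb fun e => h2 ⟨b, e, rfl⟩
    exact ⟨f g, ⟨g, hg, rfl⟩, _, e, by simp⟩
  · rintro _ ⟨⟨⟨w, hw, rfl⟩, h1⟩, h2⟩
    exact (mem_norm_map hf).2 (h.nm ⟨⟨hw, (mem_norm_map hf).1 h1⟩, (mem_norm_map hf).1 h2⟩)
  · rw [← map_commutator, ← map_inf _ _ _ hf, Ne, map_eq_bot_iff_of_injective _ hf] at h1
    obtain ⟨q, hq, a1, a2, a3⟩ := h.sz h1
    refine ⟨f q, ⟨q, hq, rfl⟩, ?_, fun e => a2 ((mem_cent_map hf).1 e), fun e => a3 ?_⟩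
    · rw [← MonoidHom.map_zpowers, ← map_commutator]; exact map_mono a1
    · rintro w ⟨hw, h2⟩
      refine (mem_map_iff_mem hf).1 (e ⟨⟨w, hw, rfl⟩, ?_⟩)
      exact mem_cent1.2 (by rw [← map_mul, mem_cent1.1 h2, map_mul])

end Map

section Dich

variable {G : Type u} [Group G] [Finite G] {T : Set G} {H S W : Subgroup G}

theorem dich_top (hz : ZA T W) : ⊤ ≤ 𝒩(Op' 2 ⊤ ⊔ W) ∨ ∃ B P, Cf ⊤ W B P := by
  rcases le_or_one (ih_all _) hz le_top (Nat.lt_succ_self _) with h | ⟨B, h1, h2, h3, h4⟩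
  · left
    have e : Op' 2 ⊤ ⊔ W = KO T ⊤ := le_antisymm (sup_le le_sup_right (hz.le_KO le_top))
      (sup_le h le_sup_left)
    rw [e]
    exact hz.normal_KO.norm
  · refine Or.inr ⟨B, Nc T (⊤ ⊓ 𝒞(B)) ⊓ 𝒩(W), h1, h2, h3, inf_le_right, h4.P_cent hz, h4.trOn hz,
      ?_, fun h => (h4.sz hz inf_le_right h).2.2⟩
    refine H1.le_normalizer_inf (le_trans ?_ hz.sc.norm_Nc)
      ((inf_le_left.trans inf_le_right).trans le_normalizer)
    rw [top_inf_eq 𝒞(B)]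
    exact inf_le_right.trans (normalIn_cent_norm B).norm

theorem dich (hS : SylIn 2 S H) (hW : W ≤ S) (h2 : ∀ w ∈ W, w * w = 1)
    (hf : ∀ x ∈ W, ∀ g ∈ H, g * x * g⁻¹ ∈ S → g * x * g⁻¹ ∈ W) :
    H ≤ 𝒩(Op' 2 H ⊔ W) ∨ ∃ B P, Cf H W B P := by
  have hz : ZA (cls (W.subgroupOf H)) (W.subgroupOf H) :=
    za_of_closed (sylIn_top hS.toSylow) (closed_subgroupOf hS hW hf)
      fun a ha => Subtype.ext (h2 a ha)
  have e1 : (W.subgroupOf H).map H.subtype = W := map_subgroupOf_eq_of_le (hW.trans hS.le)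
  have e2 : (⊤ : Subgroup H).map H.subtype = H := by simp [← MonoidHom.range_eq_map]
  rcases dich_top hz with h | ⟨B, P, h⟩
  · left
    intro g hg
    have := (mem_norm_map H.subtype_injective).2 (h (mem_top (⟨g, hg⟩ : H)))
    rwa [Subgroup.map_sup, e1, ← core_map_subtype, e2] at this
  · have := h.map H.subtype_injective
    rw [e1, e2] at this
    exact Or.inr ⟨_, _, this⟩

end Dich

section Bal

variable {G : Type*} [Group G] [Finite G] {H S V R : Subgroup G}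

theorem cent_le_sup (hS : SylIn 2 S H) (hV : V ≤ S) (hc : S ⊓ 𝒞(V) = V)
    (hn : H ≤ 𝒩(Op' 2 H ⊔ V)) (hn' : S ≤ 𝒩(V)) : H ⊓ 𝒞(V) ≤ Op' 2 H ⊔ V := by
  have hN := cM_normal hn
  have hO : Op' 2 H ⊓ S = ⊥ := inf_eq_bot_of_coprime' (cop2 (odd_Op' H) hS.isPGroup)
  have hVH := hV.trans hS.le
  have hab : V ≤ 𝒞(V) := hc.ge.trans inf_le_right
  have key : ∀ Y ≤ H, Y ≤ 𝒞(V) → Y ≤ centMod H (Op' 2 H ⊔ V) (Op' 2 H) := fun Y h1 h2 => by
    refine le_cM h1 ?_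
    rw [Subgroup.commutator_comm]
    refine (le_centMod_iff.1 (sup_le (O_le_cM h1) (le_cM hVH ?_))).2.2
    rw [commutator_eq_bot_iff.2 h2]; exact bot_le
  have key' : ∀ Y ≤ centMod H (Op' 2 H ⊔ V) (Op' 2 H), Y ≤ 𝒩(V) → Y ≤ 𝒞(V) := fun Y h1 h2 => by
    rw [← cent_comm, ← FT.commutator_eq_bot_iff, ← le_bot_iff, ← hO]
    exact le_inf ((commutator_mono le_sup_right h1).trans cM_comm)
      ((commutator_le_left h2).trans hV)
  have h1 := hS.inf_of_normal hN.le hN.norm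
  have e : S ⊓ centMod H (Op' 2 H ⊔ V) (Op' 2 H) = V := le_antisymm
    ((le_inf inf_le_left (key' _ inf_le_right (inf_le_left.trans hn'))).trans hc.le)
    (le_inf hV (key V hVH hab))
  rw [e] at h1
  have h2 := burn h1 (comm_iff.2 hab) ((key' _ inf_le_left inf_le_right).trans
    (cent_le_cent (omega_normal 2 V).le))
  exact (key _ inf_le_left inf_le_right).trans
    (h2.sup_eq.ge.trans (sup_le_sup_right (core_le_of_normal hN) _))

theorem bal_aux (hV : IsPGroup 2 V) (hN : NormalIn V H) (hc : H ⊓ 𝒞(V) ≤ V) (hR : IsPGroup 2 R)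
    (hle : R ≤ H) : Op' 2 (H ⊓ 𝒞(R)) = ⊥ := by
  have hA := core_normal {2}ᶜ (H ⊓ 𝒞(R))
  have hV' := (piG_singleton Nat.prime_two).2 hV
  have h1 : Op' 2 (H ⊓ 𝒞(R)) ≤ 𝒞(V) := by
    refine Thompson_AxB Nat.prime_two hV hR (core_pi _ _) (hA.le.trans inf_le_right)
      (hA.le.trans (inf_le_left.trans hN.norm)) (hle.trans hN.norm) ?_
    refine cent_of_normal_of_inf (M := H ⊓ 𝒞(R)) ?_ hA
      ((hV'.of_le inf_le_left).inf_eq_bot (core_pi _ _))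
    have := hN.inf_right (inf_le_left (b := 𝒞(R)))
    rwa [← inf_assoc, inf_eq_left.2 hN.le] at this
  exact (hV'.of_le ((le_inf (hA.le.trans inf_le_left) h1).trans hc)).eq_bot (core_pi _ _)

theorem bal (hV : IsPGroup 2 V) (hVH : V ≤ H) (hn : H ≤ 𝒩(Op' 2 H ⊔ V))
    (hc : H ⊓ 𝒞(V) ≤ Op' 2 H ⊔ V) (hR : IsPGroup 2 R) (hle : R ≤ H) :
    Op' 2 (H ⊓ 𝒞(R)) ≤ Op' 2 H := by
  have hK := core_normal {2}ᶜ H
  have hq : quo (Op' 2 H) (Op' 2 H ⊔ V) = quo (Op' 2 H) V := quo_sup_ker (hVH.trans hK.norm)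
  have h1 := bal_aux (H := quo (Op' 2 H) H) (V := quo (Op' 2 H) V) (quo_pgroup hV)
    ⟨quo_mono _ hVH, hq ▸ quo_le_norm hn⟩ (by
      rw [coprime_subcent_quotient_pgroup Nat.prime_two hV (hVH.trans hK.norm)
        (cop2 (odd_Op' H) hV) hK.le, ← hq]
      exact quo_mono _ hc) (quo_pgroup hR) (quo_mono _ hle)
  rw [coprime_subcent_quotient_pgroup Nat.prime_two hR (hle.trans hK.norm)
    (cop2 (odd_Op' H) hR) hK.le] at h1
  exact (quo_eq_bot_iff ((core_le _ _).trans (inf_le_left.trans hK.norm))).1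
    (le_bot_iff.1 (h1 ▸ quo_core_le (inf_le_left.trans hK.norm)))

theorem le_O_sup (hV : IsPGroup 2 V) (hVH : V ≤ H) (hn : H ≤ 𝒩(Op' 2 H ⊔ V)) :
    H ≤ Op' 2 H ⊔ 𝒩(V) := by
  have h1 : SylIn 2 V (Op' 2 H ⊔ V) := by
    have h0 : SylIn 2 ⊥ (Op' 2 H) := sylIn_of_not_dvd_relIndex bot_le IsPGroup.of_bot (by
      rw [relIndex_bot_left, ← even_iff_two_dvd, Nat.not_even_iff_odd]; exact odd_Op' H)
    simpa using sylIn_sup h0 hV (hVH.trans (nO H)) (by rw [norm_bot]; exact le_top)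
  intro g hg
  obtain ⟨n, h2, h3⟩ := h1.frattini hn hg
  have : n ∈ Op' 2 H ⊔ 𝒩(V) := sup_le_sup_left le_normalizer _ h2
  simpa using mul_mem (inv_mem this) (mem_sup_right h3)

end Bal

end Cfsg.Agent.C2
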