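import Cfsg.Agent.Lib.C2.Nm
import Cfsg.Agent.Lib.C2.Ba

/-!
# S1170: part B, the action on a natural module
-/

set_option autoImplicit false
set_option linter.unusedSectionVars false
set_option linter.unusedVariables false

namespace Cfsg.Agent.C2

open Subgroup Cfsg.Agent.H6 Cfsg.Agent.FT Cfsg.Agent.BD.P1 Cfsg.Agent.G75 Cfsg.Agent.G74
open Cfsg.Agent.St (Od)
open scoped commutatorElement MatrixGroups Matrix

universe u

variable {G : Type*} [Group G] [Finite G] {T : Set G}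
variable {A B C D E H K L M N P Q R S U V W X Y W₁ W₂ : Subgroup G}
variable {a b c d e g h n r s t v w x y z : G}
variable {F : Type} [Field F] [Fintype F] [CharP F 2] {φ φ₁ φ₂ : G → SL(2, F)}
  {ψ ψ₁ ψ₂ : G → Fin 2 → F}

theorem conj_eq_of_cent1 (h : y ∈ 𝒞[b]) : y * b * y⁻¹ = b := by
  rw [mem_cent1.1 h, mul_inv_cancel_right]

theorem trOn_dich (h : TrOn P W B) (hP : P ≤ 𝒩(Y)) (hY : Y ≤ W) : Y ≤ B ∨ W ≤ Y ⊔ B := by
  refine or_iff_not_imp_left.2 fun h1 w hw => ?_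
  obtain ⟨y, hy, h2⟩ := SetLike.not_le_iff_exists.1 h1
  by_cases h3 : w ∈ B
  · exact mem_sup_right h3
  · obtain ⟨g, hg, e⟩ := h y (hY hy) h2 w hw h3
    have := mul_mem (mem_sup_left (conj_mem_of_mem_normalizer (hP hg) hy) : _ ∈ Y ⊔ B)
      (mem_sup_right e)
    rwa [mul_inv_cancel_left] at this

namespace Nm

theorem bb_ne (h : Nm F X V A φ ψ) (hb : b ∈ V) (h1 : b ∈ 𝒞(A)) (h2 : b ∉ 𝒞(X)) :
    ψ b 0 ≠ 0 ∧ ψ b 1 = 0 := by
  have e := (h.mem_cent_A hb).1 h1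
  refine ⟨fun e0 => h2 ((h.ψ_ker b hb).1 ?_), e⟩
  funext i
  fin_cases i
  · exact e0
  · exact e

theorem bb_line (h : Nm F X V A φ ψ) (hy : y ∈ 𝒩(X)) (hy' : y ∈ 𝒩(V)) (hb : b ∈ V)
    (h1 : b ∈ 𝒞(A)) (h2 : b ∉ 𝒞(X)) (h3 : y ∈ 𝒞[b]) : y ∈ 𝒩(V ⊓ 𝒞(A)) := by
  obtain ⟨m, ρ, hm, -⟩ := h.semi hy hy'
  obtain ⟨b0, b1⟩ := h.bb_ne hb h1 h2
  have e := congrFun (hm b hb) 1
  rw [conj_eq_of_cent1 h3] at e
  simp only [Matrix.mulVec, dotProduct, Fin.sum_univ_two, b1, map_zero, mul_zero, add_zero] at e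
  have m10 : m.1 1 0 = 0 := (mul_eq_zero.1 e.symm).resolve_right (by simpa using b0)
  refine mem_normalizer_of_conj_mem fun v hv => ?_
  have hv' := conj_mem_of_mem_normalizer hy' hv.1
  refine ⟨hv', (h.mem_cent_A hv').2 ?_⟩
  rw [hm v hv.1]
  simp [Matrix.mulVec, dotProduct, Fin.sum_univ_two, m10, (h.mem_cent_A hv.1).1 hv.2]

theorem bb_fix (h : Nm F X V A φ ψ) (hy : y ∈ 𝒩(X)) (hy' : y ∈ 𝒩(V))
    (h1 : y ∈ 𝒞(V ⊓ 𝒞(A))) (he : e ∈ V) (h2 : e ∉ 𝒞(A)) (h3 : y ∈ 𝒞[e]) : y ∈ 𝒞(V) := by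
  obtain ⟨m, ρ, hm, -⟩ := h.semi hy hy'
  have k : ∀ s : F, m.1 0 0 * ρ s = s ∧ m.1 1 0 * ρ s = 0 := fun s => by
    obtain ⟨v, hv, e⟩ := h.ψ_surj ![s, 0]
    have := hm v hv
    rw [conj_eq_of_cent1 (cent_le_cent1 (show v ∈ V ⊓ 𝒞(A) from
      ⟨hv, h.fix v hv (by simp [e])⟩) h1), e] at this
    have e0 := congrFun this 0
    have e1 := congrFun this 1
    simp [Matrix.mulVec, dotProduct, Fin.sum_univ_two, -mul_eq_zero, -zero_eq_mul] at e0 e1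
    exact ⟨e0.symm, e1.symm⟩
  have m00 : m.1 0 0 = 1 := by simpa using (k 1).1
  have m10 : m.1 1 0 = 0 := by simpa using (k 1).2
  have hρ : ∀ s, ρ s = s := fun s => by simpa [m00] using (k s).1
  have e1 : ψ e 1 ≠ 0 := fun e1 => h2 ((h.mem_cent_A he).2 e1)
  have := hm e he
  rw [conj_eq_of_cent1 h3] at this
  have e0 := congrFun this 0
  have e2 := congrFun this 1
  simp only [Matrix.mulVec, dotProduct, Fin.sum_univ_two, hρ, m00, m10] at e0 e2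
  have m01 : m.1 0 1 = 0 := (mul_eq_zero.1 (by linear_combination -e0)).resolve_right e1
  have m11 : m.1 1 1 = 1 := mul_right_cancel₀ e1 (by linear_combination -e2)
  refine h.hom_zero hy hy' (fun v hv => ?_)
    (cent_le_cent (inf_le_inf_left _ (cent_le_cent h.le)) h1)
  rw [hm v hv]
  funext i
  fin_cases i <;> simp [Matrix.mulVec, dotProduct, Fin.sum_univ_two, hρ, m00, m10, m01, m11]

theorem bb_comm (h : Nm F X V A φ ψ) (hy : y ∈ 𝒩(X)) (hy' : y ∈ 𝒩(V)) (hb : b ∈ V)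
    (h1 : b ∈ 𝒞(A)) (h2 : b ∉ 𝒞(X)) (h3 : y ∈ 𝒞[b])
    (h4 : ∀ v ∈ V, ∃ w ∈ V, y ∈ 𝒞[w] ∧ ψ w 1 = ψ v 1) : y ∈ 𝒞(⁅V, A⁆) := by
  obtain ⟨m, ρ, hm, hm'⟩ := h.semi hy hy'
  obtain ⟨b0, b1⟩ := h.bb_ne hb h1 h2
  have e := hm b hb
  rw [conj_eq_of_cent1 h3] at e
  have e0 := congrFun e 0
  have e1 := congrFun e 1
  simp only [Matrix.mulVec, dotProduct, Fin.sum_univ_two, b1, map_zero, mul_zero,
    add_zero] at e0 e1
  have m10 : m.1 1 0 = 0 := (mul_eq_zero.1 e1.symm).resolve_right (by simpa using b0)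
  have k : ∀ s : F, m.1 1 1 * ρ s = s := fun s => by
    obtain ⟨v, hv, e⟩ := h.ψ_surj ![0, s]
    obtain ⟨w, hw, a1, a2⟩ := h4 v hv
    have := congrFun (hm w hw) 1
    rw [conj_eq_of_cent1 a1] at this
    simp only [Matrix.mulVec, dotProduct, Fin.sum_univ_two, m10, a2, e] at this
    simpa using this.symm
  have m11 : m.1 1 1 = 1 := by simpa using k 1
  have hρ : ∀ s, ρ s = s := fun s => by simpa [m11] using k s
  have m00 : m.1 0 0 = 1 := mul_right_cancel₀ b0 (by rw [hρ] at e0; linear_combination -e0)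
  have k1 : ∀ a ∈ A, a⁻¹ * (y * a * y⁻¹) ∈ 𝒞(V) := fun a ha => by
    have ha' := conj_mem_of_mem_normalizer hy (h.le ha)
    have e2 : φ (y * a * y⁻¹) = φ a := by
      obtain ⟨c0, c1, c2⟩ := h.φ_A a ha
      have e3 : m.1 * (φ a).1.map ρ = (φ a).1 * m.1 := by
        ext i j
        fin_cases i <;> fin_cases j <;>
          simp [Matrix.mul_apply, Fin.sum_univ_two, hρ, m00, m10, m11, c0, c1, c2, add_comm]
      apply Subtype.ext
      rw [hm' a (h.le ha), e3, Matrix.mul_assoc, Units.mul_inv, Matrix.mul_one]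
    rw [← h.φ_ker _ (mul_mem (inv_mem (h.le ha)) ha'), h.φ_mul _ (inv_mem (h.le ha)) _ ha', e2,
      h.φ_inv (h.le ha), inv_mul_cancel]
  have k2 : ∀ v ∈ V, v⁻¹ * (y * v * y⁻¹) ∈ 𝒞(A) := fun v hv => by
    have hv' := conj_mem_of_mem_normalizer hy' hv
    rw [h.mem_cent_A (mul_mem (inv_mem hv) hv'), h.ψ_mul _ (inv_mem hv) _ hv', h.ψ_inv hv, hm v hv]
    simp [Matrix.mulVec, dotProduct, Fin.sum_univ_two, hρ, m10, m11, CharTwo.add_self_eq_zero]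
  refine le_cent1_iff.1 (commutator_le.2 fun v hv a ha => mem_cent1.2 ?_)
  have hv' := conj_mem_of_mem_normalizer hy' hv
  have f1 : y * a * y⁻¹ * (y * v * y⁻¹)⁻¹ * (y * a * y⁻¹)⁻¹ = a * (y * v * y⁻¹)⁻¹ * a⁻¹ := by
    have := mem_cent.1 (k1 a ha) _ (inv_mem hv')
    generalize y * a * y⁻¹ = a' at this ⊢
    generalize (y * v * y⁻¹)⁻¹ = v' at this ⊢
    calc a' * v' * a'⁻¹ = a * (a⁻¹ * a' * v') * a'⁻¹ := by group
      _ = _ := by rw [← this]; group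
  have f2 : y * v * y⁻¹ * (a * (y * v * y⁻¹)⁻¹ * a⁻¹) = v * (a * v⁻¹ * a⁻¹) := by
    have := mem_cent.1 (k2 v hv) _ ha
    generalize y * v * y⁻¹ = v' at this ⊢
    calc v' * (a * v'⁻¹ * a⁻¹) = v * (v⁻¹ * v' * a) * v'⁻¹ * a⁻¹ := by group
      _ = _ := by rw [← this]; group
  calc ⁅v, a⁆ * y = v * (a * v⁻¹ * a⁻¹) * y := by rw [commutatorElement_def]; group
    _ = _ := by rw [← f2, ← f1, commutatorElement_def]; group

theorem bb_le (h : Nm F X V A φ ψ) : ⁅V, A⁆ ≤ V ⊓ 𝒞(A) :=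
  le_inf (commutator_le_left (h.le.trans h.norm)) (h.restr_inf.ge.trans inf_le_right)

end Nm

theorem Cf.core (h : Cf H W B P) (n : Nm F X W A φ ψ) (hX : 𝒩(W) ≤ 𝒩(X)) (hA : A ≤ H)
    (hU : W ⊓ 𝒞(A) ≤ ⁅W, A⁆) (hb : b ∈ B) (h1 : b ∈ 𝒞(A)) (h2 : b ∉ 𝒞(X)) : False := by
  have hAW := n.le.trans n.norm
  have hPb : P ≤ 𝒞[b] := h.pb.trans (cent_le_cent1 hb)
  rcases trOn_dich h.tr (Y := W ⊓ 𝒞(A)) (fun g hg =>
    n.bb_line (hX (h.pw hg)) (h.pw hg) (h.le hb) h1 h2 (hPb hg)) inf_le_left with e | e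
  · have a1 : A ≤ 𝒩(B) := le_norm_of_commutator_le
      ((commutator_mono h.le le_rfl).trans (n.bb_le.trans e))
    have a2 : A ≤ 𝒩(⁅W, P⁆) := H1.le_normalizer_commutator hAW
      ((le_inf (le_inf hA hAW) a1).trans h.nm)
    have a3 : ⁅W, P⁆ ≤ W := commutator_le_left h.pw
    obtain ⟨q, hq, -, b2, b3⟩ := h.sz fun e1 => by
      have c1 : ⁅W, P⁆ ≤ 𝒞(A) := by
        rw [← FT.commutator_eq_bot_iff, ← le_bot_iff, ← e1]
        exact le_inf (commutator_le_left a2) ((commutator_mono a3 le_rfl).trans (n.bb_le.trans e))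
      have c2 : W ≤ B := (h.tr.le_sup h.four).trans (sup_le ((le_inf a3 c1).trans e) le_rfl)
      have := h.four
      rw [relIndex_eq_one.2 c2] at this
      omega
    obtain ⟨w, hw, b4⟩ := SetLike.not_le_iff_exists.1 b3
    exact b2 (n.bb_fix (hX (h.pw hq)) (h.pw hq) (cent_le_cent e (h.pb hq)) hw.1
      (fun c => b4 (e ⟨hw.1, c⟩)) (mem_cent1_comm.1 hw.2))
  · refine h.tr.not_le_cent h.four fun g hg => cent_le_cent e ?_
    rw [FT.cent_sup]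
    refine ⟨cent_le_cent hU (n.bb_comm (hX (h.pw hg)) (h.pw hg) (h.le hb) h1 h2 (hPb hg)
      fun v hv => ?_), h.pb hg⟩
    obtain ⟨u, hu, w, hw, rfl⟩ := NormalIn.exists_mul_of_mem_sup
      (h.le.trans (n.comm.trans ((cent_le_cent inf_le_left).trans cent_le_norm))) (e hv)
    refine ⟨w, h.le hw, cent_le_cent1 hw (h.pb hg), ?_⟩
    rw [n.ψ_mul _ hu.1 _ (h.le hw), Pi.add_apply, (n.mem_cent_A hu.1).1 hu.2, zero_add]

theorem Cf.core2 (h : Cf H W B P) (n : Nm F X W A φ ψ) (hX : 𝒩(W) ≤ 𝒩(X)) (hA : A ≤ H)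
    (hU : W ⊓ 𝒞(A) ≤ ⁅W, A⁆) (hB : B ≤ 𝒞(X)) (ht : t ∈ B) (h1 : t ≠ 1) : False := by
  have hAW := n.le.trans n.norm
  have hAB : A ≤ 𝒞(B) := n.le.trans (cent_comm.1 hB)
  rcases trOn_dich h.tr (Y := W ⊓ 𝒞(X)) (H1.le_normalizer_inf h.pw
    (h.pw.trans (hX.trans (normalIn_cent_norm X).norm))) inf_le_left with e | e
  · have a2 : A ≤ 𝒩(⁅W, P⁆) := H1.le_normalizer_commutator hAW
      ((le_inf (le_inf hA hAW) (hAB.trans cent_le_norm)).trans h.nm)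
    have a3 : ⁅W, P⁆ ≤ W := commutator_le_left h.pw
    have a4 : ⁅A, W⁆ ≤ ⁅W, P⁆ := (le_centMod_iff (M := ⊤).1 ((h.tr.le_sup h.four).trans (sup_le
      (le_centMod_iff.2 ⟨le_top, le_normalizer, commutator_le_right a2⟩)
      (le_centMod_iff.2 ⟨le_top, h.le.trans (n.comm.trans ((cent_le_cent a3).trans cent_le_norm)),
        by rw [FT.commutator_eq_bot_iff.2 hAB]; exact bot_le⟩)))).2.2
    rw [Subgroup.commutator_comm A] at a4
    obtain ⟨q, hq, b1, b2, -⟩ := h.sz fun e1 => h1 (mem_bot.1 (e1 ▸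
      (⟨a4 (hU ⟨h.le ht, cent_comm.1 hAB ht⟩), ht⟩ : t ∈ ⁅W, P⁆ ⊓ B)))
    refine b2 (n.hom_zero (hX (h.pw hq)) (h.pw hq) (fun v hv => ?_) (cent_le_cent e (h.pb hq)))
    have c1 := b1 (commutator_mem_commutator (inv_mem hv) (mem_zpowers q))
    have c2 : q * v * q⁻¹ = v * ⁅v⁻¹, q⁆ := by rw [commutatorElement_def]; group
    rw [c2, n.ψ_mul _ hv _ (h.le c1), (n.ψ_ker _ (h.le c1)).2 (hB c1), add_zero]
  · obtain ⟨v, hv, e1⟩ := n.ψ_surj ![1, 0]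
    have := (n.ψ_ker v hv).2 (sup_le inf_le_right hB (e hv))
    rw [e1] at this
    simpa using congrFun this 0

end Cfsg.Agent.C2
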