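import Cfsg.Agent.Lib.C2.R2a
import Cfsg.Agent.Lib.C2.Bb

/-!
# S1170: characteristic two type (part B) (see notes/C2.md)
-/

set_option autoImplicit false
set_option linter.unusedSectionVars false
set_option linter.unusedVariables false

namespace Cfsg.Agent.C2

open Subgroup Cfsg.Agent.H6 Cfsg.Agent.FT Cfsg.Agent.BD.P1 Cfsg.Agent.G75 Cfsg.Agent.G74
open Cfsg.Agent.St (Od)
open scoped commutatorElement MatrixGroups Matrix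

universe u

variable {G : Type*} [Group G] [Finite G] {T : Set G}
variable {A B C D E H K L M N P Q R S U V W X Y W₁ W₂ : Subgroup G}
variable {a b c d e g h n r s t v w x y z : G}
variable {F : Type} [Field F] [Fintype F] [CharP F 2] {φ φ₁ φ₂ : G → SL(2, F)}
  {ψ ψ₁ ψ₂ : G → Fin 2 → F}

theorem R2.bb_hU (h : R2 F T A W₁ W₂ φ₁ φ₂ ψ₁ ψ₂) : W₁ ⊓ 𝒞(A) ≤ ⁅W₁, A⁆ := by
  rw [h.z1, h.inf]
  exact commutator_mono le_rfl h.symm.le1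

theorem R2.bb_sq (h : R2 F T A W₁ W₂ φ₁ φ₂ ψ₁ ψ₂) (hv : v ∈ W₁) : v * v = 1 := by
  rw [← sq]; exact (elem_iff.1 h.n1.elem).2 v hv

theorem R2.bb_cent (h : R2 F T A W₁ W₂ φ₁ φ₂ ψ₁ ψ₂) (ht : t ∈ W₁ ⊓ W₂) : A ≤ 𝒞[t] :=
  le_cent1_iff.2 (h.z1.ge ht).2

theorem R3.bb_glob (h : R3 F T A W₁ W₂ φ₁ φ₂ ψ₁ ψ₂) (hP : P ≤ A) (hg : cj g P ≤ A) :
    (∀ x ∈ P, x * x = 1) ∨ cj g (P ⊓ W₁) ≤ W₁ := by
  refine h.toSA.alp le_top (R := fun P g => (∀ x ∈ P, x * x = 1) ∨ cj g (P ⊓ W₁) ≤ W₁)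
    (fun P P' g h1 h2 => h2.imp (fun e x hx => e x (h1 hx))
      fun e => (cj_mono g (inf_le_inf_right _ h1)).trans e) (fun P g g' h1 h2 => ?_)
    (fun P _ g hg => Or.inr (cj_le_iff.2 fun x hx => ?_))
    (fun g hg => Or.inr ((cj_mono g inf_le_right).trans (cj_eq_self_iff.2 (h.m1 hg.2)).le))
    (fun Q hQ g _ => Or.inl ?_) P hP g (mem_top g) hg
  · rcases h1 with h1 | h1
    · exact Or.inl h1
    rcases h2 with h2 | h2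
    · refine Or.inl fun x hx => ?_
      have := h2 _ (conj_mem_cj (g := g) hx)
      calc x * x = g⁻¹ * (g * x * g⁻¹ * (g * x * g⁻¹)) * g := by group
        _ = 1 := by rw [this]; group
    · rw [← cj_cj]
      exact Or.inr ((cj_mono g' (le_inf (cj_mono g inf_le_left) h1)).trans h2)
  · rw [conj_eq_of_cent1 (cent_le_cent1 hx.1 hg.2)]; exact hx.2
  · rcases h.ess Q hQ with rfl | rfl
    · exact fun x hx => h.toR2.bb_sq hx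
    · exact fun x hx => h.toR2.symm.bb_sq hx

theorem R3.bb_fus (h : R3 F T A W₁ W₂ φ₁ φ₂ ψ₁ ψ₂) (ht : t ∈ W₁ ⊓ W₂) (h2 : t ∉ 𝒞(XX T W₂)) :
    ∀ x ∈ W₁, ∀ g ∈ 𝒞[t], g * x * g⁻¹ ∈ A → g * x * g⁻¹ ∈ W₁ := by
  refine h.toSA.fus_of (h.toR2.bb_cent ht) h.toR2.le1 (inf_le_right.trans h.m1) fun Q hQ g hg => ?_
  rcases h.bb_glob hQ.lt.le ((cj_eq_self_iff.2 hg.2).le.trans hQ.lt.le) with e | e
  · rcases h.toR2.le_or hQ.lt.le e with e1 | e1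
    · rw [inf_eq_right.2 e1]; exact hg.2
    · obtain rfl : Q = W₂ := le_antisymm e1
        ((le_inf h.toR2.symm.le1 (h.n2.comm.trans (cent_le_cent e1))).trans hQ.cent)
      rw [inf_comm, ← h.toR2.symm.z1]
      exact h.n2.bb_line (norm_XX h.sc hg.2) hg.2 ht.2 (h.toR2.z1.ge ht).2 h2 hg.1
  · refine mem_normalizer_of_cj_le (le_inf ?_
      ((cj_mono g inf_le_right).trans (cj_eq_self_iff.2 hg.2).le))
    rwa [inf_comm]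

theorem R3.bb_norm (h : R3 F T A W₁ W₂ φ₁ φ₂ ψ₁ ψ₂) (ht : t ∈ W₁ ⊓ W₂) (h2 : t ∉ 𝒞(XX T W₂)) :
    𝒞[t] ≤ 𝒩(Op' 2 𝒞[t] ⊔ W₁) := by
  have hA := h.toR2.bb_cent ht
  refine (dich (h.syl.mono hA le_top) h.toR2.le1 (fun w hw => h.toR2.bb_sq hw)
    (h.bb_fus ht h2)).resolve_right ?_
  rintro ⟨B, P, hc⟩
  have htB : t ∈ B := hc.cen ⟨ht.1, le_cent1_iff.1 le_rfl⟩
  by_cases h1 : t ∈ 𝒞(XX T W₁)
  · by_cases hB : B ≤ 𝒞(XX T W₁)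
    · exact hc.core2 h.n1 (norm_XX h.sc) hA h.toR2.bb_hU hB htB fun e => h2 (e ▸ one_mem _)
    · obtain ⟨b, hb, h3⟩ := SetLike.not_le_iff_exists.1 hB
      obtain ⟨x, hx, h4⟩ := h.toR2.exists_conj (hc.le hb)
      have n := h.n1.cjj x⁻¹
      have e := cj_eq_self_iff.2 (inv_mem (h.n1.norm hx))
      rw [cj_eq_self_of_mem (inv_mem hx), e] at n
      refine hc.core n (norm_XX h.sc) (cj_le_of_mem (inv_mem (le_cent1_iff.2 h1 hx)) hA) ?_ hb ?_ h3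
      · have := cj_mono x⁻¹ h.toR2.bb_hU
        rwa [cj_inf, cj_commutator, cj_centralizer, e] at this
      · rw [← cj_centralizer, mem_cj, inv_inv]
        exact (h.toR2.z1.ge h4).2
  · exact hc.core h.n1 (norm_XX h.sc) hA h.toR2.bb_hU htB (h.toR2.z1.ge ht).2 h1

theorem R3.bb_loc (h : R3 F T A W₁ W₂ φ₁ φ₂ ψ₁ ψ₂) (ht : t ∈ W₁ ⊓ W₂) (h2 : t ∉ 𝒞(XX T W₂)) :
    𝒞[t] ≤ Op' 2 𝒞[t] ⊔ 𝒩(W₁) ∧ 𝒞(W₁) ≤ Op' 2 𝒞[t] ⊔ W₁ ∧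
      ∀ a ∈ 𝒞[t], a * a = 1 → Op' 2 (𝒞[t] ⊓ 𝒞[a]) ≤ Op' 2 𝒞[t] := by
  have hA := h.toR2.bb_cent ht
  have hW := h.toR2.le1.trans hA
  have h1 := h.bb_norm ht h2
  have h3 := cent_le_sup (h.syl.mono hA le_top) h.toR2.le1 h.c1 h1 h.toR2.norm1
  have h4 := elem_pgroup h.n1.elem
  refine ⟨le_O_sup h4 hW h1, (le_inf (cent_le_cent1 ht.1) le_rfl).trans h3, fun a ha a2 => ?_⟩
  rw [← cent_zpowers (x := a)]
  exact bal h4 hW h1 h3 (isPGroup_zpowers (k := 1) (by rw [pow_one, sq, a2])) (zpowers_le.2 ha)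

theorem R2.bb_or (h : R2 F T A W₁ W₂ φ₁ φ₂ ψ₁ ψ₂) (ht : t ∈ W₁ ⊓ W₂) (h1 : t ≠ 1) :
    t ∉ 𝒞(XX T W₂) ∨ t ∉ 𝒞(XX T W₁) := by
  by_contra e
  push Not at e
  exact h1 (mem_bot.1 (h.cc.le ⟨⟨ht.1, e.2⟩, e.1⟩))

theorem R3.bb_bal (h : R3 F T A W₁ W₂ φ₁ φ₂ ψ₁ ψ₂) (hb : b ∈ W₁) (h1 : b ≠ 1) (ha : a ∈ 𝒞[b])
    (h2 : a * a = 1) : Op' 2 𝒞[a] ⊓ 𝒞[b] ≤ Op' 2 𝒞[b] := by
  obtain ⟨x, -, hx⟩ := h.toR2.exists_conj hb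
  have k : ∀ a ∈ 𝒞[x * b * x⁻¹], a * a = 1 →
      Op' 2 (𝒞[x * b * x⁻¹] ⊓ 𝒞[a]) ≤ Op' 2 𝒞[x * b * x⁻¹] := by
    rcases h.toR2.bb_or hx (by simpa using h1) with e | e
    · exact (h.bb_loc hx e).2.2
    · exact (h.symm.bb_loc ⟨hx.2, hx.1⟩ e).2.2
  have k1 := k (x * a * x⁻¹) (by rw [← cj_centralizer_singleton]; exact conj_mem_cj ha)
    (by rw [show x * a * x⁻¹ * (x * a * x⁻¹) = x * (a * a) * x⁻¹ by group, h2]; group)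
  rw [← cj_le_cj_iff (g := x), cj_inf, W8.cj_O1, W8.cj_O1, cj_centralizer_singleton]
  exact (le_inf inf_le_left (le_inf inf_le_right (inf_le_left.trans (O_le _)))).trans
    ((core_inf_le inf_le_right).trans k1)

theorem R3.bb_four (h : R3 F T A W₁ W₂ φ₁ φ₂ ψ₁ ψ₂) :
    4 ≤ Nat.card (W₁ ⊓ W₂ : Subgroup G) ∧ 8 ≤ Nat.card W₁ := by
  have h1 := card_eq_relIndex_mul_inf 𝒞(XX T W₁) (W₁ ⊓ 𝒞(A))
  rw [h.n1.card_Z, h.toR2.z1] at h1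
  have h2 := card_eq_relIndex_mul_inf W₂ W₁
  rw [h.toR2.idx2, inf_comm] at h2
  have h3 : 0 < Nat.card (𝒞(XX T W₁) ⊓ (W₁ ⊓ W₂) : Subgroup G) := Nat.card_pos
  have h4 := h.four
  have h5 : 4 ≤ Nat.card (W₁ ⊓ W₂ : Subgroup G) := by nlinarith
  exact ⟨h5, by nlinarith⟩

theorem R3.bb_sig (h : R3 F T A W₁ W₂ φ₁ φ₂ ψ₁ ψ₂) :
    Odd (Nat.card (signalizerClosure (W₁ ⊓ W₂) fun a => Op' 2 𝒞[a])) ∧
      𝒩(W₁) ≤ 𝒩(signalizerClosure (W₁ ⊓ W₂) fun a => Op' 2 𝒞[a]) := by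
  have hc : ∀ a ∈ W₁, W₁ ≤ 𝒞[a] := fun a ha => h.n1.comm.trans (cent_le_cent1 ha)
  have hF : IsSignalizerFunctor 2 W₁ fun a => Op' 2 𝒞[a] := ⟨fun a _ _ => O_le _, fun a _ _ => by
    rw [← even_iff_two_dvd, Nat.not_even_iff_odd]; exact odd_Op' _,
    fun a ha _ b hb x hx => conj_mem_of_mem_normalizer (nO _ (hc a ha hb)) hx,
    fun a ha _ b hb h1 => h.bb_bal hb h1 (hc b hb ha) (h.toR2.bb_sq ha)⟩
  obtain ⟨h1, -⟩ := SF.two_complete W₁ h.n1.elem h.bb_four.2 _ hF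
  have e : (signalizerClosure (W₁ ⊓ W₂) fun a => Op' 2 𝒞[a]) =
      signalizerClosure W₁ fun a => Op' 2 𝒞[a] := le_antisymm
    (iSup_le fun a => W8.le_sigC (θ := fun a => Op' 2 𝒞[a]) a.2.1.1 a.2.2)
    (iSup_le fun a => SF.gen_of_four h.n1.elem inf_le_left h.bb_four.1 (core_pi _ _)
      ((hc a a.2.1).trans (nO _)) fun b hb h1 =>
        (h.bb_bal hb.1 h1 (hc b hb.1 a.2.1) (h.toR2.bb_sq a.2.1)).trans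
          (W8.le_sigC (θ := fun a => Op' 2 𝒞[a]) hb h1))
  rw [e]
  exact ⟨h1, fun g hg => W8.norm_sigC fun a ha h2 => ⟨_, conj_mem_of_mem_normalizer hg ha,
    by simpa using h2, (W8.cj_O1 g a).le⟩⟩

theorem R3.bb_O [IsSimpleGroup G] (h : R3 F T A W₁ W₂ φ₁ φ₂ ψ₁ ψ₂) (hse : ¬ SE G)
    (ht : t ∈ W₁ ⊓ W₂) (h1 : t ≠ 1) : Op' 2 𝒞[t] = ⊥ := by
  obtain ⟨a1, a2⟩ := h.bb_sig
  obtain ⟨-, a3⟩ := h.symm.bb_sig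
  rw [inf_comm W₂] at a3
  have hle : ∀ t ∈ W₁ ⊓ W₂, t ≠ 1 → Op' 2 𝒞[t] ≤
      signalizerClosure (W₁ ⊓ W₂) fun a => Op' 2 𝒞[a] := fun t ht h1 =>
    W8.le_sigC (θ := fun a => Op' 2 𝒞[a]) ht h1
  generalize (signalizerClosure (W₁ ⊓ W₂) fun a => Op' 2 𝒞[a]) = Ow at a1 a2 a3 hle
  have hA : A ≠ ⊥ := fun e => h1 (mem_bot.1 (e ▸ h.toR2.le1 ht.1))
  by_contra e
  have k1 : ∀ t ∈ W₁ ⊓ W₂, t ≠ 1 → 𝒞[t] ≤ 𝒩(Ow) := fun t ht h1 => by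
    rcases h.toR2.bb_or ht h1 with e | e
    · exact (h.bb_loc ht e).1.trans (sup_le ((hle t ht h1).trans le_normalizer) a2)
    · exact (h.symm.bb_loc ⟨ht.2, ht.1⟩ e).1.trans (sup_le ((hle t ht h1).trans le_normalizer) a3)
  have k2 : ∀ s x, x ∈ 𝒩(Ow) → s ≠ 1 → x * s * x⁻¹ ∈ W₁ ⊓ W₂ → 𝒞[s] ≤ 𝒩(Ow) :=
    fun s x hx hs h2 => by
      have := k1 _ h2 (by simpa using hs)
      rw [← cj_centralizer_singleton, cj_le_iff_le_cj, cj_eq_self_of_mem (inv_mem hx)] at this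
      exact this
  refine hse (ZD.se_of_closed h.syl hA ⟨le_rfl, fun _ _ _ h => h⟩
    (W8.norm_ne_top a1 (fun e1 => e (le_bot_iff.1 (e1 ▸ hle t ht h1))) h.syl.isPGroup hA)
    fun s hs h2 => ?_)
  have h3 := ne_one_of_orderOf_two h2
  rcases h.inv s hs (by rw [← sq, ← h2, pow_orderOf_eq_one]) with e1 | e1
  · obtain ⟨x, hx, h4⟩ := h.toR2.exists_conj e1
    exact k2 s x (a2 (XX_le hx)) h3 h4
  · obtain ⟨x, hx, h4⟩ := h.toR2.symm.exists_conj e1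
    exact k2 s x (a3 (XX_le hx)) h3 ⟨h4.2, h4.1⟩

theorem R3.bb_main [IsSimpleGroup G] (h : R3 F T A W₁ W₂ φ₁ φ₂ ψ₁ ψ₂) (hse : ¬ SE G) :
    𝒞(W₁) = W₁ ∧ ∀ t ∈ W₁ ⊓ W₂, t ∉ 𝒞(XX T W₂) → 𝒞[t] ≤ 𝒩(W₁) := by
  have k : ∀ t ∈ W₁ ⊓ W₂, t ∉ 𝒞(XX T W₂) → Op' 2 𝒞[t] = ⊥ := fun t ht h2 =>
    h.bb_O hse ht fun e => h2 (e ▸ one_mem _)
  refine ⟨le_antisymm ?_ h.n1.comm, fun t ht h2 => ?_⟩
  · obtain ⟨t, ht, e⟩ := h.n2.ψ_surj ![1, 0]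
    have h1 : t ∈ W₁ ⊓ W₂ := ⟨(h.toR2.symm.mem_U ht).2 (by simp [e]), ht⟩
    have h2 : t ∉ 𝒞(XX T W₂) := fun c => by
      have := (h.n2.ψ_ker t ht).2 c
      rw [e] at this
      simpa using congrFun this 0
    simpa [k t h1 h2] using (h.bb_loc h1 h2).2.1
  · simpa [k t ht h2] using (h.bb_loc ht h2).1

theorem R3.r4 [IsSimpleGroup G] (h : R3 F T A W₁ W₂ φ₁ φ₂ ψ₁ ψ₂) (hse : ¬ SE G) :
    R4 F T A W₁ W₂ φ₁ φ₂ ψ₁ ψ₂ :=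
  ⟨h, (h.bb_main hse).1, (h.symm.bb_main hse).1, (h.bb_main hse).2,
    fun t ht => (h.symm.bb_main hse).2 t ⟨ht.2, ht.1⟩⟩

end Cfsg.Agent.C2
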