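import Cfsg.Agent.Lib.C2.Defs

/-!
# S1170: strongly closed subgroups (see notes/C2.md)
-/

set_option autoImplicit false
set_option linter.unusedSectionVars false
set_option linter.unusedVariables false

namespace Cfsg.Agent.C2

open Subgroup Cfsg.Agent.H6 Cfsg.Agent.FT Cfsg.Agent.BD.P1 Cfsg.Agent.G75 Cfsg.Agent.G74
open Cfsg.Agent.St (Od)
open scoped commutatorElement MatrixGroups Matrix

universe u

variable {G : Type*} [Group G] [Finite G] {T : Set G}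
variable {A B C D E H K L M N P Q R S U V W X Y W₁ W₂ : Subgroup G}
variable {a b c d e g h n r s t v w x y z : G}

theorem SA.two (h : SA T A) : IsPGroup 2 A :=
  isPGroup_subgroup_iff.2 fun x hx => h.sc.two x (h.sub hx)
theorem pg_of_mem (h : SC T) (hx : x ∈ T) : IsPGroup 2 (zpowers x) :=
  let ⟨_, hk⟩ := h.two x hx
  isPGroup_zpowers hk
theorem SA.mem_of_two (h : SA T A) (hQ : IsPGroup 2 Q) (hA : A ≤ Q) (hx : x ∈ T) (h1 : x ∈ Q) :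
    x ∈ A := by
  by_contra h2
  obtain ⟨y, hy, h3, h4⟩ := exists_mem_normalizer_not_mem (P := A) (hQ.to_le (h.sc.sub_le hQ))
    (lt_of_le_not_ge (fun a ha => ⟨h.sub ha, hA ha⟩) fun e => h2 (e ⟨hx, h1⟩))
  exact h3 (h.max y hy.1 h4)
theorem SA.norm_le_norm (h : SA T A) (hQ : IsPGroup 2 Q) (hA : A ≤ Q) : 𝒩(Q) ≤ 𝒩(A) :=
  fun g hg => mem_normalizer_of_conj_mem fun x hx => h.mem_of_two hQ hA (h.sc.conj g x (h.sub hx))
    (conj_mem_of_mem_normalizer hg (hA hx))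
theorem SA.le_norm_of_two (h : SA T A) (hQ : IsPGroup 2 Q) (hA : A ≤ Q) : Q ≤ 𝒩(A) :=
  le_normalizer.trans (h.norm_le_norm hQ hA)
theorem SA.cjj (h : SA T A) (g : G) : SA T (cj g A) :=
  ⟨h.sc, h.sc.cjj h.sub g, fun x hx h1 => by
    rw [← cj_normalizer, mem_cj] at h1
    exact mem_cj.2 (h.max _ (by simpa using h.sc.conj g⁻¹ x hx) h1)⟩
theorem SB.cjj (h : SB T A) (g : G) : SB T (cj g A) :=
  ⟨h.toSA.cjj g, by rw [← cj_commutator, ← cj_centralizer]; exact cj_mono g h.cl⟩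
theorem SA.exists_cj_inf (h : SA T A) (hA : A ≤ 𝒩(L)) (hP : IsPGroup 2 P)
    (hT : (P : Set G) ⊆ T) (h1 : P ≤ L) : ∃ g ∈ L, cj g P ≤ A ⊓ L := by
  obtain ⟨S, hS, hAS⟩ := exists_sylIn_ge h.two (le_sup_right : A ≤ L ⊔ A)
  obtain ⟨l, hl, hle⟩ := (hS.inf_of_normal le_sup_left (sup_le le_normalizer hA)).exists_cj_le hP h1
  exact ⟨l, hl, fun y hy => ⟨h.mem_of_two hS.isPGroup hAS (h.sc.cjj hT l hy) (hle hy).1, (hle hy).2⟩⟩
theorem SA.exists_cj (h : SA T A) (hA : A ≤ H) (hP : IsPGroup 2 P) (hT : (P : Set G) ⊆ T)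
    (h1 : P ≤ H) : ∃ g ∈ H, cj g P ≤ A :=
  let ⟨g, hg, e⟩ := h.exists_cj_inf (hA.trans le_normalizer) hP hT h1
  ⟨g, hg, e.trans inf_le_left⟩
theorem SA.exists_conj (h : SA T A) (hA : A ≤ H) (hx : x ∈ T) (h1 : x ∈ H) :
    ∃ g ∈ H, g * x * g⁻¹ ∈ A :=
  let ⟨g, hg, e⟩ := h.exists_cj hA (pg_of_mem h.sc hx) (h.sc.zpowers hx) (zpowers_le.2 h1)
  ⟨g, hg, e (conj_mem_cj (mem_zpowers x))⟩
theorem SA.eq_of_le (h : SA T A) (h' : SA T B) (hP : IsPGroup 2 P) (h1 : A ≤ P)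
    (hn : P ≤ 𝒩(B)) : A = B :=
  have h2 := isPGroup_sup_of_le_normalizer hP h'.two hn
  le_antisymm (fun x hx => h'.max x (h.sub hx) (hn (h1 hx))) fun x hx =>
    h.mem_of_two h2 (h1.trans le_sup_left) (h'.sub hx) (mem_sup_right hx)
theorem SA.exists_cj_eq (h : SA T A) (h' : SA T B) (hA : A ≤ H) (hB : B ≤ H) :
    ∃ g ∈ H, cj g B = A :=
  let ⟨g, hg, e⟩ := h.exists_cj hA h'.two h'.sub hB
  ⟨g, hg, (h'.cjj g).eq_of_le h h.two e le_normalizer⟩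
theorem SA.eq_cls (h : SA T A) : T = cls A := Set.ext fun x =>
  ⟨fun hx => let ⟨g, _, e⟩ := h.exists_conj le_top hx (mem_top x); mem_cls.2 ⟨g, e⟩, fun hx => by
    obtain ⟨g, e⟩ := mem_cls.1 hx
    simpa [mul_assoc] using h.sc.conj g⁻¹ _ (h.sub e)⟩
theorem SA.closed (h : SA T A) (hS : IsPGroup 2 S) (hA : A ≤ S) : IsStronglyClosed A S :=
  ⟨hA, fun x hx g h1 => h.mem_of_two hS hA (h.sc.conj g x (h.sub hx)) h1⟩
theorem sa_of_closed (hS : SylIn 2 S ⊤) (h : IsStronglyClosed A S) : SA (cls A) A := by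
  obtain ⟨S, rfl⟩ := hS.exists_sylow
  have e : (sc_cls h).sub hS.isPGroup = A := le_antisymm
    (fun x hx => by simpa using cls_mem (g := 1) h hx.1 (by simpa using hx.2))
    fun x hx => ⟨mem_cls.2 ⟨1, by simpa using hx⟩, h.1 hx⟩
  refine ⟨sc_cls h, fun x hx => mem_cls.2 ⟨1, by simpa using hx⟩, fun x hx h1 => ?_⟩
  have := (sc_cls h).sub_max hS (isPGroup_sup_of_le_normalizer (pg_of_mem (sc_cls h) hx)
    (hS.isPGroup.to_le h.1) (zpowers_le.2 h1)) (e.le.trans le_sup_right) hx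
    (mem_sup_left (mem_zpowers x))
  rwa [e] at this
/-- A subgroup of `A` that is closed under fusion in `A`. -/
theorem SA.of_fus (h : SA T A) (hB : B ≤ A)
    (hf : ∀ x ∈ B, ∀ g, g * x * g⁻¹ ∈ A → g * x * g⁻¹ ∈ B) : SA (cls B) B := by
  obtain ⟨S, hS, h1⟩ := exists_sylIn_ge h.two (le_top : A ≤ ⊤)
  exact sa_of_closed hS ⟨hB.trans h1, fun x hx g hg =>
    hf x hx g ((h.closed hS.isPGroup h1).2 x (hB hx) g hg)⟩
theorem SA.za (h : SA T A) (h2 : ∀ a ∈ A, a * a = 1) : ZA T A :=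
  ⟨h.sc, fun x hx => by
    obtain ⟨g, -, e⟩ := h.exists_conj le_top hx (mem_top x)
    have := h2 _ e
    rwa [← pow_two, conj_pow, conj_eq_one_iff, pow_two] at this, h.sub, h.max⟩
theorem _root_.Cfsg.Agent.G74.ZA.sa (h : ZA T A) : SA T A := ⟨h.sc, h.sub, h.max⟩
theorem SA.comap {G' : Type*} [Group G'] [Finite G'] (h : SA T A) {f : G' →* G}
    (hf : Function.Injective f) (hA : A ≤ f.range) : SA (f ⁻¹' T) (A.comap f) := by
  refine ⟨h.sc.comap hf,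
    fun x hx => h.sub hx, fun x hx h1 => h.max _ hx (mem_normalizer_of_conj_mem fun a ha => ?_)⟩
  obtain ⟨a, rfl⟩ := hA ha
  simpa using conj_mem_of_mem_normalizer h1 (show a ∈ A.comap f from ha)
theorem SA.map {G' : Type*} [Group G'] [Finite G'] (h : SA T A) {f : G →* G'}
    (hf : Function.Surjective f) : SA (f '' T) (A.map f) := by
  refine ⟨h.sc.map hf, Set.image_mono h.sub, ?_⟩
  rintro _ ⟨x, hx, rfl⟩ h1
  obtain ⟨k, hk⟩ := h.sc.two x hx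
  have hQ : IsPGroup 2 (zpowers (f x) ⊔ A.map f : Subgroup G') := isPGroup_sup_of_le_normalizer
    (isPGroup_zpowers (k := k) (by rw [← map_pow, hk, map_one])) (h.two.map f) (zpowers_le.2 h1)
  obtain ⟨S, hS, h2⟩ := exists_sylIn_ge h.two
    (map_le_iff_le_comap.1 (le_sup_right : A.map f ≤ zpowers (f x) ⊔ A.map f))
  obtain ⟨m, hm, h3⟩ := hS.exists_conj_mem (x := x) (mem_sup_left (mem_zpowers (f x))) hk
  have h4 := mem_map_of_mem f (h.mem_of_two hS.isPGroup h2 (h.sc.conj m x hx) h3)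
  have h5 : f m ∈ 𝒩(A.map f) := sup_le (zpowers_le.2 h1) le_normalizer (mem_comap.1 hm)
  simpa [mul_assoc] using conj_mem_of_mem_normalizer' h5 h4
theorem SA.quo (h : SA T A) (hA : A ≤ 𝒩(K)) : SA (qT K T) (quo K A) := by
  have := (h.comap (𝒩(K)).subtype_injective (by rwa [range_subtype])).map (qmk_surjective K)
  have e : qT K T = qmk K '' ((𝒩(K)).subtype ⁻¹' T) := Set.ext fun z =>
    ⟨by rintro ⟨x, hx, rfl⟩; exact ⟨⟨x, hx.2⟩, hx.1, (coset_eq hx.2).symm⟩,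
      by rintro ⟨x, hx, rfl⟩; exact ⟨x, ⟨hx, x.2⟩, coset_eq x.2⟩⟩
  rw [e]; exact this
theorem SA.mem_inf (h : SA T A) (hA : A ≤ 𝒩(L)) (hx : x ∈ T) (h1 : x ∈ L) (h2 : x ∈ 𝒩(A ⊓ L)) :
    x ∈ A := by
  have hQ : IsPGroup 2 (zpowers x ⊔ (A ⊓ L) : Subgroup G) :=
    isPGroup_sup_of_le_normalizer (pg_of_mem h.sc hx) (h.two.to_le inf_le_left) (zpowers_le.2 h2)
  obtain ⟨l, -, hle⟩ := h.exists_cj_inf hA hQ
    (h.sc.subset hQ (h.sc.zpowers hx) fun y hy => h.sub hy.1) (sup_le (zpowers_le.2 h1) inf_le_right)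
  exact ((eq_of_le_of_card_le (le_sup_right : A ⊓ L ≤ _)
    (by rw [← card_cj l]; exact card_le_of_le hle)).ge (mem_sup_left (mem_zpowers x))).1
/-- Restriction to a subgroup normalized by `A`. -/
theorem SA.inf (h : SA T A) (hA : A ≤ 𝒩(L)) :
    SA (L.subtype ⁻¹' T) ((A ⊓ L).subgroupOf L) := by
  refine ⟨h.sc.comap L.subtype_injective, fun x hx => h.sub hx.1, fun x hx hn => ⟨?_, x.2⟩⟩
  have := le_normalizer_map L.subtype (mem_map_of_mem L.subtype hn)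
  rw [subgroupOf_map_subtype, inf_assoc, inf_idem] at this
  exact h.mem_inf hA hx x.2 this
theorem SA.frattini_inf (h : SA T A) (hA : A ≤ H) (hK : NormalIn K H) :
    H ≤ K ⊔ (H ⊓ 𝒩(A ⊓ K)) := by
  intro g hg
  obtain ⟨n, hn, h2⟩ := h.exists_cj_inf (P := cj g (A ⊓ K)) (hA.trans hK.norm)
    (isPGroup_cj g (h.two.to_le inf_le_left)) (h.sc.cjj (A := A ⊓ K) (fun y hy => h.sub hy.1) g)
    ((cj_mono g inf_le_right).trans (cj_eq_self_iff.2 (hK.norm hg)).le)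
  rw [cj_cj] at h2
  rw [← inv_mul_cancel_left n g]
  exact mul_mem_sup (inv_mem hn) ⟨H.mul_mem (hK.le hn) hg, mem_normalizer_of_cj_le h2⟩
theorem SA.frattini (h : SA T A) (hA : A ≤ K) (hK : NormalIn K H) : H ≤ K ⊔ (H ⊓ 𝒩(A)) := by
  have := h.frattini_inf (hA.trans hK.le) hK
  rwa [inf_eq_left.2 hA] at this
theorem SA.O_inf (h : SA T A) : Op' 2 H ⊓ A = ⊥ :=
  inf_eq_bot_of_coprime' (cop2 (odd_Op' H) h.two)
theorem SA.nc_le (h : SA T A) (hA : A ≤ H) (h1 : A ≤ M) (h2 : H ≤ 𝒩(M)) : Nc T H ≤ M :=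
  (closure_le _).2 fun x hx => by
    obtain ⟨g, hg, e⟩ := h.exists_conj hA hx.1 hx.2
    have := conj_mem_of_mem_normalizer' (h2 hg) (h1 e)
    rwa [show g⁻¹ * (g * x * g⁻¹) * g = x by group] at this
theorem Nc_Nc : Nc T (Nc T H) = Nc T H :=
  le_antisymm Nc_le (closure_mono fun _ a => ⟨a.1, subset_closure a⟩)
theorem SA.nc_le_Od (h : SA T A) (hA : A ≤ H) : Nc T H ≤ Od (Nc T H) ⊔ A := by
  have h1 := le_Nc h.sub hA
  obtain ⟨S, hS, h2⟩ := exists_sylIn_ge h.two h1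
  have h3 := St.Od_sup_syl (syl_iff_sylIn.2 hS)
  have := h.nc_le (M := Od (Nc T H) ⊔ A) h1 le_sup_right (h3.ge.trans (sup_le
    (le_sup_left.trans le_normalizer) (H1.le_normalizer_sup (hS.le.trans (St.Od_normal _).norm)
      (h.le_norm_of_two hS.isPGroup h2))))
  rwa [Nc_Nc] at this
theorem SA.le_Od_sup (h : SA T A) (hA : A ≤ H) : H ≤ Od (Nc T H) ⊔ (H ⊓ 𝒩(A)) :=
  (h.frattini (le_Nc h.sub hA) h.sc.normal_Nc).trans (sup_le ((h.nc_le_Od hA).trans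
    (sup_le_sup_left (le_inf hA le_normalizer) _)) le_sup_right)
theorem SA.pr (h : SA T A) {T' : Set G} (h' : SA T' B) (hc : A ≤ 𝒞(B)) (hd : A ⊓ B = ⊥) :
    Pr T T' := by
  obtain ⟨S, hS, h1⟩ := exists_sylIn_ge (isPGroup_sup_of_le_normalizer h.two h'.two
    (hc.trans cent_le_norm)) le_top
  obtain ⟨S, rfl⟩ := hS.exists_sylow
  rw [h.eq_cls, h'.eq_cls]
  exact pr_cls (h.closed hS.isPGroup (le_sup_left.trans h1))
    (h'.closed hS.isPGroup (le_sup_right.trans h1)) hc hd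

theorem mem_Zo : x ∈ Zo A ↔ x ∈ A ∧ x ∈ 𝒞(A) ∧ x * x = 1 := by
  refine ⟨fun hx => ?_, fun h => subset_closure ⟨⟨h.1, h.2.1⟩, by rw [pow_two, h.2.2]⟩⟩
  induction hx using closure_induction with
  | mem y hy => exact ⟨hy.1.1, hy.1.2, by rw [← pow_two, hy.2]⟩
  | one => exact ⟨one_mem _, one_mem _, mul_one 1⟩
  | mul y z _ _ a b => exact ⟨mul_mem a.1 b.1, mul_mem a.2.1 b.2.1, by
      rw [mul_assoc, ← mul_assoc z, mem_cent.1 a.2.1 z b.1, mul_assoc y, b.2.2, mul_one, a.2.2]⟩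
  | inv y _ a => exact ⟨inv_mem a.1, inv_mem a.2.1, by rw [← mul_inv_rev, a.2.2, inv_one]⟩
theorem Zo_le : Zo A ≤ A ⊓ 𝒞(A) := fun _ hx => ⟨(mem_Zo.1 hx).1, (mem_Zo.1 hx).2.1⟩
theorem cj_Zo (g : G) (A : Subgroup G) : cj g (Zo A) = Zo (cj g A) := by
  ext x
  rw [mem_cj, mem_Zo, mem_Zo, ← cj_centralizer, mem_cj, mem_cj,
    show g⁻¹ * x * g * (g⁻¹ * x * g) = g⁻¹ * (x * x) * g⁻¹⁻¹ by group, conj_eq_one_iff]
theorem SB.norm_of_cent (h : SB T A) (hQ : Q ≤ A) (hc : A ⊓ 𝒞(Q) ≤ Q) : A ≤ 𝒩(Q) :=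
  le_norm_of_commutator_le ((le_inf ((commutator_mono hQ le_rfl).trans (der_le A))
    (((commutator_mono hQ le_rfl).trans h.cl).trans (cent_le_cent hQ))).trans hc)
theorem Ess.norm (h : SB T A) (hQ : Ess H A Q) : A ≤ 𝒩(Q) := h.norm_of_cent hQ.lt.le hQ.cent
theorem cj_MM_le (g : G) (H A Q : Subgroup G) :
    cj g (MM H A Q) ≤ MM (cj g H) (cj g A) (cj g Q) := by
  refine cj_le_iff_le_cj.2 (sup_le (cj_le_iff_le_cj.1 ?_) (iSup₂_le fun R hR => cj_le_iff_le_cj.1 ?_))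
  · rw [cj_inf, cj_centralizer]; exact le_sup_left
  · rw [cj_inf, cj_inf, cj_normalizer, cj_normalizer]
    exact le_sup_of_le_right (le_iSup₂_of_le (cj g R) ⟨lt_of_le_not_ge (cj_mono g hR.1.le)
      fun e => hR.1.not_ge (cj_le_cj_iff.1 e), cj_mono g hR.2⟩ le_rfl)
theorem Ess.cjj (hQ : Ess H A Q) (g : G) : Ess (cj g H) (cj g A) (cj g Q) := by
  refine ⟨lt_of_le_not_ge (cj_mono g hQ.lt.le) fun e => hQ.lt.not_ge (cj_le_cj_iff.1 e), ?_,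
    fun e => hQ.nle ?_⟩
  · rw [← cj_centralizer, ← cj_inf]; exact cj_mono g hQ.cent
  · have := (cj_mono g⁻¹ e).trans (cj_MM_le _ _ _ _)
    rwa [← cj_normalizer, ← cj_inf, cj_inv_cj, cj_inv_cj, cj_inv_cj, cj_inv_cj] at this
theorem Ess.cj_top (hQ : Ess ⊤ A Q) (hg : g ∈ 𝒩(A)) : Ess ⊤ A (cj g Q) := by
  have := hQ.cjj g
  rwa [cj_eq_self_of_mem (mem_top g), cj_eq_self_iff.2 hg] at this
theorem cj_XX (h : SC T) (g : G) (Q : Subgroup G) : cj g (XX T Q) = XX T (cj g Q) := by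
  rw [XX, XX, h.cj_Nc, cj_normalizer]
theorem cj_VV_le (g : G) (A Q : Subgroup G) : cj g (VV A Q) ≤ VV (cj g A) (cj g Q) :=
  cj_le_iff_le_cj.2 (iSup₂_le fun n hn => cj_le_iff_le_cj.1 (le_iSup₂_of_le (g * n * g⁻¹)
    (by rw [← cj_normalizer]; exact conj_mem_cj hn) (by
      rw [← cj_Zo, cj_cj, cj_cj, inv_mul_cancel_right])))
theorem cj_VV (g : G) (A Q : Subgroup G) : cj g (VV A Q) = VV (cj g A) (cj g Q) := by
  refine le_antisymm (cj_VV_le _ _ _) ?_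
  have := cj_mono g (cj_VV_le g⁻¹ (cj g A) (cj g Q))
  rwa [cj_cj_inv, cj_inv_cj, cj_inv_cj] at this
theorem norm_XX (h : SC T) : 𝒩(Q) ≤ 𝒩(XX T Q) := h.normal_Nc.norm
theorem XX_le : XX T Q ≤ 𝒩(Q) := Nc_le
theorem norm_VV : 𝒩(Q) ≤ 𝒩(VV A Q) := fun g hg => mem_normalizer_of_cj_le
  (cj_le_iff_le_cj.2 (iSup₂_le fun n hn => cj_le_iff_le_cj.1 (le_iSup₂_of_le (g * n)
    (mul_mem hg hn) (by rw [cj_cj]))))
theorem Zo_le_VV : Zo A ≤ VV A Q := le_iSup₂_of_le 1 (one_mem _) (by rw [cj_one])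

/-- Alperin's fusion theorem relative to `A`. -/
theorem SA.alp (h : SA T A) (hA : A ≤ H) {R : Subgroup G → G → Prop}
    (mono : ∀ P P' g, P ≤ P' → R P' g → R P g)
    (mul : ∀ P g g', R P g → R (cj g P) g' → R P (g' * g))
    (cen : ∀ P ≤ A, ∀ g ∈ H ⊓ 𝒞(P), R P g) (top : ∀ g ∈ H ⊓ 𝒩(A), R A g)
    (ess : ∀ Q, Ess H A Q → ∀ g ∈ H ⊓ 𝒩(Q), R Q g) :
    ∀ P ≤ A, ∀ g ∈ H, cj g P ≤ A → R P g := by
  suffices ∀ n, ∀ P ≤ A, Nat.card A - Nat.card P = n → ∀ g ∈ H, cj g P ≤ A → R P g from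
    fun P hP => this _ P hP rfl
  intro n
  induction n using Nat.strong_induction_on with | _ n ih => ?_
  intro P hP hn g hg hg'
  have IH : ∀ P' ≤ A, Nat.card P < Nat.card P' → ∀ g ∈ H, cj g P' ≤ A → R P' g :=
    fun P' h1 h2 => ih _ (by have := card_le_of_le h1; omega) P' h1 rfl
  by_cases e : P = A
  · subst e; exact top g ⟨hg, mem_normalizer_of_cj_le hg'⟩
  have hlt : Nat.card P < Nat.card A := H1.card_lt_of_lt (lt_of_le_of_ne hP e)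
  obtain ⟨k, hk, hmax⟩ := Set.exists_max_image {k | k ∈ H ∧ cj k P ≤ A}
    (fun k => Nat.card (A ⊓ 𝒩(cj k P) : Subgroup G)) (Set.toFinite _) ⟨g, hg, hg'⟩
  obtain ⟨P0, hP0⟩ : ∃ P0, P0 = cj k P := ⟨_, rfl⟩
  simp only [← hP0] at hmax
  have hk2 : P0 ≤ A := hP0 ▸ hk.2
  have c0 : Nat.card P0 = Nat.card P := hP0 ▸ card_cj k P
  obtain ⟨S, hS, h1⟩ := exists_sylIn_ge (h.two.to_le inf_le_left)
    (inf_le_inf_right 𝒩(P0) hA)
  have hSA : ∀ x ∈ T, x ∈ S → x ∈ A := fun x hx hxS => by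
    obtain ⟨j, hj, h2⟩ := h.exists_cj hA (hS.isPGroup.to_le (h.sc.sub_le hS.isPGroup))
      (fun _ a => a.1) ((h.sc.sub_le _).trans (hS.le.trans inf_le_left))
    have h3 : A ⊓ 𝒩(P0) ≤ h.sc.sub hS.isPGroup := fun y hy => ⟨h.sub hy.1, h1 hy⟩
    have h4 := hmax (j * k) ⟨mul_mem hj hk.1, by
      rw [← cj_cj, ← hP0]; exact (cj_mono j ((le_inf hk2 le_normalizer).trans h3)).trans h2⟩
    rw [← cj_cj, ← hP0] at h4
    refine ((eq_of_le_of_card_le h3 (le_trans ?_ h4)).ge ⟨hx, hxS⟩).1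
    rw [← card_cj j]
    exact card_le_of_le (le_inf h2 (by
      rw [← cj_normalizer]; exact cj_mono j ((h.sc.sub_le _).trans (hS.le.trans inf_le_right))))
  have big : ∀ P1 ≤ A, Nat.card P1 = Nat.card P →
      Nat.card P < Nat.card (A ⊓ 𝒩(P1) : Subgroup G) := fun P1 a b => by
    obtain ⟨x, hx, h2, h3⟩ := exists_mem_normalizer_not_mem h.two
      (lt_of_le_of_ne a fun e => by rw [e] at b; omega)
    exact b ▸ H1.card_lt_of_lt (lt_of_le_not_ge (le_inf a le_normalizer) fun e => h2 (e ⟨hx, h3⟩))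
  have ext : ∀ j ∈ H, cj j P0 ≤ A → ∃ m ∈ H, cj m (cj j P0) = P0 ∧ R (cj j P0) m ∧ R P0 m⁻¹ :=
    fun j hj h2 => by
    obtain ⟨n, hn, h3⟩ := hS.exists_cj_le (Q := cj j⁻¹ (A ⊓ 𝒩(cj j P0)))
      (isPGroup_cj _ (h.two.to_le inf_le_left)) (le_inf (cj_le_of_mem (inv_mem hj)
        (inf_le_left.trans hA)) (by
          rw [cj_le_iff_le_cj, inv_inv, cj_normalizer]; exact inf_le_right))
    rw [cj_cj] at h3
    have h4 : cj (n * j⁻¹) (A ⊓ 𝒩(cj j P0)) ≤ A := fun y hy =>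
      hSA y (h.sc.cjj (A := A ⊓ 𝒩(cj j P0)) (fun _ a => h.sub a.1) _ hy) (h3 hy)
    have h5 : cj (n * j⁻¹) (cj j P0) = P0 := by
      rw [cj_cj, inv_mul_cancel_right, cj_eq_self_iff.2 hn.2]
    have h6 := big _ h2 (by rw [card_cj, c0])
    have h7 := H.mul_mem hn.1 (inv_mem hj)
    refine ⟨_, h7, h5, mono _ _ _ (le_inf h2 le_normalizer) (IH _ inf_le_left h6 _ h7 h4),
      mono _ _ _ (h5.ge.trans (cj_mono _ (le_inf h2 le_normalizer))) (IH _ h4 (by rwa [card_cj]) _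
        (inv_mem h7) (by rw [cj_inv_cj]; exact inf_le_left))⟩
  let J0 : Submonoid G :=
    { carrier := {n | n ∈ H ⊓ 𝒩(P0) ∧ R P0 n}
      one_mem' := ⟨one_mem _, cen _ hk2 _ (one_mem _)⟩
      mul_mem' := fun {a b} ha hb => ⟨mul_mem ha.1 hb.1, mul _ _ _ hb.2 (by
        rw [cj_eq_self_iff.2 hb.1.2]; exact ha.2)⟩ }
  let J : Subgroup G := { J0 with inv_mem' := fun h => H7.inv_mem_of_pow_mem (M := J0) h }
  have j1 : H ⊓ 𝒞(P0) ≤ J := fun x hx => ⟨⟨hx.1, cent_le_norm hx.2⟩, cen _ hk2 _ hx⟩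
  have j2 : ∀ R', P0 < R' → R' ≤ A → ∀ x ∈ H ⊓ 𝒩(P0), cj x R' ≤ A → x ∈ J := fun R' a b x hx c =>
    ⟨hx, mono _ _ _ a.le (IH _ b (c0 ▸ H1.card_lt_of_lt a) _ hx.1 c)⟩
  have hlt0 : P0 < A := lt_of_le_of_ne hk2 fun e => by rw [e] at c0; omega
  have nrm : H ⊓ 𝒩(P0) ≤ J := by
    by_cases h2 : A ⊓ 𝒞(P0) ≤ P0
    · by_cases h3 : H ⊓ 𝒩(P0) ≤ MM H A P0
      · exact h3.trans (sup_le j1 (iSup₂_le fun R' hR x hx =>
          j2 R' hR.1 hR.2 x hx.1 ((cj_eq_self_iff.2 hx.2).le.trans hR.2)))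
      · exact fun x hx => ⟨hx, ess _ ⟨hlt0, h2, h3⟩ x hx⟩
    intro x hx
    have nK : H ⊓ 𝒩(P0) ≤ 𝒩(P0 ⊔ H ⊓ 𝒞(P0)) := H1.le_normalizer_sup inf_le_right
      (H1.le_normalizer_inf (inf_le_left.trans le_normalizer)
        (H1.le_normalizer_centralizer inf_le_right))
    have h3 : P0 ⊔ A ⊓ 𝒞(P0) ≤ A := sup_le hk2 inf_le_left
    obtain ⟨c, hc, h4⟩ := (hS.inf_of_normal (sup_le (le_inf (hk2.trans hA) le_normalizer)
      (inf_le_inf_left _ cent_le_norm)) nK).exists_cj_le (isPGroup_cj x (h.two.to_le h3))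
      ((cj_mono x (sup_le_sup_left (inf_le_inf_right _ hA) _)).trans (cj_eq_self_iff.2 (nK hx)).le)
    have h5 : c ∈ J := sup_le (fun y hy => j2 A hlt0 le_rfl y ⟨hA (hk2 hy), le_normalizer hy⟩
      (cj_eq_self_of_mem (hk2 hy)).le) j1 hc
    rw [cj_cj] at h4
    exact (mul_mem_cancel_left h5).1 (j2 _ (left_lt_sup.2 h2) h3 _ (mul_mem h5.1 hx) fun y hy =>
      hSA y (h.sc.cjj (fun _ a => h.sub (h3 a)) _ hy) (h4 hy).1)
  have e1 : cj k⁻¹ P0 = P := by rw [hP0, cj_inv_cj]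
  have e2 : cj (g * k⁻¹) P0 = cj g P := by rw [← cj_cj, e1]
  obtain ⟨m1, a1, a2, a3, -⟩ := ext k⁻¹ (inv_mem hk.1) (e1 ▸ hP)
  obtain ⟨m2, b1, b2, -, b3⟩ := ext (g * k⁻¹) (mul_mem hg (inv_mem hk.1)) (e2 ▸ hg')
  rw [e1] at a2 a3
  rw [e2] at b2
  have h2 : m2 * g * m1⁻¹ ∈ H ⊓ 𝒩(P0) := Subgroup.mem_inf.2 ⟨H.mul_mem (H.mul_mem b1 hg) (H.inv_mem a1),
    cj_eq_self_iff.1 (by
      rw [← cj_cj, ← cj_cj]
      nth_rewrite 1 [← a2]
      rw [cj_inv_cj, b2])⟩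
  have := mul _ _ _ a3 (a2 ▸ mul _ _ _ (nrm h2).2 (by rw [cj_eq_self_iff.2 h2.2]; exact b3))
  rwa [show m2⁻¹ * (m2 * g * m1⁻¹) * m1 = g by group] at this
theorem SA.fus_of (h : SA T A) (hA : A ≤ H) (hB : B ≤ A) (h1 : H ⊓ 𝒩(A) ≤ 𝒩(B))
    (h2 : ∀ Q, Ess H A Q → H ⊓ 𝒩(Q) ≤ 𝒩(B ⊓ Q)) :
    ∀ x ∈ B, ∀ g ∈ H, g * x * g⁻¹ ∈ A → g * x * g⁻¹ ∈ B := fun x hx g hg h3 =>
  h.alp hA (R := fun P g => ∀ y ∈ B ⊓ P, g * y * g⁻¹ ∈ B)
    (fun P P' g a b y hy => b y ⟨hy.1, a hy.2⟩)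
    (fun P g g' a b y hy => by
      have := b _ ⟨a y hy, conj_mem_cj hy.2⟩
      rwa [show g' * (g * y * g⁻¹) * g'⁻¹ = g' * g * y * (g' * g)⁻¹ by group] at this)
    (fun P _ g a y hy => by rw [← mem_cent.1 a.2 y hy.2, mul_inv_cancel_right]; exact hy.1)
    (fun g a y hy => conj_mem_of_mem_normalizer (h1 a) hy.1)
    (fun Q a g b y hy => (conj_mem_of_mem_normalizer (h2 Q a b) hy).1)
    _ (zpowers_le.2 (hB hx)) g hg (cj_zpowers g x ▸ zpowers_le.2 h3) x ⟨hx, mem_zpowers x⟩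
theorem SB.sa_of (h : SB T A) (hB : B ≤ A) (h1 : 𝒩(A) ≤ 𝒩(B))
    (h2 : ∀ Q, Ess ⊤ A Q → Od (XX T Q) ≤ 𝒩(B ⊓ Q)) : SA (cls B) B :=
  h.of_fus hB fun x hx g => h.fus_of le_top hB (inf_le_right.trans h1) (fun Q hQ =>
    inf_le_right.trans ((h.le_Od_sup (hQ.norm h)).trans (sup_le (h2 Q hQ)
      (H1.le_normalizer_inf (inf_le_right.trans h1) inf_le_left)))) x hx g (mem_top g)

theorem nc_comm (h : SC T) (hP : IsPGroup 2 P) (hL : L ≤ 𝒩(P)) (hg : g ∈ Nc T L) (hy : y ∈ P) :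
    y⁻¹ * (g * y * g⁻¹) ∈ T := by
  have hn : ∀ {g}, g ∈ Nc T L → g ∈ 𝒩(P) := fun a => hL (Nc_le a)
  induction hg using closure_induction generalizing y with
  | mem t ht =>
    have hQ := isPGroup_sup_of_le_normalizer (pg_of_mem h ht.1) hP (zpowers_le.2 (hL ht.2))
    have a := mem_sup_left (S := zpowers t) (T := P) (mem_zpowers t)
    have b := mem_sup_right (S := zpowers t) hy
    have := h.mul _ hQ _ (h.conj y⁻¹ t ht.1) _ (h.inv ht.1)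
      (mul_mem (mul_mem (inv_mem b) a) (inv_mem (inv_mem b))) (inv_mem a)
    convert this using 1; group
  | one => simpa using h.one
  | mul a b ha hb i1 i2 =>
    have := h.mul _ hP _ (i1 hy) _ (h.conj a _ (i2 hy))
      (mul_mem (inv_mem hy) (conj_mem_of_mem_normalizer (hn ha) hy))
      (conj_mem_of_mem_normalizer (hn ha)
        (mul_mem (inv_mem hy) (conj_mem_of_mem_normalizer (hn hb) hy)))
    convert this using 1; group
  | inv a ha i =>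
    have := h.inv (i (conj_mem_of_mem_normalizer' (hn ha) hy))
    convert this using 1; group
theorem SA.lt_sup (h : SA T A) (hP : IsPGroup 2 P) (hn : P ≤ 𝒩(A)) (h1 : ¬ A ≤ P) :
    P < P ⊔ (A ⊓ 𝒩(P)) := by
  obtain ⟨x, hx, h2, h3⟩ := exists_mem_normalizer_not_mem
    (isPGroup_sup_of_le_normalizer hP h.two hn) (left_lt_sup.2 h1)
  obtain ⟨p, hp, a, ha, rfl⟩ := H2.exists_mul_of_mem_sup hn hx
  exact left_lt_sup.2 fun h4 => h2 (mul_mem hp (h4 ⟨ha,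
    (mul_mem_cancel_left (le_normalizer hp)).1 h3⟩))
theorem SA.exists_mod (hP : IsPGroup 2 P) (hH : P ≤ H) : ∀ A B, SA T A → SA T B → A ≤ H → B ≤ H →
    P ≤ 𝒩(A) → P ≤ 𝒩(B) → ∃ c ∈ H, cj c B = A ∧ ∀ x ∈ P, x⁻¹ * (c * x * c⁻¹) ∈ A := by
  induction P using WellFoundedGT.induction with | ind P ih =>
  intro A B h h' hA hB nA nB
  by_cases h1 : A ≤ P
  · exact ⟨1, one_mem _, by rw [cj_one, h.eq_of_le h' hP h1 nB], by simp⟩
  by_cases h2 : B ≤ P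
  · exact ⟨1, one_mem _, by rw [cj_one, h'.eq_of_le h hP h2 nA], by simp⟩
  obtain ⟨X, hX⟩ : ∃ X, X = Nc T (H ⊓ 𝒩(P)) := ⟨_, rfl⟩
  have nX : NormalIn X (H ⊓ 𝒩(P)) := hX ▸ h.sc.normal_Nc
  have hPH : P ≤ H ⊓ 𝒩(P) := le_inf hH le_normalizer
  have key : ∀ {A : Subgroup G}, SA T A → A ≤ H → P ≤ 𝒩(A) →
      IsPGroup 2 (P ⊔ A ⊓ 𝒩(P) : Subgroup G) ∧ P ⊔ A ⊓ 𝒩(P) ≤ X ⊔ P := fun h hA nA =>
    ⟨(isPGroup_sup_of_le_normalizer hP h.two nA).to_le (sup_le_sup_left inf_le_left _),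
      sup_le le_sup_right (le_sup_of_le_left (hX ▸ le_Nc (fun _ a => h.sub a.1)
        (inf_le_inf_right _ hA)))⟩
  obtain ⟨R, hR, hAR⟩ := exists_sylIn_ge (key h hA nA).1 (key h hA nA).2
  obtain ⟨k, hk, k4⟩ := hR.exists_cj_le (key h' hB nB).1 (key h' hB nB).2
  obtain ⟨c, hc, r, hr, rfl⟩ := (H1.mem_sup_of_le_normalizer (hPH.trans nX.norm)).1 hk
  rw [← cj_cj, cj_eq_self_of_mem (mem_sup_left hr), cj_sup, cj_eq_self_iff.2 (nX.le hc).2] at k4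
  obtain ⟨S', hS', k6⟩ := exists_sylIn_ge hR.isPGroup
    (hR.le.trans (sup_le (nX.le.trans inf_le_left) hH))
  obtain ⟨g, hg, k7⟩ := hS'.exists_cj_le h.two hA
  have k8 := (h.cjj g).le_norm_of_two hS'.isPGroup k7
  have l1 := hAR.trans k6
  have l2 := k4.trans k6
  have e1 : cj c P = P := cj_eq_self_iff.2 (nX.le hc).2
  obtain ⟨c1, m1, e2, f1⟩ := ih _ (h.lt_sup hP nA h1) (hS'.isPGroup.to_le l1) (l1.trans hS'.le) A _ h
    (h.cjj g) hA (k7.trans hS'.le) (sup_le nA (inf_le_left.trans le_normalizer)) (l1.trans k8)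
  obtain ⟨c2, m2, e3, f2⟩ := ih (P ⊔ cj c (B ⊓ 𝒩(P))) (left_lt_sup.2 fun a =>
    (h'.lt_sup hP nB h2).not_ge (sup_le le_rfl (cj_le_cj_iff.1 (a.trans e1.ge))))
    (hS'.isPGroup.to_le l2) (l2.trans hS'.le) _ _ (h.cjj g) (h'.cjj c) (k7.trans hS'.le)
    (cj_le_of_mem (nX.le hc).1 hB) (l2.trans k8) (sup_le (by
      rw [← cj_normalizer]; exact e1.ge.trans (cj_mono _ nB))
      ((cj_mono _ inf_le_left).trans le_normalizer))
  refine ⟨c1 * (c2 * c), mul_mem m1 (mul_mem m2 (nX.le hc).1), by rw [← cj_cj, ← cj_cj, e3, e2],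
    fun x hx => ?_⟩
  have a1 := conj_mem_of_mem_normalizer (nX.le hc).2 hx
  have a2 := (h.cjj g).mem_of_two hS'.isPGroup k7 (nc_comm h.sc hP inf_le_right (hX ▸ hc) hx)
    (l2 (mem_sup_left (mul_mem (inv_mem hx) a1)))
  have a3 := conj_mem_cj (g := c1) (mul_mem a2 (f2 _ (mem_sup_left a1)))
  rw [e2] at a3
  convert mul_mem (f1 x (mem_sup_left hx)) a3 using 1
  group
/-- Fusion modulo `A` is controlled by `N(A)`. -/
theorem SA.fusion (h : SA T A) (hS : SylIn 2 S H) (hA : A ≤ S) (hx : x ∈ S) (hg : g ∈ H)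
    (h1 : g * x * g⁻¹ ∈ S) : ∃ n ∈ H ⊓ 𝒩(A), (n * x * n⁻¹)⁻¹ * (g * x * g⁻¹) ∈ A := by
  have h2 := h.le_norm_of_two hS.isPGroup hA
  obtain ⟨c, hc, e, f⟩ := SA.exists_mod (hS.isPGroup.to_le (zpowers_le.2 hx))
    ((zpowers_le.2 hx).trans hS.le) A _ h (h.cjj g⁻¹) (hA.trans hS.le)
    (cj_le_of_mem (inv_mem hg) (hA.trans hS.le)) ((zpowers_le.2 hx).trans h2)
    (by rw [← cj_normalizer, zpowers_le, mem_cj, inv_inv]; exact h2 h1)
  rw [cj_cj, cj_eq_self_iff, ← inv_mem_iff, mul_inv_rev, inv_inv] at e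
  refine ⟨g * c⁻¹, ⟨H.mul_mem hg (H.inv_mem hc), e⟩, ?_⟩
  convert conj_mem_of_mem_normalizer e (f x (mem_zpowers x)) using 1
  group
theorem SA.idx (h : SA T A) (hA : A ≤ H) (h1 : A ≤ M) (hM : M ≤ Nc T H ⊓ 𝒩(A)) :
    M.relIndex (Nc T H ⊓ 𝒩(A)) ≠ 2 := by
  intro h2
  have hK := le_Nc h.sub hA
  obtain ⟨K, hK'⟩ : ∃ K, K = Nc T H := ⟨_, rfl⟩
  rw [← hK'] at hK hM h2
  obtain ⟨S, hS, h5⟩ := exists_sylIn_ge h.two hK
  have h3 := le_inf hS.le (h.le_norm_of_two hS.isPGroup h5)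
  have h4 : S ⊓ ⁅K, K⁆ ≤ M := by
    rw [focal_subgroup_gen Nat.prime_two (syl_iff_sylIn.2 hS), closure_le]
    rintro _ ⟨x, hx, u, hu, h5', rfl⟩
    obtain ⟨n, hn, e⟩ := h.fusion hS h5 hx hu h5'
    have := (mul_mem_iff_of_index_two (H := M.subgroupOf (K ⊓ 𝒩(A))) h2 (a := ⟨x, h3 hx⟩⁻¹)
      (b := ⟨n, hn⟩ * ⟨x, h3 hx⟩ * ⟨n, hn⟩⁻¹)).2 (by
        simp only [mul_mem_iff_of_index_two h2, inv_mem_iff]; tauto)
    have h6 := M.mul_mem (show x⁻¹ * (n * x * n⁻¹) ∈ M from this) (h1 e)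
    rwa [mul_assoc, mul_inv_cancel_left] at h6
  have h6 : K ≤ ⁅K, K⁆ ⊔ A := by
    have := h.nc_le (M := ⁅K, K⁆ ⊔ A) hK le_sup_right (le_norm_of_commutator_le
      ((commutator_mono (sup_le (der_le K) hK) le_rfl).trans le_sup_left))
    rwa [hK', Nc_Nc, ← hK'] at this
  exact (hS.mono h3 inf_le_left).not_dvd_relIndex (h2 ▸ relIndex_dvd_of_le_left _
    ((dedek (hK.trans (NormalIn.der K).norm) h5 (hS.le.trans h6)).trans (sup_le h4 h1)))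
theorem SA.nc_top [IsSimpleGroup G] (h : SA T A) (h1 : A ≠ ⊥) : Nc T ⊤ = ⊤ :=
  (h.sc.normal_Nc (H := ⊤)).normal.eq_bot_or_eq_top.resolve_left fun e =>
    h1 (eq_bot_iff.2 (e ▸ le_Nc h.sub le_top))

end Cfsg.Agent.C2
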