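import Cfsg.Agent.Lib.C2.C1a

/-!
# S1170: type `L₃`: the projective plane of points and lines (part C1) (see notes/C2.md)
-/

set_option autoImplicit false
set_option linter.unusedSectionVars false
set_option linter.unusedVariables false

namespace Cfsg.Agent.C2

open Subgroup Cfsg.Agent.H6 Cfsg.Agent.FT Cfsg.Agent.BD.P1 Cfsg.Agent.G75 Cfsg.Agent.G74
open Cfsg.Agent.St (Od)
open scoped commutatorElement MatrixGroups Matrix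

variable {G : Type*} [Group G] [Finite G] {T : Set G}
variable {A W W₁ W₂ p p' l l' m o : Subgroup G}
variable {a b c d e g n r s t v w x y z : G}
variable {F : Type} [Field F] [Fintype F] [CharP F 2] {φ φ₁ φ₂ : G → SL(2, F)}
  {ψ ψ₁ ψ₂ : G → Fin 2 → F}

namespace Pg

open Col

/-- `p` is a conjugate of `W`. -/
def Cl (W p : Subgroup G) : Prop := ∃ g, cj g W = p

/-- `p` and `l` meet. -/
def In (p l : Subgroup G) : Prop := ∃ t, t ≠ 1 ∧ t ∈ p ∧ t ∈ l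

theorem Cl.self (W : Subgroup G) : Cl W W := ⟨1, cj_one W⟩

theorem Cl.cjj (h : Cl W p) (g : G) : Cl W (cj g p) := by
  obtain ⟨k, rfl⟩ := h
  exact ⟨g * k, (cj_cj _ _ _).symm⟩

theorem In.symm (h : In p l) : In l p := by
  obtain ⟨t, h1, h2, h3⟩ := h
  exact ⟨t, h1, h3, h2⟩

theorem In.cjj (h : In p l) (g : G) : In (cj g p) (cj g l) := by
  obtain ⟨t, h1, h2, h3⟩ := h
  exact ⟨g * t * g⁻¹, fun e => h1 (conj_eq_one_iff.1 e), conj_mem_cj h2, conj_mem_cj h3⟩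

theorem in_cj_iff (g : G) : In (cj g p) (cj g l) ↔ In p l :=
  ⟨fun h => by simpa only [cj_inv_cj] using h.cjj g⁻¹, fun h => h.cjj g⟩

theorem in_iff : In p l ↔ p ⊓ l ≠ ⊥ := by
  rw [ne_bot_iff_exists_ne_one]
  exact ⟨fun ⟨t, h1, h2, h3⟩ => ⟨⟨t, h2, h3⟩, fun e => h1 (congrArg Subtype.val e)⟩,
    fun ⟨⟨t, h2, h3⟩, h1⟩ => ⟨t, fun e => h1 (Subtype.ext e), h2, h3⟩⟩

theorem cj_cj_conj (k t : G) (p : Subgroup G) : cj (k * t * k⁻¹) (cj k p) = cj k (cj t p) := by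
  rw [cj_cj, cj_cj, inv_mul_cancel_right]

theorem det_iff {α β a b v0 v1 w0 w1 : F} (hd : a * β - b * α = 1) (hv : ¬ (v0 = 0 ∧ v1 = 0))
    (h : α * v0 + β * v1 = 0) : α * w0 + β * w1 = 0 ↔ v0 * w1 = v1 * w0 := by
  constructor
  · intro h'
    linear_combination (v1 * w0 - v0 * w1) * hd + a * v0 * h' - a * w0 * h - b * w1 * h +
      b * v1 * h'
  · intro h'
    by_contra hn
    refine hv ⟨?_, ?_⟩ <;> apply mul_left_cancel₀ hn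
    · linear_combination w0 * h + β * h'
    · linear_combination w1 * h - α * h'

variable (h : R4 F T A W₁ W₂ φ₁ φ₂ ψ₁ ψ₂) (h1 : W₁ ⊓ 𝒞(XX T W₁) = ⊥)
  (h2 : W₂ ⊓ 𝒞(XX T W₂) = ⊥)
include h

theorem sq (hp : Cl W₁ p) (ha : a ∈ p) : a * a = 1 := by
  obtain ⟨g, rfl⟩ := hp
  exact sq_cj h.n1 ha

theorem comm (hp : Cl W₁ p) : p ≤ 𝒞(p) := by
  obtain ⟨g, rfl⟩ := hp
  exact (h.n1.cjj g).comm

theorem ex_pt (ht : t * t = 1) : ∃ p, Cl W₁ p ∧ t ∈ p := by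
  obtain ⟨k, hk⟩ := move h ht
  exact ⟨cj k⁻¹ W₁, ⟨_, rfl⟩, mem_cj.2 (by rw [inv_inv]; exact hk.1)⟩

include h1 h2

theorem uq (hp : Cl W₁ p) (hp' : Cl W₁ p') (ha1 : a ≠ 1) (ha : a ∈ p) (ha' : a ∈ p') : p = p' := by
  obtain ⟨g, rfl⟩ := hp
  obtain ⟨g', rfl⟩ := hp'
  exact uniq h h1 h2 ha' ha1 ha

theorem flag (hp : Cl W₁ p) (hl : Cl W₂ l) (hi : In p l) : ∃ k, cj k W₁ = p ∧ cj k W₂ = l := by
  obtain ⟨t, t1, tp, tl⟩ := hi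
  obtain ⟨k, hk⟩ := move h (sq h hp tp)
  exact ⟨k⁻¹, uq h h1 h2 ⟨_, rfl⟩ hp t1 (mem_cj.2 (by rw [inv_inv]; exact hk.1)) tp,
    uq h.symm h2 h1 ⟨_, rfl⟩ hl t1 (mem_cj.2 (by rw [inv_inv]; exact hk.2)) tl⟩

theorem fix_of_in (hp : Cl W₁ p) (hl : Cl W₂ l) (hi : In p l) (ht : t ∈ l) : cj t p = p := by
  obtain ⟨k, rfl, rfl⟩ := flag h h1 h2 hp hl hi
  rw [cj_eq_self_iff, ← cj_normalizer]
  exact cj_mono k (h.toR2.le2.trans h.toR2.norm1) ht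

theorem in_of_fix (hp : Cl W₁ p) (hl : Cl W₂ l) (ht : t ∈ l) (ht1 : t ≠ 1) (hf : cj t p = p) :
    In p l := by
  have ht2 := sq h.symm hl ht
  have hp0 : p ≠ ⊥ := by
    obtain ⟨g, rfl⟩ := hp
    intro e
    exact h.toR2.ne (by rw [cj_eq_bot_iff.1 e]; exact bot_le)
  obtain ⟨a, ha, a1, hc⟩ := fix_elem (comm h hp) (fun v hv => sq h hp hv) hp0
    (cj_eq_self_iff.1 hf) ht2
  obtain ⟨k, hk⟩ := move h ht2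
  have hk1 : k * t * k⁻¹ ≠ 1 := fun e => ht1 (conj_eq_one_iff.1 e)
  have ha3 : k * a * k⁻¹ * (k * a * k⁻¹) = 1 := by rw [conj_mul, sq h hp ha]; group
  have hA : k * a * k⁻¹ ∈ A := two_mem h (centN h h1 h2 hk hk1
    (mem_centralizer_singleton_iff.2 (by rw [conj_mul, conj_mul, hc]))) ha3
  have e : cj k l = W₂ := uq h.symm h2 h1 (hl.cjj k) (Cl.self _) hk1 (conj_mem_cj ht) hk.2
  rw [← in_cj_iff k, e]
  have ha1 : k * a * k⁻¹ ≠ 1 := fun e => a1 (conj_eq_one_iff.1 e)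
  rcases h.inv _ hA ha3 with h3 | h3
  · rw [uq h h1 h2 (hp.cjj k) (Cl.self _) ha1 (conj_mem_cj ha) h3]
    exact ⟨_, hk1, hk.1, hk.2⟩
  · exact ⟨_, ha1, conj_mem_cj ha, h3⟩

theorem stab0 (hp : Cl W₁ p) (hi : In p W₂) (hne : p ≠ W₁) (ha : a ∈ W₁) (hf : cj a p = p) :
    a ∈ W₂ := by
  have haA := h.toR2.le1 ha
  obtain ⟨b, hb, b1, hc⟩ := fix_elem (V := p ⊓ W₂) (z := a)
    (inf_le_right.trans (h.n2.comm.trans (cent_le_cent inf_le_right)))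
    (fun v hv => h.n2.sq hv.2) (in_iff.1 hi)
    (cj_eq_self_iff.1 (by rw [cj_inf, hf, cj_eq_self_iff.2 (h.toR2.symm.norm1 haA)]))
    (h.n1.sq ha)
  by_contra hn
  have e1 := h.n2.cent_of haA (by rwa [h.s2]) hb.2 (mem_cent1.2 hc)
  have e2 : b ∈ W₂ ⊓ W₁ := h.toR2.symm.z1 ▸ ⟨hb.2, e1⟩
  exact hne (uq h h1 h2 hp (Cl.self _) b1 hb.1 e2.2)

theorem line_uq (hp : Cl W₁ p) (hp' : Cl W₁ p') (hne : p ≠ p') (hl : Cl W₂ l) (hl' : Cl W₂ l')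
    (i1 : In p l) (i2 : In p' l) (i3 : In p l') (i4 : In p' l') : l = l' := by
  obtain ⟨s, s1, sp, sl⟩ := i3
  have hf := fix_of_in h h1 h2 hp' hl' i4 sl
  obtain ⟨k, rfl, rfl⟩ := flag h h1 h2 hp hl i1
  have := stab0 h h1 h2 (hp'.cjj k⁻¹) (by simpa only [cj_inv_cj] using i2.cjj k⁻¹)
    (fun e => hne (by rw [← e, cj_cj_inv])) (mem_cj.1 sp)
    (by rw [cj_cj, mul_inv_cancel_right, ← cj_cj, hf])
  exact uq h.symm h2 h1 hl hl' s1 (mem_cj.2 this) sl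

theorem line_ex (hp : Cl W₁ p) (hp' : Cl W₁ p') : ∃ l, Cl W₂ l ∧ In p l ∧ In p' l := by
  obtain ⟨g, rfl⟩ := hp
  obtain ⟨g', rfl⟩ := hp'
  obtain ⟨k, k1, k2⟩ := h.col h1 h2 (g⁻¹ * g')
  refine ⟨cj g (cj k W₂), (Cl.cjj ⟨k, rfl⟩ g), (in_iff.2 k1).cjj g, ?_⟩
  have := (in_iff.2 k2).cjj g
  rwa [cj_cj, mul_inv_cancel_left] at this

omit h1 in
theorem ψ_ne (hv : v ∈ W₂) (hv1 : v ≠ 1) : ¬ (ψ₂ v 0 = 0 ∧ ψ₂ v 1 = 0) := fun e =>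
  hv1 (ψ_inj h.symm h2 hv (one_mem _) (by rw [h.n2.ψ_one]; exact vec_ext e.1 e.2))

theorem lin (hp : Cl W₁ p) (hvp : v ∈ p) (hv : v ∈ W₂) (hv1 : v ≠ 1) (hw : w ∈ W₂) :
    w ∈ p ↔ ψ₂ v 0 * ψ₂ w 1 = ψ₂ v 1 * ψ₂ w 0 := by
  obtain ⟨x, hx, hxv⟩ := h.toR2.symm.exists_conj hv
  have e : cj x p = W₁ := uq h h1 h2 (hp.cjj x) (Cl.self _) (fun e => hv1 (conj_eq_one_iff.1 e))
    (conj_mem_cj hvp) hxv.2
  have e1 : ∀ u ∈ W₂, u ∈ p ↔ φ₂ x 1 0 * ψ₂ u 0 + φ₂ x 1 1 * ψ₂ u 1 = 0 := fun u hu => by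
    rw [← conj_mem_cj_iff (g := x), e, h.toR2.symm.mem_U (h.n2.cj_mem hx hu), h.n2.act x hx u hu,
      sl_vec]
  rw [e1 w hw]
  exact det_iff (sl_det _) (ψ_ne h h2 hv hv1) ((e1 v hv).1 hvp)

theorem trans0 (hp : Cl W₁ p) (hp' : Cl W₁ p') (i1 : In p W₂) (i2 : In p' W₂) (n1 : p ≠ W₁)
    (n2 : p' ≠ W₁) : ∃ a ∈ W₁, cj a p = p' := by
  obtain ⟨v, v1, vp, hv⟩ := i1
  obtain ⟨w, w1, wp, hw⟩ := i2
  have e1 : ψ₂ v 1 ≠ 0 := fun e =>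
    n1 (uq h h1 h2 hp (Cl.self _) v1 vp ((h.toR2.symm.mem_U hv).2 e))
  have e2 : ψ₂ w 1 ≠ 0 := fun e =>
    n2 (uq h h1 h2 hp' (Cl.self _) w1 wp ((h.toR2.symm.mem_U hw).2 e))
  obtain ⟨a0, ha0, hs⟩ := h.n2.A_surj ((ψ₂ w 0 * ψ₂ v 1 - ψ₂ w 1 * ψ₂ v 0) / (ψ₂ w 1 * ψ₂ v 1))
  obtain ⟨a, ha, b, hb, rfl⟩ := (H1.mem_sup_of_le_normalizer'
    (h.toR2.le1.trans h.toR2.symm.norm1)).1 (h.sup ▸ ha0 : a0 ∈ W₁ ⊔ W₂)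
  have haA := h.toR2.le1 ha
  rw [h.n2.φ_add haA (h.toR2.le2 hb), (h.toR2.symm.mem_W (h.toR2.le2 hb)).1 hb, add_zero] at hs
  refine ⟨a, ha, uq h h1 h2 (hp.cjj a) hp' (fun e => v1 (conj_eq_one_iff.1 e))
    (conj_mem_cj vp) ?_⟩
  obtain ⟨f1, f2, f3⟩ := h.n2.φ_A a haA
  rw [lin h h1 h2 hp' wp hw w1 (h.n2.cj_mem (h.n2.le haA) hv), h.n2.act a (h.n2.le haA) v hv,
    sl_vec, sl_vec, f1, f2, f3, hs]
  field_simp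
  ring

theorem dec0 (hp : Cl W₁ p) (hp' : Cl W₁ p') (i1 : In p W₂) (i2 : In p' W₂) (hne : p ≠ p')
    (ha : a ∈ W₂) : ∃ t ∈ p, ∃ b ∈ p', a = t * b := by
  obtain ⟨v, v1, vp, hv⟩ := i1
  obtain ⟨w, w1, wp, hw⟩ := i2
  have hd : ψ₂ v 0 * ψ₂ w 1 - ψ₂ v 1 * ψ₂ w 0 ≠ 0 := fun e =>
    hne (uq h h1 h2 hp hp' w1 ((lin h h1 h2 hp vp hv v1 hw).2 (sub_eq_zero.1 e)) wp)
  obtain ⟨t, ht, e1⟩ := h.n2.ψ_surj (((ψ₂ a 0 * ψ₂ w 1 - ψ₂ a 1 * ψ₂ w 0) /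
    (ψ₂ v 0 * ψ₂ w 1 - ψ₂ v 1 * ψ₂ w 0)) • ψ₂ v)
  obtain ⟨b, hb, e2⟩ := h.n2.ψ_surj (((ψ₂ v 0 * ψ₂ a 1 - ψ₂ v 1 * ψ₂ a 0) /
    (ψ₂ v 0 * ψ₂ w 1 - ψ₂ v 1 * ψ₂ w 0)) • ψ₂ w)
  refine ⟨t, (lin h h1 h2 hp vp hv v1 ht).2 ?_, b, (lin h h1 h2 hp' wp hw w1 hb).2 ?_,
    ψ_inj h.symm h2 ha (mul_mem ht hb) ?_⟩
  · rw [e1]; simp only [Pi.smul_apply, smul_eq_mul]; ring
  · rw [e2]; simp only [Pi.smul_apply, smul_eq_mul]; ring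
  · rw [h.n2.ψ_mul t ht b hb, e1, e2]
    refine vec_ext ?_ ?_ <;> simp only [Pi.add_apply, Pi.smul_apply, smul_eq_mul] <;>
      rw [div_mul_eq_mul_div, div_mul_eq_mul_div, ← add_div, eq_div_iff hd] <;> ring

theorem two_pts (hl : Cl W₂ l) : ∃ p p', Cl W₁ p ∧ Cl W₁ p' ∧ p ≠ p' ∧ In p l ∧ In p' l := by
  obtain ⟨k, rfl⟩ := hl
  obtain ⟨v, hv, hv'⟩ := SetLike.not_le_iff_exists.1 h.toR2.symm.ne
  obtain ⟨p, hp, vp⟩ := ex_pt h (h.n2.sq hv)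
  obtain ⟨w, hw, hw'⟩ := h.n2.ψ_surj ![1, 0]
  refine ⟨cj k p, cj k W₁, hp.cjj k, ⟨k, rfl⟩, fun e => hv' (cj_injective k e ▸ vp),
    In.cjj ⟨v, fun e => hv' (e ▸ one_mem _), vp, hv⟩ k,
    In.cjj ⟨w, fun e => ?_, (h.toR2.symm.mem_U hw).2 (by rw [hw']; rfl), hw⟩ k⟩
  rw [e, h.n2.ψ_one] at hw'
  simpa using congrFun hw' 0

theorem ex_off (hl : Cl W₂ l) (hm : Cl W₂ m) (hne : m ≠ l) : ∃ p, Cl W₁ p ∧ In p m ∧ ¬ In p l := by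
  obtain ⟨p, p', hp, hp', n1, i1, i2⟩ := two_pts h h1 h2 hm
  by_contra hn
  push Not at hn
  exact hne (line_uq h h1 h2 hp hp' n1 hm hl i1 i2 (hn p hp i1) (hn p' hp' i2))

theorem ex_off' : ∃ p, Cl W₁ p ∧ ¬ In p W₂ := by
  obtain ⟨l, l', hl, hl', n1, -, -⟩ := two_pts h.symm h2 h1 (Cl.self _)
  by_cases e : l = W₂
  · obtain ⟨p, hp, -, hi⟩ := ex_off h h1 h2 (Cl.self _) hl' (fun e' => n1 (e.trans e'.symm))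
    exact ⟨p, hp, hi⟩
  · obtain ⟨p, hp, -, hi⟩ := ex_off h h1 h2 (Cl.self _) hl e
    exact ⟨p, hp, hi⟩

/-- A line is transitive on the points off it. -/
theorem trans (hl : Cl W₂ l) (hp : Cl W₁ p) (hp' : Cl W₁ p') (n1 : ¬ In p l) (n2 : ¬ In p' l) :
    ∃ t ∈ l, cj t p = p' := by
  obtain ⟨m, hm, i1, i2⟩ := line_ex h h1 h2 hp hp'
  obtain ⟨x, hx, i3, i4⟩ := line_ex h.symm h2 h1 hl hm
  have e1 : p ≠ x := fun e => n1 (e ▸ i3.symm)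
  have e2 : p' ≠ x := fun e => n2 (e ▸ i3.symm)
  have e3 : l ≠ m := fun e => n1 (e ▸ i1)
  obtain ⟨k, rfl, rfl⟩ := flag h h1 h2 hx hm i4.symm
  obtain ⟨a, ha, hap⟩ := trans0 h h1 h2 (hp.cjj k⁻¹) (hp'.cjj k⁻¹)
    (by simpa only [cj_inv_cj] using i1.cjj k⁻¹) (by simpa only [cj_inv_cj] using i2.cjj k⁻¹)
    (fun e => e1 (by rw [← e, cj_cj_inv])) (fun e => e2 (by rw [← e, cj_cj_inv]))
  obtain ⟨t, ht, b, hb, rfl⟩ := dec0 h.symm h2 h1 (hl.cjj k⁻¹) (Cl.self _)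
    (by simpa only [cj_inv_cj] using i3.cjj k⁻¹) (by simpa only [cj_inv_cj] using i4.cjj k⁻¹)
    (fun e => e3 (by rw [← e, cj_cj_inv])) ha
  rw [← cj_cj, fix_of_in h h1 h2 (hp.cjj k⁻¹) (Cl.self _)
    (by simpa only [cj_inv_cj] using i1.cjj k⁻¹) hb] at hap
  refine ⟨k * t * k⁻¹, by simpa only [mem_cj, inv_inv] using ht, cj_injective k⁻¹ ?_⟩
  rw [← hap, cj_cj, cj_cj]
  congr 1
  group

end Pg

end Cfsg.Agent.C2
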