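import Cfsg.Agent.Lib.C2.C1b
import Cfsg.Agent.Lib.C2.C1c

/-!
# S1170: type `L₃` (part C1) (see notes/C2.md)
-/

set_option autoImplicit false
set_option linter.unusedSectionVars false
set_option linter.unusedVariables false

namespace Cfsg.Agent.C2

open Subgroup Cfsg.Agent.H6 Cfsg.Agent.FT Cfsg.Agent.BD.P1 Cfsg.Agent.G75 Cfsg.Agent.G74
open Cfsg.Agent.St (Od)
open scoped commutatorElement MatrixGroups Matrix

universe u

variable {G : Type*} [Group G] [Finite G] {T : Set G}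
variable {A B C D E H K L M N P Q R S U V W X Y W₁ W₂ : Subgroup G}
variable {a b c d e g h n r s t v w x y z : G}
variable {F : Type} [Field F] [Fintype F] [CharP F 2] {φ φ₁ φ₂ : G → SL(2, F)}
  {ψ ψ₁ ψ₂ : G → Fin 2 → F}

namespace Pg

open Col Pl

/-- Homogeneous coordinates of the points. -/
structure Crd (W₁ W₂ : Subgroup G) (f : (Fin 3 → F) → Subgroup G) : Prop where
  pt : ∀ u ≠ 0, Cl W₁ (f u)
  eq : ∀ u ≠ 0, ∀ v ≠ 0, f u = f v ↔ ∃ a : F, u = a • v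
  surj : ∀ p, Cl W₁ p → ∃ u ≠ 0, f u = p
  line : ∀ l, Cl W₂ l → ∃ m ≠ 0, ∀ u ≠ 0, In (f u) l ↔ m ⬝ᵥ u = 0

theorem coord (h : R4 F T A W₁ W₂ φ₁ φ₂ ψ₁ ψ₂) (h1 : W₁ ⊓ 𝒞(XX T W₁) = ⊥)
    (h2 : W₂ ⊓ 𝒞(XX T W₂) = ⊥) : ∃ f : (Fin 3 → F) → Subgroup G, Crd W₁ W₂ f := by
  classical
  have hex : ∀ a b : F, ∃ v ∈ W₂, ψ₂ v 0 = a ∧ ψ₂ v 1 = b := fun a b => by
    obtain ⟨v, hv, e⟩ := h.n2.ψ_surj ![a, b]
    exact ⟨v, hv, by rw [e]; rfl, by rw [e]; rfl⟩
  choose e he e0 e1 using hex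
  choose P hP eP using fun a b => ex_pt h (h.n2.sq (he a b))
  obtain ⟨o, ho, ho'⟩ := ex_off' h h1 h2
  have eψ : ∀ v ∈ W₂, e (ψ₂ v 0) (ψ₂ v 1) = v := fun v hv =>
    ψ_inj h.symm h2 (he _ _) hv (vec_ext (e0 _ _) (e1 _ _))
  have eadd : ∀ a b c d, e a b * e c d = e (a + c) (b + d) := fun a b c d => by
    rw [← eψ _ (mul_mem (he a b) (he c d)), h.n2.ψ_mul _ (he a b) _ (he c d), Pi.add_apply,
      Pi.add_apply, e0, e0, e1, e1]
  have ene : ∀ a b, ¬ (a = 0 ∧ b = 0) → e a b ≠ 1 := fun a b hab h' => hab (by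
    have a0 := e0 a b
    have a1 := e1 a b
    rw [h', h.n2.ψ_one] at a0 a1
    exact ⟨a0.symm, a1.symm⟩)
  have Pin : ∀ a b, ¬ (a = 0 ∧ b = 0) → In (P a b) W₂ := fun a b hab =>
    ⟨_, ene a b hab, eP a b, he a b⟩
  have memP : ∀ a b c d, ¬ (a = 0 ∧ b = 0) → (e c d ∈ P a b ↔ a * d = b * c) :=
    fun a b c d hab => by
      rw [lin h h1 h2 (hP a b) (eP a b) (he a b) (ene a b hab) (he c d), e0, e0, e1, e1]
  have Peq : ∀ a b c d, ¬ (a = 0 ∧ b = 0) → ¬ (c = 0 ∧ d = 0) →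
      (P a b = P c d ↔ a * d = b * c) := fun a b c d hab hcd =>
    ⟨fun h' => (memP a b c d hab).1 (h' ▸ eP c d), fun h' =>
      uq h h1 h2 (hP a b) (hP c d) (ene c d hcd) ((memP a b c d hab).2 h') (eP c d)⟩
  have Qoff : ∀ a b, ¬ In (cj (e a b) o) W₂ := fun a b hi => ho' (by
    rwa [← cj_eq_self_of_mem (he a b), in_cj_iff] at hi)
  have Qadd : ∀ a b c d, cj (e c d) (cj (e (a - c) (b - d)) o) = cj (e a b) o := fun a b c d => by
    rw [cj_cj, eadd, add_sub_cancel, add_sub_cancel]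
  have Qeq : ∀ a b c d, cj (e a b) o = cj (e c d) o → a = c ∧ b = d := fun a b c d h' => by
    rw [← Qadd a b c d] at h'
    by_contra hn
    exact ho' (in_of_fix h h1 h2 ho (Cl.self _) (he _ _)
      (ene _ _ (by rwa [sub_eq_zero, sub_eq_zero])) (cj_injective _ h'))
  have hne : ∀ u : Fin 3 → F, u ≠ 0 → u 2 = 0 → ¬ (u 0 = 0 ∧ u 1 = 0) := fun u hu h' h'' =>
    hu (ext3 h''.1 h''.2 h')
  have Psurj : ∀ p, Cl W₁ p → In p W₂ → ∃ a b, ¬ (a = 0 ∧ b = 0) ∧ P a b = p := by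
    rintro p hp ⟨v, v1, vp, hv⟩
    exact ⟨_, _, ψ_ne h h2 hv v1, uq h h1 h2 (hP _ _) hp v1 (by
      have := eP (ψ₂ v 0) (ψ₂ v 1); rwa [eψ v hv] at this) vp⟩
  have Qsurj : ∀ p, Cl W₁ p → ¬ In p W₂ → ∃ a b, cj (e a b) o = p := fun p hp hi => by
    obtain ⟨t, ht, e'⟩ := trans h h1 h2 (Cl.self _) ho hp ho' hi
    exact ⟨_, _, by rw [eψ t ht, e']⟩
  refine ⟨fun u => if u 2 = 0 then P (u 0) (u 1) else cj (e (u 0 / u 2) (u 1 / u 2)) o,
    fun u hu => ?_, fun u hu v hv => ?_, fun p hp => ?_, fun l hl => ?_⟩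
  · split_ifs
    · exact hP _ _
    · exact ho.cjj _
  · by_cases a2 : u 2 = 0 <;> by_cases b2 : v 2 = 0
    · rw [if_pos a2, if_pos b2, Peq _ _ _ _ (hne u hu a2) (hne v hv b2)]
      constructor
      · intro h'
        by_cases b0 : v 0 = 0
        · have b1 : v 1 ≠ 0 := fun b1 => hne v hv b2 ⟨b0, b1⟩
          refine ⟨u 1 / v 1, ext3 ?_ ?_ ?_⟩ <;> simp only [Pi.smul_apply, smul_eq_mul]
          · field_simp; linear_combination h'
          · field_simp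
          · rw [a2, b2, mul_zero]
        · refine ⟨u 0 / v 0, ext3 ?_ ?_ ?_⟩ <;> simp only [Pi.smul_apply, smul_eq_mul]
          · field_simp
          · field_simp; linear_combination -h'
          · rw [a2, b2, mul_zero]
      · rintro ⟨a, rfl⟩
        simp only [Pi.smul_apply, smul_eq_mul]; ring
    · rw [if_pos a2, if_neg b2]
      refine ⟨fun h' => absurd (h' ▸ Pin _ _ (hne u hu a2)) (Qoff _ _), ?_⟩
      rintro ⟨a, rfl⟩
      rw [Pi.smul_apply, smul_eq_mul, mul_eq_zero, or_iff_left b2] at a2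
      exact absurd (by rw [a2, zero_smul]) hu
    · rw [if_neg a2, if_pos b2]
      refine ⟨fun h' => absurd (h' ▸ Pin _ _ (hne v hv b2)) (Qoff _ _), ?_⟩
      rintro ⟨a, rfl⟩
      exact absurd (by rw [Pi.smul_apply, b2, smul_zero]) a2
    · rw [if_neg a2, if_neg b2]
      constructor
      · intro h'
        obtain ⟨c0, c1⟩ := Qeq _ _ _ _ h'
        rw [div_eq_div_iff a2 b2] at c0 c1
        refine ⟨u 2 / v 2, ext3 ?_ ?_ ?_⟩ <;> simp only [Pi.smul_apply, smul_eq_mul]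
        · field_simp; linear_combination c0
        · field_simp; linear_combination c1
        · field_simp
      · rintro ⟨a, rfl⟩
        simp only [Pi.smul_apply, smul_eq_mul] at a2 ⊢
        rw [mul_div_mul_left _ _ (left_ne_zero_of_mul a2),
          mul_div_mul_left _ _ (left_ne_zero_of_mul a2)]
  · by_cases hi : In p W₂
    · obtain ⟨a, b, hab, rfl⟩ := Psurj p hp hi
      exact ⟨![a, b, 0], fun h' => hab ⟨congrFun h' 0, congrFun h' 1⟩, by simp⟩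
    · obtain ⟨a, b, rfl⟩ := Qsurj p hp hi
      exact ⟨![a, b, 1], fun h' => one_ne_zero (congrFun h' 2), by simp⟩
  · by_cases hlW : l = W₂
    · subst hlW
      refine ⟨![0, 0, 1], fun h' => one_ne_zero (congrFun h' 2), fun u hu => ?_⟩
      rw [dot3]
      by_cases a2 : u 2 = 0
      · rw [if_pos a2]; simpa [a2] using Pin _ _ (hne u hu a2)
      · rw [if_neg a2]; simpa [a2] using Qoff _ _
    obtain ⟨x, hx, i1, i2⟩ := line_ex h.symm h2 h1 hl (Cl.self _)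
    obtain ⟨d0, d1, hd, rfl⟩ := Psurj x hx i2.symm
    obtain ⟨y, hy, i3, i4⟩ := ex_off h h1 h2 (Cl.self _) hl hlW
    obtain ⟨a0, a1, rfl⟩ := Qsurj y hy i4
    have key : ∀ a b, ¬ (a = 0 ∧ b = 0) → (In (P a b) l ↔ d0 * b = d1 * a) := fun a b hab => by
      rw [← Peq _ _ _ _ hd hab]
      exact ⟨fun h' => line_uq h.symm h2 h1 hl (Cl.self _) hlW hx (hP _ _) i1 i2 h'.symm
        (Pin _ _ hab).symm, fun h' => h' ▸ i1.symm⟩
    have key2 : ∀ a b, In (cj (e a b) (cj (e a0 a1) o)) l ↔ d0 * b = d1 * a := fun a b => by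
      constructor
      · intro h'
        by_cases hab : a = 0 ∧ b = 0
        · rw [hab.1, hab.2, mul_zero, mul_zero]
        obtain ⟨n, hn, i5, i6⟩ := line_ex h h1 h2 (hP a b) hy
        have i7 := i6.cjj (e a b)
        rw [fix_of_in h.symm h2 h1 hn (hP a b) i5.symm (eP a b)] at i7
        have := line_uq h h1 h2 hy (hy.cjj (e a b)) (fun h'' => i4
          (in_of_fix h h1 h2 hy (Cl.self _) (he a b) (ene a b hab) h''.symm)) hl hn i3 h' i6 i7
        exact (key a b hab).1 (this ▸ i5)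
      · intro h'
        have := i3.cjj (e a b)
        rwa [fix_of_in h.symm h2 h1 hl hx i1 ((memP _ _ _ _ hd).2 h')] at this
    refine ⟨![d1, -d0, d0 * a1 - d1 * a0], fun h' => hd ⟨neg_eq_zero.1 (congrFun h' 1),
      congrFun h' 0⟩, fun u hu => ?_⟩
    rw [dot3]
    simp only [Matrix.cons_val_zero, Matrix.cons_val_one, Matrix.cons_val]
    by_cases a2 : u 2 = 0
    · rw [if_pos a2, key _ _ (hne u hu a2), a2]
      exact ⟨fun h' => by linear_combination -h', fun h' => by linear_combination -h'⟩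
    · rw [if_neg a2, show cj (e (u 0 / u 2) (u 1 / u 2)) o =
        cj (e (u 0 / u 2 - a0) (u 1 / u 2 - a1)) (cj (e a0 a1) o) by
          rw [cj_cj, eadd, sub_add_cancel, sub_add_cancel], key2]
      constructor
      · intro h'
        field_simp at h'
        linear_combination -h'
      · intro h'
        field_simp
        linear_combination -h'

/-- The elements of a line act as transvections. -/
theorem Crd.elation {f : (Fin 3 → F) → Subgroup G} (hf : Crd W₁ W₂ f)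
    (h : R4 F T A W₁ W₂ φ₁ φ₂ ψ₁ ψ₂) (h1 : W₁ ⊓ 𝒞(XX T W₁) = ⊥) (h2 : W₂ ⊓ 𝒞(XX T W₂) = ⊥)
    (hL : Cl W₂ L) {m : Fin 3 → F} (hm : m ≠ 0) (hm' : ∀ u ≠ 0, In (f u) L ↔ m ⬝ᵥ u = 0)
    (ht : t ∈ L) : ∃ d, m ⬝ᵥ d = 0 ∧ ∀ u ≠ 0, cj t (f u) = f (u + (m ⬝ᵥ u) • d) := by
  by_cases t1 : t = 1
  · exact ⟨0, dotProduct_zero _, fun u _ => by rw [t1, cj_one, smul_zero, add_zero]⟩
  obtain ⟨x, hx, tx⟩ := ex_pt h (sq h.symm hL ht)
  obtain ⟨c, hc, rfl⟩ := hf.surj x hx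
  have hmc : m ⬝ᵥ c = 0 := (hm' c hc).1 ⟨t, t1, tx, ht⟩
  have hσ : ∀ u : Fin 3 → F, ∃ v, u ≠ 0 → v ≠ 0 ∧ f v = cj t (f u) := fun u => by
    by_cases hu : u = 0
    · exact ⟨0, fun h' => absurd hu h'⟩
    · obtain ⟨v, hv, e⟩ := hf.surj _ ((hf.pt u hu).cjj t)
      exact ⟨v, fun _ => ⟨hv, e⟩⟩
  choose σ hσ using hσ
  refine (Pl.elation σ hm hc hmc (fun u hu hmu => ?_) (fun u hu h' => ?_)
    (fun u hu => ?_) (fun u hu v hv => ?_)).elim fun k hk => ?_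
  rotate_right
  · refine ⟨k • c, by rw [dotProduct_smul, hmc, smul_zero], fun u hu => ?_⟩
    obtain ⟨a, ha⟩ := hk u hu
    rw [← (hσ u hu).2]
    exact (hf.eq _ (hσ u hu).1 _ fun h' => (hσ u hu).1 (by rw [ha, h', smul_zero])).2 ⟨a, ha⟩
  · obtain ⟨a, ha⟩ := (hf.eq _ (hσ u hu).1 u hu).1 ((hσ u hu).2.trans
      (fix_of_in h h1 h2 (hf.pt u hu) hL ((hm' u hu).2 hmu) ht))
    exact ⟨a, fun h' => (hσ u hu).1 (by rw [ha, h', zero_smul]), ha⟩
  · have hu0 : u ≠ 0 := fun e => hu (by rw [e, dotProduct_zero])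
    have := (hm' _ (hσ u hu0).1).2 h'
    rw [(hσ u hu0).2, ← cj_eq_self_of_mem ht, in_cj_iff] at this
    exact hu ((hm' u hu0).1 this)
  · obtain ⟨n, hn, i1, i2⟩ := line_ex h h1 h2 hx (hf.pt u hu)
    obtain ⟨μ, hμ, hμ'⟩ := hf.line n hn
    refine ⟨μ, hμ, (hμ' c hc).1 i1, (hμ' u hu).1 i2, (hμ' _ (hσ u hu).1).1 ?_⟩
    rw [(hσ u hu).2, ← fix_of_in h.symm h2 h1 hn hx i1.symm tx]
    exact i2.cjj t
  · obtain ⟨n, hn, i1, i2⟩ := line_ex h h1 h2 (hf.pt u hu) (hf.pt v hv)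
    obtain ⟨μ, hμ, hμ'⟩ := hf.line n hn
    obtain ⟨ν, hν, hν'⟩ := hf.line _ (hn.cjj t)
    refine ⟨ν, hν, fun a b hy => (hν' _ (hσ _ hy).1).1 ?_⟩
    rw [(hσ _ hy).2]
    refine In.cjj ((hμ' _ hy).2 ?_) t
    rw [dotProduct_add, dotProduct_smul, dotProduct_smul, (hμ' u hu).1 i1, (hμ' v hv).1 i2,
      smul_zero, smul_zero, add_zero]

end Pg

open Pg Pl in
theorem R4.l3 [IsSimpleGroup G] (h : R4 F T A W₁ W₂ φ₁ φ₂ ψ₁ ψ₂) (h1 : W₁ ⊓ 𝒞(XX T W₁) = ⊥)
    (h2 : W₂ ⊓ 𝒞(XX T W₂) = ⊥) :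
    Nonempty (G ≃* Matrix.ProjectiveSpecialLinearGroup (Fin 3) F) := by
  classical
  obtain ⟨f, hf⟩ := coord h h1 h2
  refine iso (cj (G := G)) cj_one cj_cj f hf.eq (fun g hg => ?_) (fun g => ?_)
    (fun i j hij s => ?_)
  · rcases (normalCore_normal 𝒩(W₁)).eq_bot_or_eq_top with e | e
    · refine mem_bot.1 (e ▸ fun b => ?_)
      obtain ⟨u, hu, e'⟩ := hf.surj _ ⟨b⁻¹, rfl⟩
      have := hg u hu
      rw [e'] at this
      rw [← cj_eq_self_iff, ← cj_cj, ← cj_cj, this, cj_cj_inv]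
    · have hn : W₁.Normal := normalizer_eq_top_iff.1
        (eq_top_iff.2 (e.ge.trans (normalCore_le _)))
      rcases hn.eq_bot_or_eq_top with e' | e'
      · exact absurd (e'.le.trans bot_le) h.toR2.ne
      · exact absurd (le_top.trans e'.ge) h.toR2.symm.ne
  · have hg : g ∈ normalClosure {t : G | t * t = 1} := by
      rcases (normalClosure_normal (s := {t : G | t * t = 1})).eq_bot_or_eq_top with e | e
      · refine absurd (fun v hv => ?_) h.toR2.ne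
        rw [mem_bot.1 (e.le (subset_normalClosure (h.n1.sq hv)))]
        exact one_mem _
      · exact e ▸ mem_top g
    induction hg using closure_induction with
    | mem t ht =>
      obtain ⟨s, hs, c, rfl⟩ : ∃ s : G, s * s = 1 ∧ ∃ c, c * s * c⁻¹ = t := by
        obtain ⟨s, hs, hc⟩ := Group.mem_conjugatesOfSet_iff.1 ht
        exact ⟨s, hs, isConj_iff.1 hc⟩
      obtain ⟨l, hl, tl⟩ := ex_pt h.symm (t := c * s * c⁻¹) (by rw [conj_mul, hs]; group)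
      obtain ⟨m, hm, hm'⟩ := hf.line l hl
      obtain ⟨d, hd, hd'⟩ := hf.elation h h1 h2 hl hm hm' tl
      exact ⟨tv m d hd, fun u hu => by rw [tv_vec, hd' u hu]⟩
    | one => exact ⟨1, fun u _ => by rw [cj_one, one_smul]⟩
    | mul x y _ _ hx hy =>
      obtain ⟨M, hM⟩ := hx
      obtain ⟨N, hN⟩ := hy
      exact ⟨M * N, fun u hu => by rw [← cj_cj, hN u hu, hM _ (sl_ne N hu), mul_smul]⟩
    | inv x _ hx =>
      obtain ⟨M, hM⟩ := hx
      refine ⟨M⁻¹, fun u hu => ?_⟩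
      have := hM _ (sl_ne M⁻¹ hu)
      rw [smul_inv_smul] at this
      rw [← this, cj_inv_cj]
  · have hs : ∀ k : Fin 3, (Pi.single k 1 : Fin 3 → F) ≠ 0 := fun k e => by
      simpa using congrFun e k
    obtain ⟨k, hk⟩ : ∃ k, k ≠ j ∧ ∀ n : Fin 3, n = i ∨ n = j ∨ n = k := by
      revert i j; decide
    obtain ⟨l, hl, i1, i2⟩ := line_ex h h1 h2 (hf.pt _ (hs i)) (hf.pt _ (hs k))
    obtain ⟨m, hm, hm'⟩ := hf.line l hl
    have m1 := (hm' _ (hs i)).1 i1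
    have m2 := (hm' _ (hs k)).1 i2
    rw [dotProduct_single, mul_one] at m1 m2
    have e1 : m = Pi.single j (m j) := by
      ext n
      rcases hk.2 n with rfl | rfl | rfl
      · rw [m1, Pi.single_eq_of_ne hij]
      · rw [Pi.single_eq_same]
      · rw [m2, Pi.single_eq_of_ne hk.1]
    have e2 : m j ≠ 0 := fun e => hm (by rw [e1, e, Pi.single_zero])
    have e3 : ∀ u, m ⬝ᵥ u = m j * u j := fun u => by
      conv_lhs => rw [e1]
      exact single_dotProduct _ _ _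
    have e4 : (Pi.single j 1 + s • Pi.single i 1 : Fin 3 → F) j = 1 := by simp [hij.symm]
    have e5 : (Pi.single j 1 + s • Pi.single i 1 : Fin 3 → F) ≠ 0 := fun e => by
      rw [e] at e4; exact zero_ne_one e4
    obtain ⟨t, ht, ht'⟩ := trans h h1 h2 hl (hf.pt _ (hs j)) (hf.pt _ e5)
      (by rw [hm' _ (hs j), e3]; simpa using e2) (by rw [hm' _ e5, e3, e4]; simpa using e2)
    obtain ⟨d, hd, hd'⟩ := hf.elation h h1 h2 hl hm hm' ht
    rw [e3, mul_eq_zero, or_iff_right e2] at hd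
    have e6 : (Pi.single j 1 + m j • d : Fin 3 → F) j = 1 := by simp [hd]
    rw [hd' _ (hs j), e3, Pi.single_eq_same, mul_one] at ht'
    obtain ⟨a, ha⟩ := (hf.eq _ (fun e => by rw [e] at e6; exact zero_ne_one e6) _ e5).1 ht'
    have e7 := congrFun ha j
    rw [e6, Pi.smul_apply, e4, smul_eq_mul, mul_one] at e7
    rw [← e7, one_smul, add_right_inj] at ha
    exact ⟨t, fun u hu => by rw [hd' u hu, e3, mul_comm, mul_smul, ha]⟩

end Cfsg.Agent.C2
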