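import Cfsg.Agent.Lib.C2.R2a
import Cfsg.Agent.Lib.C2.C1aa

/-!
# S1170: type `L₃`: any two points are collinear (part C1a) (see notes/C2.md)
-/

set_option autoImplicit false
set_option linter.unusedSectionVars false
set_option linter.unusedVariables false

namespace Cfsg.Agent.C2

open Subgroup Cfsg.Agent.H6 Cfsg.Agent.FT Cfsg.Agent.BD.P1 Cfsg.Agent.G75 Cfsg.Agent.G74
open Cfsg.Agent.St (Od)
open scoped commutatorElement MatrixGroups Matrix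

universe u

variable {G : Type*} [Group G] [Finite G] {T : Set G}
variable {A B C D E H K L M N P Q R S U V W X Y W₁ W₂ : Subgroup G}
variable {a b c d e g n r s t v w x y z : G}
variable {F : Type} [Field F] [Fintype F] [CharP F 2] {φ φ₁ φ₂ : G → SL(2, F)}
  {ψ ψ₁ ψ₂ : G → Fin 2 → F}

namespace Col

theorem exists_inv (hx : ¬ Odd (orderOf x)) : ∃ k : ℕ, x ^ k ≠ 1 ∧ x ^ k * x ^ k = 1 := by
  obtain ⟨m, hm⟩ := Nat.not_odd_iff_even.1 hx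
  have := orderOf_pos x
  refine ⟨m, pow_ne_one_of_lt_orderOf (by omega) (by omega), ?_⟩
  rw [← pow_add, ← hm, pow_orderOf_eq_one]

theorem inv_pw (h : s * c * s⁻¹ = c⁻¹) (k : ℕ) : s * c ^ k * s⁻¹ = (c ^ k)⁻¹ := by
  rw [← conj_pow, h, inv_pow]

theorem comm_of_inv (h : s * c * s⁻¹ = c⁻¹) (h2 : c * c = 1) : s * c = c * s := by
  rw [inv_eq_of_mul_eq_one_right h2] at h
  exact mul_inv_eq_iff_eq_mul.1 h

theorem eq_one_of_odd (hy : Odd (orderOf y)) {k : ℕ} (h : y ^ 2 ^ k = 1) : y = 1 := by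
  have h1 := orderOf_dvd_of_pow_eq_one h
  have h2 : Nat.Coprime (orderOf y) (2 ^ k) :=
    Nat.Coprime.pow_right _ ((Nat.coprime_two_right).2 hy)
  exact orderOf_eq_one_iff.1 (Nat.Coprime.eq_one_of_dvd h2 h1)

/-- Two involutions: a common central involution or a swapping involution. -/
theorem dih (ha : a * a = 1) (hb : b * b = 1) (ha1 : a ≠ 1) :
    (∃ k : ℕ, (a * b) ^ k ≠ 1 ∧ (a * b) ^ k * (a * b) ^ k = 1 ∧ a * (a * b) ^ k = (a * b) ^ k * a ∧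
      b * (a * b) ^ k = (a * b) ^ k * b) ∨
    ∃ j : ℕ, (a * b) ^ (2 * j + 1) = 1 ∧ (a * b) ^ j * a ≠ 1 ∧
      (a * b) ^ j * a * ((a * b) ^ j * a) = 1 ∧
      (a * b) ^ j * a * a * ((a * b) ^ j * a)⁻¹ = b := by
  have ha' : a⁻¹ = a := inv_eq_of_mul_eq_one_right ha
  have hb' : b⁻¹ = b := inv_eq_of_mul_eq_one_right hb
  have h1 : a * (a * b) * a⁻¹ = (a * b)⁻¹ := by
    rw [← mul_assoc, ha, one_mul, mul_inv_rev, ha', hb']
  have h2 : b * (a * b) * b⁻¹ = (a * b)⁻¹ := by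
    rw [mul_inv_rev, ha', ← mul_assoc, mul_inv_cancel_right, hb']
  by_cases ho : Odd (orderOf (a * b))
  · right
    obtain ⟨j, hj⟩ := ho
    have h3 : (a * b) ^ (2 * j + 1) = 1 := by rw [← hj, pow_orderOf_eq_one]
    have h4 := inv_pw h1 j
    have h5 : (a * b) ^ j * a * a * ((a * b) ^ j * a)⁻¹ = b := by
      have h6 : a * ((a * b) ^ j)⁻¹ = (a * b) ^ j * a := by
        rw [← h4, ha']; simp only [← mul_assoc, ha, one_mul]
      calc (a * b) ^ j * a * a * ((a * b) ^ j * a)⁻¹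
          = (a * b) ^ j * (a * ((a * b) ^ j)⁻¹) := by group
        _ = (a * b) ^ (2 * j + 1) * (a * b)⁻¹ * a := by
          rw [h6]; generalize a * b = c; group
        _ = b := by rw [h3, one_mul, mul_inv_rev, ha', hb', mul_assoc, ha, mul_one]
    refine ⟨j, h3, fun h => ?_, ?_, h5⟩
    · rw [h, one_mul, inv_one, mul_one] at h5
      rw [← h5, ha, one_pow, one_mul] at h
      exact ha1 h
    · calc (a * b) ^ j * a * ((a * b) ^ j * a) = (a * b) ^ j * (a * (a * b) ^ j * a⁻¹) := by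
            rw [ha']; group
        _ = 1 := by rw [h4, mul_inv_cancel]
  · left
    obtain ⟨k, hk1, hk⟩ := exists_inv ho
    exact ⟨k, hk1, hk, comm_of_inv (inv_pw h1 k) hk, comm_of_inv (inv_pw h2 k) hk⟩

/-- An involution normalizing `C(y)` of even order centralizes an involution of it. -/
theorem exists_fix (hs : s * s = 1) (hy : s * y * s⁻¹ = y⁻¹) (hz1 : z ≠ 1) (hz : z * z = 1)
    (hc : y * z = z * y) : ∃ w, w ≠ 1 ∧ w * w = 1 ∧ y * w = w * y ∧ s * w = w * s := by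
  have hs' : s⁻¹ = s := inv_eq_of_mul_eq_one_right hs
  have hz' : z⁻¹ = z := inv_eq_of_mul_eq_one_right hz
  set z1 := s * z * s⁻¹ with hz1'
  have h1 : z1 * z1 = 1 := by rw [hz1', conj_mul, hz]; group
  have h1' : z1⁻¹ = z1 := inv_eq_of_mul_eq_one_right h1
  have h2 : Commute y z1 := by
    have : Commute (s * y * s⁻¹) z1 := by
      rw [hz1', Commute, SemiconjBy, conj_mul, conj_mul, hc]
    rw [hy] at this
    exact Commute.inv_left_iff.1 this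
  have h3 : Commute y (z * z1) := Commute.mul_right hc h2
  have h4 : s * z1 * s⁻¹ = z := by
    calc s * z1 * s⁻¹ = (s * s) * z * (s * s)⁻¹ := by rw [hz1']; group
      _ = z := by rw [hs]; group
  have h5 : s * (z * z1) * s⁻¹ = (z * z1)⁻¹ := by
    rw [← conj_mul, h4, ← hz1', mul_inv_rev, hz', h1']
  rcases dih hz h1 hz1 with ⟨k, k1, k2, -, -⟩ | ⟨j, j1, j2, j3, -⟩
  · exact ⟨_, k1, k2, h3.pow_right k, comm_of_inv (inv_pw h5 k) k2⟩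
  · refine ⟨_, j2, j3, (h3.pow_right j).mul_right hc, mul_inv_eq_iff_eq_mul.1 ?_⟩
    rw [← conj_mul, inv_pw h5, ← hz1']
    have h6 : z1 = (z * z1)⁻¹ * z := by
      rw [mul_inv_rev, hz', h1', mul_assoc, hz, mul_one]
    calc ((z * z1) ^ j)⁻¹ * z1 = ((z * z1) ^ j)⁻¹ * ((z * z1)⁻¹ * z) := by rw [← h6]
      _ = (z * z1) ^ j * ((z * z1) ^ (2 * j + 1))⁻¹ * z := by generalize z * z1 = c; group
      _ = (z * z1) ^ j * z := by rw [j1, inv_one, mul_one]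

theorem fix_elem (hV : V ≤ 𝒞(V)) (h2 : ∀ v ∈ V, v * v = 1) (h1 : V ≠ ⊥) (hz : z ∈ 𝒩(V))
    (hz2 : z * z = 1) : ∃ a ∈ V, a ≠ 1 ∧ a * z = z * a := by
  obtain ⟨⟨a, ha⟩, ha1⟩ := ne_bot_iff_exists_ne_one.1 h1
  have ha1 : a ≠ 1 := fun h => ha1 (Subtype.ext h)
  have hb := conj_mem_of_mem_normalizer hz ha
  by_cases h : z * a * z⁻¹ = a
  · exact ⟨a, ha, ha1, (mul_inv_eq_iff_eq_mul.1 h).symm⟩
  · refine ⟨a * (z * a * z⁻¹), mul_mem ha hb, fun h' => h ?_, ?_⟩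
    · rw [← inv_eq_of_mul_eq_one_right h', inv_eq_of_mul_eq_one_right (h2 a ha)]
    · refine (mul_inv_eq_iff_eq_mul.1 ?_).symm
      rw [← conj_mul]
      have : z * (z * a * z⁻¹) * z⁻¹ = a := by
        calc z * (z * a * z⁻¹) * z⁻¹ = (z * z) * a * (z * z)⁻¹ := by group
          _ = a := by rw [hz2]; group
      rw [this]
      exact hV ha _ hb

theorem sq1 (h : Nm F X V A φ ψ) (hv : v ∈ V) : v * v = 1 := by
  rw [← pow_two]; exact h.elem.2 v hv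

theorem sq_cj (h : Nm F X V A φ ψ) (hv : v ∈ cj g V) : v * v = 1 := sq1 (h.cjj g) hv

variable (h : R4 F T A W₁ W₂ φ₁ φ₂ ψ₁ ψ₂) (h1 : W₁ ⊓ 𝒞(XX T W₁) = ⊥)
  (h2 : W₂ ⊓ 𝒞(XX T W₂) = ⊥)
include h

theorem two_mem (hx : x ∈ 𝒩(A)) (hx2 : x * x = 1) : x ∈ A :=
  h.syl.le_of_normalizes (isPGroup_zpowers (k := 1) (by rw [pow_one, pow_two, hx2])) le_top
    (zpowers_le.2 hx) (mem_zpowers x)

theorem move (hz : z * z = 1) : ∃ k, k * z * k⁻¹ ∈ W₁ ⊓ W₂ := by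
  obtain ⟨k, -, hk⟩ := h.syl.exists_conj_mem (mem_top z) (k := 1) (by rw [pow_one, pow_two, hz])
  rcases h.inv _ hk (by rw [conj_mul, hz]; group) with h3 | h3
  · obtain ⟨x, -, hx⟩ := h.toR2.exists_conj h3
    exact ⟨x * k, by convert hx using 1; group⟩
  · obtain ⟨x, -, hx⟩ := h.toR2.symm.exists_conj h3
    exact ⟨x * k, by rw [inf_comm]; convert hx using 1; group⟩

theorem nconj (k : G) : cj k W₁ ≠ W₂ := by
  intro hk
  have e1 : SylIn 2 A 𝒩(W₂) := h.syl.mono h.toR2.symm.norm1 le_top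
  have e2 : SylIn 2 (cj k A) 𝒩(W₂) := by
    have := (h.syl.mono h.toR2.norm1 le_top).cj k
    rwa [cj_normalizer, hk] at this
  obtain ⟨m, hm, he⟩ := e1.exists_cj_eq e2
  rw [cj_cj] at he
  have h3 := cj_eq_self_iff.2 (h.m1 (cj_eq_self_iff.1 he))
  rw [← cj_cj, hk, cj_eq_self_iff.2 hm] at h3
  exact h.toR2.ne h3.ge

include h1 h2

theorem centN (ht : t ∈ W₁ ⊓ W₂) (ht1 : t ≠ 1) : 𝒞[t] ≤ 𝒩(A) := by
  intro x hx
  have e1 := h.t1 t ht (fun h' => ht1 (mem_bot.1 (h2 ▸ ⟨ht.2, h'⟩))) hx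
  have e2 := h.t2 t ht (fun h' => ht1 (mem_bot.1 (h1 ▸ ⟨ht.1, h'⟩))) hx
  rw [← cj_eq_self_iff, ← h.sup, cj_sup, cj_eq_self_iff.2 e1, cj_eq_self_iff.2 e2]

theorem uniq0 (ha : a ∈ W₁) (ha1 : a ≠ 1) (hg : a ∈ cj g W₁) : cj g W₁ = W₁ := by
  obtain ⟨x, hx, hxa⟩ := h.toR2.exists_conj ha
  have hx1 : cj x W₁ = W₁ := cj_eq_self_iff.2 (XX_le hx)
  have ht1 : x * a * x⁻¹ ≠ 1 := fun h' => ha1 (conj_eq_one_iff.1 h')
  have hm : x * a * x⁻¹ ∈ cj (x * g) W₁ := by rw [← cj_cj]; exact conj_mem_cj hg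
  have hA : cj (x * g) W₁ ≤ A := fun v hv =>
    two_mem h (centN h h1 h2 hxa ht1 (mem_centralizer_singleton_iff.2
      ((h.n1.cjj (x * g)).comm hm v hv))) (sq_cj h.n1 hv)
  rcases h.toR2.le_or hA (fun v hv => sq_cj h.n1 hv) with h3 | h3
  · have h4 := eq_of_le_of_card_ge h3 (card_cj _ _).ge
    apply cj_injective x
    rw [cj_cj, h4, hx1]
  · exact absurd (eq_of_le_of_card_ge h3 (by rw [card_cj, h.toR2.card_eq])) (nconj h _)

theorem uniq {g' : G} (ha : a ∈ cj g' W₁) (ha1 : a ≠ 1) (hg : a ∈ cj g W₁) :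
    cj g W₁ = cj g' W₁ := by
  have := uniq0 h h1 h2 (g := g'⁻¹ * g) (mem_cj.1 ha)
    (fun h' => ha1 (by have := congrArg (fun x => g' * x * g'⁻¹) h'; simpa [mul_assoc] using this))
    (by rw [← cj_cj, mem_cj]; simpa [mul_assoc] using hg)
  rw [← cj_cj] at this
  have e := congrArg (cj g') this
  rwa [cj_cj_inv] at e

theorem meet (hz1 : z ≠ 1) (hz : z * z = 1) : ∃ k, ∀ g, ∀ a ∈ cj g W₁, a ≠ 1 → a * z = z * a →
    cj g W₁ ⊓ cj k W₂ ≠ ⊥ := by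
  obtain ⟨k, hk⟩ := move h hz
  have ht1 : k * z * k⁻¹ ≠ 1 := fun h' => hz1 (conj_eq_one_iff.1 h')
  refine ⟨k⁻¹, fun g a ha ha1 hc => ?_⟩
  have ha2 := sq_cj h.n1 ha
  have ha3 : k * a * k⁻¹ * (k * a * k⁻¹) = 1 := by rw [conj_mul, ha2]; group
  have hA : k * a * k⁻¹ ∈ A := two_mem h (centN h h1 h2 hk ht1
    (mem_centralizer_singleton_iff.2 (by rw [conj_mul, conj_mul, hc]))) ha3
  rcases h.inv _ hA ha3 with h3 | h3
  · have h4 : a ∈ cj k⁻¹ W₁ := mem_cj.2 (by rwa [inv_inv])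
    rw [uniq h h1 h2 h4 ha1 ha]
    intro hb
    exact hz1 (mem_bot.1 (hb ▸ ⟨mem_cj.2 (by rw [inv_inv]; exact hk.1),
      mem_cj.2 (by rw [inv_inv]; exact hk.2)⟩))
  · intro hb
    exact ha1 (mem_bot.1 (hb ▸ ⟨ha, mem_cj.2 (by rwa [inv_inv])⟩))

/-- An element of odd order inverted by an involution centralizes no involution. -/
theorem no_inv (ho : Odd (orderOf y)) (hs : s * s = 1) (hy : s * y * s⁻¹ = y⁻¹) (hz1 : z ≠ 1)
    (hz : z * z = 1) (hc : y * z = z * y) : y = 1 := by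
  obtain ⟨w, w1, w2, w3, w4⟩ := exists_fix hs hy hz1 hz hc
  obtain ⟨k, hk⟩ := move h w2
  have ht1 : k * w * k⁻¹ ≠ 1 := fun h' => w1 (conj_eq_one_iff.1 h')
  have e1 : k * y * k⁻¹ ∈ 𝒩(A) := centN h h1 h2 hk ht1
    (mem_centralizer_singleton_iff.2 (by rw [conj_mul, conj_mul, w3]))
  have e2 : k * s * k⁻¹ ∈ A := two_mem h (centN h h1 h2 hk ht1
    (mem_centralizer_singleton_iff.2 (by rw [conj_mul, conj_mul, w4])))
    (by rw [conj_mul, hs]; group)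
  have e3 := mul_mem (conj_mem_of_mem_normalizer e1 e2) (inv_mem e2)
  have e4 : k * y * k⁻¹ * (k * s * k⁻¹) * (k * y * k⁻¹)⁻¹ * (k * s * k⁻¹)⁻¹ =
      (k * y * k⁻¹) ^ 2 := by
    calc _ = k * (y * (s * y * s⁻¹)⁻¹) * k⁻¹ := by group
      _ = _ := by rw [hy, inv_inv, pow_two, conj_mul]
  rw [e4] at e3
  obtain ⟨m, hm⟩ := isPGroup_subgroup_iff.1 h.syl.isPGroup _ e3
  rw [← pow_mul, ← pow_succ'] at hm
  exact conj_eq_one_iff.1 (eq_one_of_odd (by rwa [orderOf_conj]) hm)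

omit h2 in
theorem ψ_inj (hv : v ∈ W₁) (hw : w ∈ W₁) (he : ψ₁ v = ψ₁ w) : v = w := by
  have e1 : v * w⁻¹ ∈ W₁ := mul_mem hv (inv_mem hw)
  have e2 : ψ₁ (v * w⁻¹) = 0 := by
    rw [h.n1.ψ_mul _ hv _ (inv_mem hw), h.n1.ψ_inv hw, he]; exact two_v (F := F) _
  exact mul_inv_eq_one.1 (mem_bot.1 (h1 ▸ ⟨e1, (h.n1.ψ_ker _ e1).1 e2⟩))

omit h2 in
/-- A scalar centralizes an involution. -/
theorem scalar (hy : y ∈ 𝒩(W₁)) {c : F} (hc : ∀ v ∈ W₁, ψ₁ (y * v * y⁻¹) = c • ψ₁ v) :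
    ∃ z, z ≠ 1 ∧ z * z = 1 ∧ y * z = z * y := by
  by_cases hc1 : c = 1
  · obtain ⟨v, hv, hv1⟩ := h.n1.ψ_surj ![1, 0]
    refine ⟨v, fun h' => ?_, sq1 h.n1 hv, mul_inv_eq_iff_eq_mul.1 (ψ_inj h h1
      (conj_mem_of_mem_normalizer hy hv) hv (by rw [hc v hv, hc1, one_smul]))⟩
    rw [h', h.n1.ψ_one] at hv1
    simpa using congrFun hv1 0
  obtain ⟨m, ρ, hm, hm'⟩ := h.n1.semi (norm_XX h.sc hy) hy
  have e1 : ∀ u : Fin 2 → F, m.1 *ᵥ (fun i => ρ (u i)) = c • u := fun u => by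
    obtain ⟨v, hv, rfl⟩ := h.n1.ψ_surj u
    rw [← hm v hv, hc v hv]
  have e2 : m.1 = c • (1 : Matrix (Fin 2) (Fin 2) F) := by
    have a0 := e1 ![1, 0]
    have a1 := e1 ![0, 1]
    have b0 := congrFun a0 0
    have b1 := congrFun a0 1
    have b2 := congrFun a1 0
    have b3 := congrFun a1 1
    simp [Matrix.mulVec, dotProduct, Fin.sum_univ_two] at b0 b1 b2 b3
    ext i j; fin_cases i <;> fin_cases j <;> simp [b0, b1, b2, b3]
  have hc0 : c ≠ 0 := by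
    intro h0
    have := m.mul_inv
    rw [e2, h0, zero_smul, zero_mul] at this
    exact zero_ne_one this
  have e3 : ∀ x : F, ρ x = x := fun x => by
    have := congrFun (e1 ![x, 0]) 0
    rw [e2] at this
    simpa [Matrix.mulVec, dotProduct, Fin.sum_univ_two, hc0] using this
  have e4 : ∀ x ∈ XX T W₁, φ₁ (y * x * y⁻¹) = φ₁ x := fun x hx => by
    apply Subtype.ext
    have e5 : (φ₁ x).1.map ρ = (φ₁ x).1 := by ext i j; simp [e3]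
    rw [hm' x hx, e5]
    have e6 : m.1 * (φ₁ x).1 = (φ₁ x).1 * m.1 := by rw [e2]; simp
    rw [e6, mul_assoc, m.mul_inv, mul_one]
  obtain ⟨a, ha, ha1⟩ := h.n1.A_surj 1
  have haX := h.n1.le ha
  have hyX : y * a * y⁻¹ ∈ XX T W₁ := conj_mem_of_mem_normalizer (norm_XX h.sc hy) haX
  have hw : a⁻¹ * (y * a * y⁻¹) ∈ W₁ := by
    rw [← h.s1, ← h.n1.φ_ker _ (mul_mem (inv_mem haX) hyX), h.n1.φ_mul _ (inv_mem haX) _ hyX,
      h.n1.φ_inv haX, e4 a haX, inv_mul_cancel]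
  obtain ⟨w, hw1, hw2⟩ := h.n1.ψ_surj ((1 - c)⁻¹ • ψ₁ (a⁻¹ * (y * a * y⁻¹)))
  have hyw := conj_mem_of_mem_normalizer hy hw1
  have e7 : a⁻¹ * (y * a * y⁻¹) * (y * w * y⁻¹) = w := ψ_inj h h1 (mul_mem hw hyw) hw1 (by
    rw [h.n1.ψ_mul _ hw _ hyw, hc w hw1, hw2]
    have : (1 - c) ≠ 0 := sub_ne_zero.2 (Ne.symm hc1)
    have e8 : 1 + c * (1 - c)⁻¹ = (1 - c)⁻¹ := by field_simp; ring
    linear_combination (norm := module) e8 • ψ₁ (a⁻¹ * (y * a * y⁻¹)))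
  have e9 : Commute y (a * w) := by
    refine mul_inv_eq_iff_eq_mul.1 ?_
    conv_rhs => rw [← e7]
    group
  have haw : a * w ∈ A := mul_mem ha (h.toR2.le1 hw1)
  have e10 : ¬ Odd (orderOf (a * w)) := by
    intro ho
    obtain ⟨k, hk⟩ := isPGroup_subgroup_iff.1 h.syl.isPGroup _ haw
    have h3 := eq_one_of_odd ho hk
    have h4 : a ∈ W₁ := by rw [eq_inv_of_mul_eq_one_left h3]; exact inv_mem hw1
    rw [h.toR2.mem_W ha, ha1] at h4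
    exact one_ne_zero h4
  obtain ⟨k, k1, k2⟩ := exists_inv e10
  exact ⟨_, k1, k2, e9.pow_right k⟩

end Col

open Col in
/-- Any two conjugates of `W₁` normalize a common conjugate of `W₂`. -/
theorem R4.col (h : R4 F T A W₁ W₂ φ₁ φ₂ ψ₁ ψ₂) (h1 : W₁ ⊓ 𝒞(XX T W₁) = ⊥)
    (h2 : W₂ ⊓ 𝒞(XX T W₂) = ⊥) (g : G) : ∃ k : G, W₁ ⊓ cj k W₂ ≠ ⊥ ∧ cj g W₁ ⊓ cj k W₂ ≠ ⊥ := by
  by_contra hn
  have hnc : ∀ z : G, z ≠ 1 → z * z = 1 → ∀ a ∈ W₁, a ≠ 1 → ∀ b ∈ cj g W₁, b ≠ 1 →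
      a * z = z * a → b * z = z * b → False := by
    intro z z1 z2 a ha a1 b hb b1 e1 e2
    obtain ⟨k, hk⟩ := meet h h1 h2 z1 z2
    refine hn ⟨k, ?_, hk g b hb b1 e2⟩
    have := hk 1 a (by rwa [cj_one]) a1 e1
    rwa [cj_one] at this
  have hsw : ∀ a ∈ W₁, a ≠ 1 → ∀ b ∈ cj g W₁, b ≠ 1 → ∃ s : G, s * s = 1 ∧ s * a * s⁻¹ = b ∧
      cj s W₁ = cj g W₁ ∧ cj s (cj g W₁) = W₁ := by
    intro a ha a1 b hb b1
    rcases dih (sq1 h.n1 ha) (sq_cj h.n1 hb) a1 with ⟨k, k1, k2, k3, k4⟩ | ⟨j, -, -, j3, j4⟩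
    · exact (hnc _ k1 k2 a ha a1 b hb b1 k3 k4).elim
    · have e1 : cj ((a * b) ^ j * a) W₁ = cj g W₁ :=
        uniq h h1 h2 hb b1 (by have := conj_mem_cj (g := (a * b) ^ j * a) ha; rwa [j4] at this)
      refine ⟨_, j3, j4, e1, ?_⟩
      rw [← e1, cj_cj, j3, cj_one]
  have hψ0 : ∀ v ∈ W₁, ψ₁ v ≠ 0 ↔ v ≠ 1 := fun v hv => by
    rw [← h.n1.ψ_one]
    exact ⟨fun h' e => h' (by rw [e]), fun h' e => h' (ψ_inj h h1 hv (one_mem _) e)⟩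
  obtain ⟨a0, ha0, ha00⟩ := h.n1.ψ_surj ![1, 0]
  have ha1 : a0 ≠ 1 := (hψ0 a0 ha0).1 (by rw [ha00]; intro e; simpa using congrFun e 0)
  have hW : W₁ ≠ ⊥ := fun e => ha1 (mem_bot.1 (e ▸ ha0))
  obtain ⟨s, s2, -, s3, s4⟩ := hsw a0 ha0 ha1 _ (conj_mem_cj (g := g) ha0)
    (fun e => ha1 (conj_eq_one_iff.1 e))
  have hs' : s⁻¹ = s := inv_eq_of_mul_eq_one_right s2
  let D : Subgroup G := 𝒩(W₁) ⊓ 𝒩(cj g W₁)
  have hodd : ∀ d ∈ D, Odd (orderOf d) := by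
    intro d hd
    by_contra ho
    obtain ⟨k, k1, k2⟩ := exists_inv ho
    obtain ⟨a, ha, a1, e1⟩ := fix_elem h.n1.comm (fun v hv => sq1 h.n1 hv) hW
      (pow_mem hd.1 k) k2
    obtain ⟨b, hb, b1, e2⟩ := fix_elem (h.n1.cjj g).comm (fun v hv => sq_cj h.n1 hv)
      (fun e => hW (cj_eq_bot_iff.1 e)) (pow_mem hd.2 k) k2
    exact hnc _ k1 k2 a ha a1 b hb b1 e1 e2
  let e : W₁ ≃ (Fin 2 → F) := Equiv.ofBijective (fun v => ψ₁ v)
    ⟨fun v w hvw => Subtype.ext (ψ_inj h h1 v.2 w.2 hvw), fun u => by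
      obtain ⟨v, hv, hu⟩ := h.n1.ψ_surj u
      exact ⟨⟨v, hv⟩, hu⟩⟩
  let β : D →* Equiv.Perm W₁ :=
    (MulAut.toPerm W₁).comp (W₁.normalizerMonoidHom.comp (inclusion inf_le_left))
  let α : D →* Equiv.Perm (Fin 2 → F) :=
    { toFun := fun d => e.permCongr (β d)
      map_one' := by ext u; simp
      map_mul' := fun x y => by ext u; simp }
  have hα : ∀ (d : D), ∀ v ∈ W₁, α d (ψ₁ v) = ψ₁ (d * v * (d : G)⁻¹) := fun d v hv => by
    have : ψ₁ v = e ⟨v, hv⟩ := rfl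
    rw [this]
    change e (β d (e.symm (e ⟨v, hv⟩))) = _
    rw [e.symm_apply_apply]
    rfl
  have hI : ∀ y : D, s * y * s⁻¹ = (y : G)⁻¹ → y ≠ 1 → ∀ z : G, z ≠ 1 → z * z = 1 →
      y * z = z * y → False := fun y hy y1 z z1 z2 hc =>
    y1 (Subtype.ext (no_inv h h1 h2 (hodd y y.2) s2 hy z1 z2 hc))
  refine core (D := D) (fun d => by rw [← orderOf_coe]; exact hodd d d.2) α ?_ ?_
    {y | s * y * s⁻¹ = (y : G)⁻¹} ?_ ?_ ?_ ?_ h.four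
  · intro d u v
    obtain ⟨u, hu, rfl⟩ := h.n1.ψ_surj u
    obtain ⟨v, hv, rfl⟩ := h.n1.ψ_surj v
    rw [← h.n1.ψ_mul _ hu _ hv, hα d _ (mul_mem hu hv), hα d _ hu, hα d _ hv,
      ← h.n1.ψ_mul _ (conj_mem_of_mem_normalizer d.2.1 hu) _ (conj_mem_of_mem_normalizer d.2.1 hv),
      conj_mul]
  · intro d
    obtain ⟨m, ρ, hm, -⟩ := h.n1.semi (norm_XX h.sc d.2.1) d.2.1
    have e1 : ∀ u, α d u = m.1 *ᵥ fun i => ρ (u i) := fun u => by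
      obtain ⟨v, hv, rfl⟩ := h.n1.ψ_surj u
      rw [hα d v hv, hm v hv]
    refine ⟨ρ, fun c u => ?_⟩
    rw [e1, e1, ← Matrix.mulVec_smul]
    congr 1
    ext i; simp
  · intro d hd k
    exact inv_pw hd k
  · intro u v hu0 hv0
    obtain ⟨u, hu, rfl⟩ := h.n1.ψ_surj u
    obtain ⟨v, hv, rfl⟩ := h.n1.ψ_surj v
    have u1 := (hψ0 u hu).1 hu0
    obtain ⟨s', t2, t1, t3, t4⟩ := hsw v hv ((hψ0 v hv).1 hv0) (s * u * s⁻¹)
      (s3 ▸ conj_mem_cj hu) (fun e => u1 (conj_eq_one_iff.1 e))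
    have ht' : s'⁻¹ = s' := inv_eq_of_mul_eq_one_right t2
    refine ⟨⟨s' * s, cj_eq_self_iff.1 ?_, cj_eq_self_iff.1 ?_⟩, ?_, ?_⟩
    · rw [← cj_cj, s3, t4]
    · rw [← cj_cj, s4, t3]
    · change s * (s' * s) * s⁻¹ = (s' * s)⁻¹
      rw [mul_inv_rev, ht', ← mul_assoc, mul_inv_cancel_right, hs']
    · rw [hα _ u hu]
      congr 1
      change s' * s * u * (s' * s)⁻¹ = v
      calc s' * s * u * (s' * s)⁻¹ = s' * (s * u * s⁻¹) * s'⁻¹ := by group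
        _ = (s' * s') * v * (s' * s')⁻¹ := by rw [← t1]; group
        _ = v := by rw [t2]; group
  · intro y hy y1 v hv
    obtain ⟨v, hv', rfl⟩ := h.n1.ψ_surj v
    by_contra h0
    rw [hα y v hv'] at hv
    exact hI y hy y1 v ((hψ0 v hv').1 h0) (sq1 h.n1 hv') (mul_inv_eq_iff_eq_mul.1
      (ψ_inj h h1 (conj_mem_of_mem_normalizer y.2.1 hv') hv' hv))
  · intro y hy y1 c hc
    obtain ⟨z, z1, z2, z3⟩ := scalar h h1 y.2.1 (c := c) (fun v hv => by rw [← hα y v hv, hc])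
    exact hI y hy y1 z z1 z2 z3

end Cfsg.Agent.C2
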