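import Mathlib

/-!
# Carmichael's presentation of the alternating group of degree seven
-/

set_option autoImplicit false

namespace Cfsg.Agent.C2.Carm

open Subgroup Equiv

variable {G : Type*} [Group G]

theorem step [Finite G] (s : Finset G) (a : G) (ha : a ^ 3 = 1) (h1 : ∀ x ∈ s, x ^ 3 = 1)
    (h2 : ∀ x ∈ s, ∀ y ∈ s, x ≠ y → (x * y) ^ 2 = 1) (h3 : ∀ x ∈ s, (x * a) ^ 2 = 1) :
    Nat.card (closure (insert a (s : Set G))) ≤ (s.card + 3) * Nat.card (closure (s : Set G)) := by
  classical
  set H := closure (s : Set G) with hH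
  let q : G → G ⧸ H := QuotientGroup.mk
  let R : Finset G := insert 1 (insert a (insert (a * a) (s.image (· * (a * a)))))
  have hR : R.card ≤ s.card + 3 :=
    (Finset.card_insert_le _ _).trans (Nat.succ_le_succ ((Finset.card_insert_le _ _).trans
      (Nat.succ_le_succ ((Finset.card_insert_le _ _).trans (Nat.succ_le_succ Finset.card_image_le)))))
  have sm : ∀ g x y : G, q x = q y → q (g * x) = q (g * y) := fun g x y e =>
    QuotientGroup.eq.2 (by simpa [mul_assoc] using QuotientGroup.eq.1 e)
  have aaa : a * (a * a) = 1 := by rw [← ha, pow_three]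
  have xxx : ∀ x ∈ s, ∀ z, x * (x * (x * z)) = z := fun x hx z => by
    rw [← mul_assoc, ← mul_assoc, ← pow_three', h1 x hx, one_mul]
  have e1 : ∀ x ∈ s, q (x * a) = q (a * a) := fun x hx => by
    refine (QuotientGroup.eq.2 ?_).symm
    have : (a * a)⁻¹ * (x * a) = x⁻¹ := by
      rw [← eq_inv_of_mul_eq_one_left aaa, eq_inv_iff_mul_eq_one, ← mul_left_inj a, mul_assoc,
        mul_assoc, ← pow_two, h3 x hx, mul_one, one_mul]
    rw [this]
    exact inv_mem (subset_closure hx)
  have e2 : ∀ x ∈ s, q (x * (x * (a * a))) = q a := fun x hx => by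
    rw [← sm x _ _ (sm x _ _ (e1 x hx)), xxx x hx]
  have key : ∀ g ∈ insert a (s : Set G), ∀ r ∈ R, ∃ r' ∈ R, q (g * r) = q r' := by
    intro g hg r hr
    have m1 : (1 : G) ∈ R := by simp [R]
    have m2 : a ∈ R := by simp [R]
    have m3 : a * a ∈ R := by simp [R]
    have m4 : ∀ x ∈ s, x * (a * a) ∈ R := fun x hx => by
      simp only [R, Finset.mem_insert, Finset.mem_image]; exact Or.inr (Or.inr (Or.inr ⟨x, hx, rfl⟩))
    simp only [R, Finset.mem_insert, Finset.mem_image] at hr
    rcases hg with rfl | hg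
    · rcases hr with rfl | rfl | rfl | ⟨x, hx, rfl⟩
      · exact ⟨_, m2, by rw [mul_one]⟩
      · exact ⟨_, m3, rfl⟩
      · exact ⟨_, m1, by rw [aaa]⟩
      · refine ⟨_, m4 x hx, ?_⟩
        have : g * (x * (g * g)) = x * (x * g) := by
          rw [← mul_right_inj x, xxx x hx, ← mul_assoc x g, ← mul_assoc x g, ← mul_assoc, ← pow_two,
            h3 x hx, one_mul]
        rw [this, sm x _ _ (e1 x hx)]
    · rcases hr with rfl | rfl | rfl | ⟨x, hx, rfl⟩
      · exact ⟨_, m1, QuotientGroup.eq.2 (by simpa using subset_closure hg)⟩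
      · exact ⟨_, m3, e1 g hg⟩
      · exact ⟨_, m4 g hg, rfl⟩
      · by_cases e : g = x
        · exact ⟨_, m2, e ▸ e2 g hg⟩
        refine ⟨_, m4 x hx, ?_⟩
        have : g * (x * (a * a)) = x * (x * (g * (g * (a * a)))) := by
          rw [← mul_right_inj x, xxx x hx, ← mul_right_inj g, xxx g hg, ← mul_assoc g x,
            ← mul_assoc g x, ← mul_assoc, ← pow_two, h2 g hg x hx e, one_mul]
        rw [this, sm x _ _ (sm x _ _ (e2 g hg)), sm x _ _ (e1 x hx)]
  have all : ∀ g ∈ closure (insert a (s : Set G)), ∃ r ∈ R, q g = q r := fun g hg => by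
    rw [← mem_toSubmonoid, closure_toSubmonoid_of_finite] at hg
    induction hg using Submonoid.closure_induction_left with
    | one => exact ⟨1, by simp [R], rfl⟩
    | mul_left x hx y _ ih =>
      obtain ⟨r, hr, e⟩ := ih
      obtain ⟨r', hr', e'⟩ := key x hx r hr
      exact ⟨r', hr', (sm x _ _ e).trans e'⟩
  let f : R × H → G := fun p => p.1 * p.2
  have hs : (closure (insert a (s : Set G)) : Set G) ⊆ Set.range f := fun g hg => by
    obtain ⟨r, hr, e⟩ := all g hg
    exact ⟨(⟨r, hr⟩, ⟨r⁻¹ * g, QuotientGroup.eq.1 e.symm⟩), by simp [f]⟩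
  calc _ ≤ Nat.card (Set.range f) := Nat.card_mono (Set.toFinite _) hs
    _ ≤ Nat.card (R × H) := Finite.card_range_le f
    _ ≤ _ := by
      rw [Nat.card_prod, Nat.card_eq_finsetCard]
      exact Nat.mul_le_mul_right _ hR

theorem card_le [Finite G] (x : Fin 5 → G) (h1 : ∀ i, x i ^ 3 = 1)
    (h2 : ∀ i j, i ≠ j → (x i * x j) ^ 2 = 1) : Nat.card (closure (Set.range x)) ≤ 2520 := by
  classical
  have key : ∀ t : Finset (Fin 5), 2 * Nat.card (closure ((t.image x : Finset G) : Set G)) ≤
      (t.card + 2).factorial := fun t => by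
    induction t using Finset.induction_on with
    | empty => simp
    | insert i t hi ih =>
      have := step (t.image x) (x i) (h1 i) (fun y hy => by
        obtain ⟨j, -, rfl⟩ := Finset.mem_image.1 hy; exact h1 j) (fun y hy z hz e => by
        obtain ⟨j, -, rfl⟩ := Finset.mem_image.1 hy
        obtain ⟨k, -, rfl⟩ := Finset.mem_image.1 hz
        exact h2 j k fun e' => e (e' ▸ rfl)) fun y hy => by
        obtain ⟨j, hj, rfl⟩ := Finset.mem_image.1 hy
        exact h2 j i fun e => hi (e ▸ hj)
      rw [Finset.image_insert, Finset.coe_insert, Finset.card_insert_of_notMem hi,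
        show t.card + 1 + 2 = (t.card + 2) + 1 by ring, Nat.factorial_succ]
      calc _ ≤ 2 * ((t.card + 3) * _) := Nat.mul_le_mul_left _ (this.trans
          (Nat.mul_le_mul_right _ (Nat.add_le_add_right Finset.card_image_le 3)))
        _ = (t.card + 3) * (2 * _) := by ring
        _ ≤ _ := Nat.mul_le_mul_left _ ih
  have := key Finset.univ
  rw [Finset.coe_image, Finset.coe_univ, Set.image_univ] at this
  simp only [Finset.card_univ, Fintype.card_fin, Nat.factorial] at this
  omega

/-- The three-cycles through `0` and `1`. -/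
def cyc (i : Fin 5) : alternatingGroup (Fin 7) :=
  ⟨swap 0 1 * swap 0 (i.succ.succ), by
    rw [Perm.mem_alternatingGroup]; revert i; decide⟩

theorem closure_cyc : closure (Set.range cyc) = ⊤ := by
  set J := (closure (Set.range cyc)).map (alternatingGroup (Fin 7)).subtype with hJ
  have mc : ∀ i, (cyc i).1 ∈ J := fun i => ⟨_, subset_closure ⟨i, rfl⟩, rfl⟩
  have tt : ∀ σ : Perm (Fin 7), swap 0 1 * (swap 0 1 * σ) = σ := fun σ => by
    rw [← mul_assoc, swap_mul_self, one_mul]
  have nj : ∀ σ ∈ J, swap 0 1 * σ * swap 0 1 ∈ J := by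
    rintro _ ⟨σ, hσ, rfl⟩
    induction hσ using closure_induction with
    | mem x hx =>
      obtain ⟨i, rfl⟩ := hx
      rw [show swap 0 1 * (alternatingGroup (Fin 7)).subtype (cyc i) * swap 0 1 = (cyc i).1⁻¹ by
        revert i; decide]
      exact inv_mem (mc i)
    | one => simp
    | mul x y _ _ h1 h2 =>
      have := mul_mem h1 h2
      rwa [mul_assoc _ (swap 0 1), mul_assoc (swap 0 1) _ (swap 0 1), tt, ← mul_assoc,
        mul_assoc (swap 0 1), ← map_mul] at this
    | inv x _ h => simpa [mul_assoc] using inv_mem h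
  let P : Subgroup (Perm (Fin 7)) :=
    { carrier := {σ | σ ∈ J ∨ swap 0 1 * σ ∈ J}
      one_mem' := Or.inl (one_mem _)
      mul_mem' := by
        rintro a b (ha | ha) (hb | hb)
        · exact Or.inl (mul_mem ha hb)
        · right
          have := mul_mem (nj a ha) hb
          rwa [mul_assoc, tt, mul_assoc] at this
        · right; rw [← mul_assoc]; exact mul_mem ha hb
        · left
          have := mul_mem (nj _ ha) hb
          rwa [tt, mul_assoc, tt] at this
      inv_mem' := by
        rintro a (ha | ha)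
        · exact Or.inl (inv_mem ha)
        · right
          have := nj _ (inv_mem ha)
          simpa [mul_assoc] using this }
  have h0 : ∀ i : Fin 7, swap 0 i ∈ P := fun i => by
    refine Fin.cases (Or.inl (by rw [show swap (0 : Fin 7) 0 = 1 from swap_self 0]; exact one_mem _)) (fun i => Fin.cases (Or.inr (by simp)) (fun i => ?_) i) i
    exact Or.inr (mc i)
  have hP : P = ⊤ := by
    rw [eq_top_iff, ← Perm.closure_isSwap, closure_le]
    rintro _ ⟨i, j, hij, rfl⟩
    by_cases hi : i = 0
    · exact hi ▸ h0 j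
    by_cases hj : j = 0
    · rw [swap_comm]; exact hj ▸ h0 i
    rw [← swap_mul_swap_mul_swap (x := j) (y := 0) hj hij.symm, swap_comm j 0]
    exact mul_mem (mul_mem (h0 i) (h0 j)) (h0 i)
  refine eq_top_iff.2 fun σ _ => ?_
  rcases hP.ge (mem_top σ.1) with ⟨τ, h, e⟩ | ⟨τ, h, e⟩
  · rwa [← Subtype.ext e]
  · have := congrArg Perm.sign e
    rw [map_mul, Perm.sign_swap (by decide), Perm.mem_alternatingGroup.1 σ.2] at this
    exact absurd ((Perm.mem_alternatingGroup.1 τ.2).symm.trans this) (by decide)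

theorem card_alt : Nat.card (alternatingGroup (Fin 7)) = 2520 := by
  have := two_mul_nat_card_alternatingGroup (α := Fin 7)
  rw [Nat.card_perm, Nat.card_eq_fintype_card (α := Fin 7), Fintype.card_fin] at this
  simp only [Nat.factorial] at this
  omega

theorem exists_hom [Finite G] (x : Fin 5 → G) (h1 : ∀ i, x i ^ 3 = 1)
    (h2 : ∀ i j, i ≠ j → (x i * x j) ^ 2 = 1) :
    ∃ f : alternatingGroup (Fin 7) →* G, ∀ i, f (cyc i) = x i := by
  let y : Fin 5 → G × alternatingGroup (Fin 7) := fun i => (x i, cyc i)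
  have c := card_le y (fun i => Prod.ext (h1 i) (by change cyc i ^ 3 = 1; revert i; decide))
    fun i j h => Prod.ext (h2 i j h) (by change (cyc i * cyc j) ^ 2 = 1; revert i j; decide)
  let p := (MonoidHom.snd G (alternatingGroup (Fin 7))).comp (closure (Set.range y)).subtype
  have hs : Function.Surjective p := by
    rw [← MonoidHom.range_eq_top, eq_top_iff, ← closure_cyc, closure_le]
    rintro _ ⟨i, rfl⟩
    exact ⟨⟨y i, subset_closure ⟨i, rfl⟩⟩, rfl⟩
  let e := MulEquiv.ofBijective p (hs.bijective_of_nat_card_le (card_alt ▸ c))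
  refine ⟨((MonoidHom.fst G _).comp (closure (Set.range y)).subtype).comp e.symm.toMonoidHom,
    fun i => ?_⟩
  have : e.symm (cyc i) = ⟨y i, subset_closure ⟨i, rfl⟩⟩ := e.symm_apply_eq.2 rfl
  simp [this, y]

theorem equiv [Finite G] (hG : Nat.card G ≤ 2520) (x : Fin 5 → G) (h1 : ∀ i, x i ^ 3 = 1)
    (h2 : ∀ i j, i ≠ j → (x i * x j) ^ 2 = 1) (h0 : x 0 ≠ 1) :
    Nonempty (G ≃* alternatingGroup (Fin 7)) := by
  obtain ⟨f, hf⟩ := exists_hom x h1 h2
  haveI : IsSimpleGroup (alternatingGroup (Fin 7)) := alternatingGroup.isSimpleGroup (by simp)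
  have hi : Function.Injective f := (MonoidHom.ker_eq_bot_iff f).1
    (f.normal_ker.eq_bot_or_eq_top.resolve_right fun e => h0 (hf 0 ▸ e.ge (mem_top _)))
  exact ⟨(MulEquiv.ofBijective f (hi.bijective_of_nat_card_le (card_alt ▸ hG))).symm⟩

end Cfsg.Agent.C2.Carm
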