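import Cfsg.Agent.Lib.G74.Main
import Cfsg.Agent.Lib.H1.StA
import Cfsg.Agent.Lib.PU.SL2
import Cfsg.Agent.Lib.ZD.Main

/-!
# S1170 (strongly closed 2-subgroups of class two): definitions (see notes/C2.md)
-/

set_option autoImplicit false
set_option linter.unusedSectionVars false

namespace Cfsg.Agent.C2

open Subgroup Cfsg.Agent.H6 Cfsg.Agent.FT Cfsg.Agent.BD.P1 Cfsg.Agent.G75 Cfsg.Agent.G74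
open Cfsg.Agent.St (Od)
open scoped commutatorElement MatrixGroups Matrix

variable {G : Type*} [Group G]

/-- `T` is the set of conjugates of the elements of the strongly closed `2`-subgroup `A`. -/
structure SA (T : Set G) (A : Subgroup G) : Prop where
  sc : SC T
  sub : (A : Set G) ⊆ T
  max : ∀ x ∈ T, x ∈ 𝒩(A) → x ∈ A

/-- `A` is strongly closed of class at most two. -/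
structure SB (T : Set G) (A : Subgroup G) : Prop extends SA T A where
  cl : ⁅A, A⁆ ≤ 𝒞(A)

/-- `Ω₁ Z(A)`. -/
def Zo (A : Subgroup G) : Subgroup G := omegaOne 2 (A ⊓ 𝒞(A))

/-- The part of `N_H(Q)` that comes from larger subgroups of `A`. -/
def MM (H A Q : Subgroup G) : Subgroup G :=
  (H ⊓ 𝒞(Q)) ⊔ ⨆ (R : Subgroup G) (_ : Q < R ∧ R ≤ A), H ⊓ 𝒩(Q) ⊓ 𝒩(R)

/-- `Q` is essential in `H` relative to `A`. -/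
structure Ess (H A Q : Subgroup G) : Prop where
  lt : Q < A
  cent : A ⊓ 𝒞(Q) ≤ Q
  nle : ¬ H ⊓ 𝒩(Q) ≤ MM H A Q

/-- `X_Q = ⟨A ^ N(Q)⟩`. -/
def XX (T : Set G) (Q : Subgroup G) : Subgroup G := Nc T 𝒩(Q)

/-- `V_Q = ⟨Ω₁ Z(A) ^ N(Q)⟩`. -/
def VV (A Q : Subgroup G) : Subgroup G := ⨆ (g : G) (_ : g ∈ 𝒩(Q)), cj g (Zo A)

/-- `X` induces `SL₂(F)` on `V`, `V / C_V(X)` is the natural module and `A` induces the upper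
unitriangular group. -/
structure Nm (F : Type) [Field F] (X V A : Subgroup G) (φ : G → SL(2, F))
    (ψ : G → Fin 2 → F) : Prop where
  le : A ≤ X
  norm : X ≤ 𝒩(V)
  elem : IsElementaryAbelian 2 V
  φ_mul : ∀ x ∈ X, ∀ y ∈ X, φ (x * y) = φ x * φ y
  φ_surj : ∀ m, ∃ x ∈ X, φ x = m
  φ_ker : ∀ x ∈ X, φ x = 1 ↔ x ∈ 𝒞(V)
  ψ_mul : ∀ v ∈ V, ∀ w ∈ V, ψ (v * w) = ψ v + ψ w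
  ψ_surj : ∀ u, ∃ v ∈ V, ψ v = u
  ψ_ker : ∀ v ∈ V, ψ v = 0 ↔ v ∈ 𝒞(X)
  act : ∀ x ∈ X, ∀ v ∈ V, ψ (x * v * x⁻¹) = (φ x).1 *ᵥ ψ v
  φ_A : ∀ a ∈ A, φ a 0 0 = 1 ∧ φ a 1 0 = 0 ∧ φ a 1 1 = 1
  A_surj : ∀ s, ∃ a ∈ A, φ a 0 1 = s
  fix : ∀ v ∈ V, ψ v 1 = 0 → v ∈ 𝒞(A)

/-- The standing hypothesis of part A: a minimal strongly closed subgroup of class two. -/
structure Min (T : Set G) (A : Subgroup G) : Prop extends SB T A where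
  ne : A ≠ ⊥
  min : ∀ B ≤ A, SA (cls B) B → B = ⊥ ∨ B = A
  nab : ¬ A ≤ 𝒞(A)

/-- The factor `D = W₁ W₂` of `A = D × E`. -/
structure Fac (F : Type) [Field F] (T : Set G) (A W₁ W₂ E : Subgroup G)
    (φ₁ φ₂ : G → SL(2, F)) (ψ₁ ψ₂ : G → Fin 2 → F) : Prop where
  sup : W₁ ⊔ W₂ ⊔ E = A
  ind : (W₁ ⊔ W₂) ⊓ E = ⊥
  cm : E ≤ 𝒞(W₁ ⊔ W₂)
  c1 : A ⊓ 𝒞(W₁) = W₁ ⊔ E
  c2 : A ⊓ 𝒞(W₂) = W₂ ⊔ E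
  n1 : Nm F (XX T (W₁ ⊔ E)) W₁ A φ₁ ψ₁
  n2 : Nm F (XX T (W₂ ⊔ E)) W₂ A φ₂ ψ₂
  o1 : Od (XX T (W₁ ⊔ E)) ≤ 𝒞(E)
  o2 : Od (XX T (W₂ ⊔ E)) ≤ 𝒞(E)
  inf : W₁ ⊓ W₂ = ⁅W₁, W₂⁆
  z1 : W₁ ⊓ 𝒞(A) = W₁ ⊓ W₂
  z2 : W₂ ⊓ 𝒞(A) = W₁ ⊓ W₂
  inv : ∀ a ∈ W₁ ⊔ W₂, a * a = 1 → a ∈ W₁ ∨ a ∈ W₂
  cc : W₁ ⊓ 𝒞(XX T (W₁ ⊔ E)) ⊓ 𝒞(XX T (W₂ ⊔ E)) = ⊥

/-- `D` is a factor of `A` with complement `E`. -/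
def IsFac (T : Set G) (A D E : Subgroup G) : Prop :=
  ∃ (F : Type) (_ : Field F) (_ : Fintype F) (_ : CharP F 2) (W₁ W₂ : Subgroup G)
    (φ₁ φ₂ : G → SL(2, F)) (ψ₁ ψ₂ : G → Fin 2 → F), D = W₁ ⊔ W₂ ∧ Fac F T A W₁ W₂ E φ₁ φ₂ ψ₁ ψ₂ ∧
      ∀ Q, Ess ⊤ A Q → E ≤ Q → Q = W₁ ⊔ E ∨ Q = W₂ ⊔ E

/-- The product of the other factors. -/
def Co (𝓓 : Set (Subgroup G)) (D : Subgroup G) : Subgroup G := sSup (𝓓 \ {D})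

/-- The result of part A3. -/
structure Dec (T : Set G) (A : Subgroup G) (𝓓 : Set (Subgroup G)) : Prop extends SB T A where
  sup : sSup 𝓓 = A
  fac : ∀ D ∈ 𝓓, IsFac T A D (Co 𝓓 D)
  conj : ∀ g ∈ 𝒩(A), ∀ D ∈ 𝓓, cj g D ∈ 𝓓
  trans : ∀ D ∈ 𝓓, ∀ D' ∈ 𝓓, ∃ g ∈ 𝒩(A), cj g D = D'
  ess : ∀ Q, Ess ⊤ A Q → ∃ D ∈ 𝓓, Co 𝓓 D ≤ Q

/-- `A` is a direct product of factors that are permuted by fusion. -/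
structure PD (T : Set G) (A : Subgroup G) (𝓓 : Set (Subgroup G)) (L : Subgroup G → Subgroup G) :
    Prop extends SB T A where
  sup : sSup 𝓓 = A
  cm : ∀ D ∈ 𝓓, Co 𝓓 D ≤ 𝒞(D)
  ind : ∀ D ∈ 𝓓, D ⊓ Co 𝓓 D = ⊥
  nab : ∀ D ∈ 𝓓, ¬ D ≤ 𝒞(D)
  gen : ∀ D ∈ 𝓓, D ≤ closure {x | x ∈ D ∧ x * x = 1}
  conj : ∀ g ∈ 𝒩(A), ∀ D ∈ 𝓓, cj g D ∈ 𝓓
  /-- fusion permutes the factors -/
  pf : ∀ (g : G) (P : Subgroup G), P ≤ A → cj g P ≤ A → ∃ σ : Subgroup G → Subgroup G,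
    Set.BijOn σ 𝓓 𝓓 ∧ ∀ I ⊆ 𝓓, cj g (P ⊓ sSup I) ≤ sSup (σ '' I)
  LD : ∀ D ∈ 𝓓, D ≤ L D
  Lc : ∀ D ∈ 𝓓, L D ≤ 𝒞(Co 𝓓 D)
  Lg : ∀ D ∈ 𝓓, L D ≤ ⨆ (g : G) (_ : g ∈ L D), cj g D
  Lz : ∀ D ∈ 𝓓, ∀ x ∈ D, x * x = 1 → ∃ g ∈ L D, g * x * g⁻¹ ∈ D ⊓ 𝒞(D)

/-- One factor: the configuration of rank two. -/
structure R2 (F : Type) [Field F] (T : Set G) (A W₁ W₂ : Subgroup G)
    (φ₁ φ₂ : G → SL(2, F)) (ψ₁ ψ₂ : G → Fin 2 → F) : Prop extends SB T A where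
  sup : W₁ ⊔ W₂ = A
  c1 : A ⊓ 𝒞(W₁) = W₁
  c2 : A ⊓ 𝒞(W₂) = W₂
  n1 : Nm F (XX T W₁) W₁ A φ₁ ψ₁
  n2 : Nm F (XX T W₂) W₂ A φ₂ ψ₂
  inf : W₁ ⊓ W₂ = ⁅W₁, W₂⁆
  z : A ⊓ 𝒞(A) = W₁ ⊓ W₂
  inv : ∀ a ∈ A, a * a = 1 → a ∈ W₁ ∨ a ∈ W₂
  cc : W₁ ⊓ 𝒞(XX T W₁) ⊓ 𝒞(XX T W₂) = ⊥
  ess : ∀ Q, Ess ⊤ A Q → Q = W₁ ∨ Q = W₂

/-- The result of part A6: `A` is a Sylow subgroup, `N(W i)` acts with odd field part. -/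
structure R3 (F : Type) [Field F] (T : Set G) (A W₁ W₂ : Subgroup G)
    (φ₁ φ₂ : G → SL(2, F)) (ψ₁ ψ₂ : G → Fin 2 → F) : Prop
    extends R2 F T A W₁ W₂ φ₁ φ₂ ψ₁ ψ₂ where
  syl : SylIn 2 A ⊤
  m1 : 𝒩(A) ≤ 𝒩(W₁)
  m2 : 𝒩(A) ≤ 𝒩(W₂)
  four : 4 ≤ Nat.card F

/-- The result of part B: characteristic two type. -/
structure R4 (F : Type) [Field F] (T : Set G) (A W₁ W₂ : Subgroup G)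
    (φ₁ φ₂ : G → SL(2, F)) (ψ₁ ψ₂ : G → Fin 2 → F) : Prop
    extends R3 F T A W₁ W₂ φ₁ φ₂ ψ₁ ψ₂ where
  s1 : 𝒞(W₁) = W₁
  s2 : 𝒞(W₂) = W₂
  t1 : ∀ t ∈ W₁ ⊓ W₂, t ∉ 𝒞(XX T W₂) → 𝒞[t] ≤ 𝒩(W₁)
  t2 : ∀ t ∈ W₁ ⊓ W₂, t ∉ 𝒞(XX T W₁) → 𝒞[t] ≤ 𝒩(W₂)

end Cfsg.Agent.C2
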