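import Cfsg.Agent.Lib.C2.R2a
import Cfsg.Agent.Lib.C2.A7

/-!
# S1170: the case `q = 2` (see notes/C2.md)
-/

set_option autoImplicit false
set_option linter.unusedSectionVars false
set_option linter.unusedVariables false

namespace Cfsg.Agent.C2

open Subgroup Cfsg.Agent.H6 Cfsg.Agent.FT Cfsg.Agent.BD.P1 Cfsg.Agent.G75 Cfsg.Agent.G74
open Cfsg.Agent.St (Od)
open scoped commutatorElement MatrixGroups Matrix

universe u

variable {G : Type*} [Group G] [Finite G] {T : Set G}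
variable {A B C D E H K L M N P Q R S U V W X Y W₁ W₂ : Subgroup G}
variable {a b c d e g h n r s t v w x y z : G}
variable {F : Type} [Field F] [Fintype F] [CharP F 2] {φ φ₁ φ₂ : G → SL(2, F)}
  {ψ ψ₁ ψ₂ : G → Fin 2 → F}

theorem R2.card_eight (h : R2 F T A W₁ W₂ φ₁ φ₂ ψ₁ ψ₂) (h2 : Nat.card F = 2) :
    Nat.card (W₁ ⊓ W₂ : Subgroup G) = 2 ∧ Nat.card A = 8 := by
  have h1 := h.card_U
  have h3 := card_mul_idx (inf_le_left : W₁ ⊓ W₂ ≤ W₁)
  have h4 := card_mul_idx h.le1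
  rw [h.C_bot h2, card_bot, h2] at h1
  rw [inf_relIndex_left, h.idx2, h2] at h3
  rw [h.idx1, h2] at h4
  omega

theorem R2.dih (h : R2 F T A W₁ W₂ φ₁ φ₂ ψ₁ ψ₂) (h2 : Nat.card F = 2) :
    ∃ r s, Dih A 4 r s := by
  obtain ⟨v, hv, h3⟩ := SetLike.not_le_iff_exists.1 h.ne
  obtain ⟨w, hw, h4⟩ := SetLike.not_le_iff_exists.1 h.symm.ne
  have h5 := h.n1.comm_not_mem (h.le2 hw) (fun h5 => h4 (h.c1.le ⟨h.le2 hw, h5⟩)) hv
    fun h5 => h3 (h.z1.le ⟨hv, h5⟩).2
  have h6 : w * v ≠ v * w := fun h6 => h5 (by rw [h6]; simp)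
  have h7 := h.n1.inv_eq hv
  have h8 := h.n2.inv_eq hw
  have h9 := h.n1.sq (W₁.mul_mem hv (h.n1.cj_mem (h.n1.le (h.le2 hw)) hv))
  have ho : orderOf (v * w) = 4 := by
    refine orderOf_eq_prime_pow (p := 2) (n := 1) (fun h10 => h6 ?_) ?_
    · rw [← h7, ← h8, ← mul_inv_rev, h7, h8]
      exact inv_eq_of_mul_eq_one_right (by rwa [pow_one, pow_two] at h10)
    · rw [← h9, h8]
      change (v * w) ^ 4 = _
      simp only [pow_succ, mul_assoc, pow_zero, one_mul]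
  have hn : w ∉ zpowers (v * w) := fun h10 => h6 (by
    obtain ⟨k, hk⟩ := h10
    have : v * w * w = w * (v * w) := by
      have h11 := (Commute.refl (v * w)).zpow_right k
      rw [show (v * w) ^ k = w from hk] at h11
      exact h11
    rw [← mul_assoc] at this
    exact (mul_right_cancel this).symm)
  have hr := A.mul_mem (h.le1 hv) (h.le2 hw)
  refine ⟨v * w, w, hr, h.le2 hw, ho, h.n2.sq hw, by rw [mul_inv_rev, h7, ← mul_assoc, mul_inv_cancel_right, h8], hn,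
    fun x hx => ?_⟩
  have hi := card_mul_idx (zpowers_le.2 hr)
  rw [Nat.card_zpowers, ho, (h.card_eight h2).2] at hi
  by_cases h10 : x ∈ zpowers (v * w)
  · obtain ⟨k, hk⟩ := h10
    exact ⟨k, Or.inl hk.symm⟩
  · obtain ⟨k, hk⟩ : x * w ∈ zpowers (v * w) :=
      (mul_mem_iff_of_index_two (H := (zpowers (v * w)).subgroupOf A)
        (by change (zpowers (v * w)).relIndex A = 2; omega) (a := ⟨x, hx⟩)
        (b := ⟨w, h.le2 hw⟩)).2 (iff_of_false h10 hn)
    exact ⟨k, Or.inr (by rw [show (v * w) ^ k = x * w from hk, mul_assoc, h.n2.sq hw, mul_one])⟩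

theorem R2.two [IsSimpleGroup G] (h : R2 F T A W₁ W₂ φ₁ φ₂ ψ₁ ψ₂) (hS : SylIn 2 A ⊤)
    (h2 : Nat.card F = 2) :
    (∃ (F : Type) (_ : Field F) (_ : Fintype F),
      (Fintype.card F % 16 = 7 ∨ Fintype.card F % 16 = 9) ∧
        Nonempty (G ≃* Matrix.ProjectiveSpecialLinearGroup (Fin 2) F)) ∨
      Nonempty (G ≃* alternatingGroup (Fin 7)) := by
  obtain ⟨r, s, hd⟩ := h.dih h2
  obtain ⟨hU, hA⟩ := h.card_eight h2
  have hD := GW.dy_of_syl hd (syl_iff_sylIn.2 hS)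
  have hs : IsSimpleGroup (⊤ : Subgroup G) := topEquiv.isSimpleGroup
  have hi := card_mul_idx hS.le
  have hodd := hS.not_dvd_relIndex
  rw [hA] at hi
  have hO : GW.OO (⊤ : Subgroup G) = ⊥ := (GW.normal_cases hs (core_normal _ _)).resolve_right
    fun h3 => by
      have := GW.odd_OO (⊤ : Subgroup G)
      rw [show GW.OO (⊤ : Subgroup G) = ⊤ from h3, ← hi, Nat.odd_iff] at this
      omega
  rcases GW.concl hD hO with h3 | ⟨a, b, hab, h3, -⟩ | ⟨L, q, h3, -⟩ | ⟨h3, -⟩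
  · have h4 := hS.eq_of_le h3 le_top le_rfl
    have h5 : NormalIn (W₁ ⊓ W₂) ⊤ := by rw [← h.z, h4]; exact Zc_normal A
    rcases GW.normal_cases hs h5 with h6 | h6
    · rw [h6, card_bot] at hU; omega
    · rw [h6, h4, hA] at hU; omega
  · have := hab.card
    rcases GW.normal_cases hs h3 with h6 | h6
    · rw [h6, card_bot] at this; omega
    · rw [h6, ← hi] at this; omega
  · obtain rfl := (GW.normal_cases hs h3.normal).resolve_left h3.ne_bot
    obtain ⟨F', _, _, h4, h5, ⟨e⟩⟩ := h3.l2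
    refine Or.inl ⟨F', inferInstance, inferInstance, ?_, ⟨topEquiv.symm.trans e⟩⟩
    have h6 := h3.card
    have h7 : 8 ∣ GW.aq q := by
      have h8 : 8 ∣ GW.aq q * (q * GW.bq q) := ⟨_, by rw [hi, h6]; ring⟩
      exact (Nat.Coprime.pow_left 3 (Nat.coprime_two_left.2
        (h5.mul (GW.odd_bq h5)))).dvd_of_dvd_mul_right h8
    have h8 : ¬ 16 ∣ GW.aq q := fun ⟨k, hk⟩ => hodd ⟨q * k * GW.bq q,
      Nat.eq_of_mul_eq_mul_left (by norm_num : 0 < 8) (by rw [hi, h6, hk]; ring)⟩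
    have h9 := h3.five
    rw [h4]
    unfold GW.aq at h7 h8
    split_ifs at h7 h8 <;> omega
  · exact Or.inr (a7 hD h3)

end Cfsg.Agent.C2
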