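import Cfsg.Agent.Lib.C2.A3
import Cfsg.Agent.Lib.C2.A5d
import Cfsg.Agent.Lib.C2.A5
import Cfsg.Agent.Lib.C2.A6
import Cfsg.Agent.Lib.C2.Two
import Cfsg.Agent.Lib.C2.B
import Cfsg.Agent.Lib.C2.C1
import Cfsg.Agent.Lib.C2.C2

/-!
# S1170: the assembly (see notes/C2.md)
-/

set_option autoImplicit false
set_option linter.unusedSectionVars false
set_option linter.unusedVariables false

namespace Cfsg.Agent.C2

open Subgroup Cfsg.Agent.H6 Cfsg.Agent.FT Cfsg.Agent.BD.P1 Cfsg.Agent.G75 Cfsg.Agent.G74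
open scoped commutatorElement MatrixGroups Matrix

variable {G : Type*} [Group G] [Finite G] {T : Set G} {A : Subgroup G}

theorem psl_sq {F : Type} [Field F] [Fintype F] [CharP F 2]
    (x : Matrix.ProjectiveSpecialLinearGroup (Fin 2) F) (k : ℕ) (h : x ^ 2 ^ k = 1) : x * x = 1 := by
  have key : ∀ x : Matrix.ProjectiveSpecialLinearGroup (Fin 2) F, x * x * (x * x) = 1 → x * x = 1 :=
    fun x h => by
    obtain ⟨m, rfl⟩ := QuotientGroup.mk_surjective x
    simp only [← QuotientGroup.mk_mul, QuotientGroup.eq_one_iff] at h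
    obtain ⟨r, -, hr⟩ := Matrix.SpecialLinearGroup.mem_center_iff.1 h
    have a : (m * m * (m * m)) 0 0 = (m * m * (m * m)) 1 1 :=
      (congrFun (congrFun hr 0) 0).symm.trans (congrFun (congrFun hr 1) 1)
    have two : (2 : F) = 0 := CharTwo.two_eq_zero
    have d := sl_det m
    simp only [sl_mul] at a
    have t : m 0 0 + m 1 1 = 0 := pow_eq_zero_iff (n := 4) (by norm_num) |>.1 (by grind)
    rw [← QuotientGroup.mk_mul, show m * m = 1 from sl_ext (by simp [sl_mul]; grind)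
      (by simp [sl_mul]; grind) (by simp [sl_mul]; grind) (by simp [sl_mul]; grind)]
    rfl
  induction k generalizing x with
  | zero => simp_all
  | succ k ih => exact key x (ih (x * x) (by rw [← pow_two, ← pow_mul, ← pow_succ', h]))

theorem Min.main [IsSimpleGroup G] (h : Min T A) (hse : ¬ SE G) :
    (∃ (F : Type) (_ : Field F) (_ : Fintype F),
      (Fintype.card F % 16 = 7 ∨ Fintype.card F % 16 = 9) ∧
        Nonempty (G ≃* Matrix.ProjectiveSpecialLinearGroup (Fin 2) F)) ∨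
    (∃ (F : Type) (_ : Field F) (_ : Fintype F), CharP F 2 ∧
      Nonempty (G ≃* Matrix.ProjectiveSpecialLinearGroup (Fin 3) F)) ∨
    (∃ (F : Type) (_ : Field F) (_ : Fintype F), CharP F 2 ∧ 4 ≤ Fintype.card F ∧
      Nonempty (G ≃* PSp 2 F)) ∨ Nonempty (G ≃* alternatingGroup (Fin 7)) := by
  obtain ⟨𝓓, hD⟩ := h.dec
  obtain ⟨L, hL⟩ := hD.pd
  obtain ⟨F, _, _, _, W₁, W₂, φ₁, φ₂, ψ₁, ψ₂, h2⟩ := hD.r2 h.ne fun D hD' =>
    (le_inf (le_top.trans (h.nc_top h.ne).ge) le_rfl).trans (hL.star hD')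
  by_cases e : Nat.card F = 2
  · exact (h2.two h2.syl e).imp_right fun a => Or.inr (Or.inr a)
  have h4 := R3.r4 ⟨h2, h2.syl, h2.m1, h2.symm.m1, four_le_card e⟩ hse
  rcases h2.typ with a | a
  · exact Or.inr (Or.inl ⟨F, _, inferInstance, inferInstance, h4.l3 a.1 a.2⟩)
  · exact Or.inr (Or.inr (Or.inl ⟨F, _, _, inferInstance,
      Nat.card_eq_fintype_card (α := F) ▸ a.2.1, h4.sp4 a.1⟩))

theorem exists_min (S : Sylow 2 G) [IsSimpleGroup G] (hA : IsStronglyClosed A (S : Subgroup G))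
    (h1 : ¬ IsMulCommutative A) (h2 : ⁅A, A⁆ ≤ 𝒞(A)) (hse : ¬ SE G) : ∃ B : Subgroup G, Min (cls B) B := by
  obtain ⟨B, hB, hm⟩ := exists_minimal_of_wellFoundedLT
    (fun B : Subgroup G => B ≤ A ∧ B ≠ ⊥ ∧ SA (cls B) B)
    ⟨A, le_rfl, fun e => h1 (e ▸ inferInstance), sa_of_closed (sylIn_top S) hA⟩
  refine ⟨B, ⟨hB.2.2, ((commutator_mono hB.1 hB.1).trans h2).trans (cent_le_cent hB.1)⟩, hB.2.1,
    fun C hC a => or_iff_not_imp_left.2 fun e => le_antisymm hC (hm ⟨hC.trans hB.1, e, a⟩ hC),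
    fun e => h1 ?_⟩
  have := (goldschmidt S hB.2.1 (comm_iff.2 e)
    (hB.2.2.closed S.isPGroup' (hB.1.trans hA.1))).resolve_right hse
  exact comm_iff.2 ((hA.1.trans (comm_iff.1 this)).trans (cent_le_cent hA.1))

end Cfsg.Agent.C2
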