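import Cfsg.Agent.Lib.C2.Basic
import Cfsg.Agent.Lib.PU.AV
import Cfsg.Agent.Lib.SP.SL2

/-!
# S1170: the module lemma, linear part (see notes/C2.md)
-/

set_option autoImplicit false
set_option linter.unusedSectionVars false
set_option linter.unusedVariables false

namespace Cfsg.Agent.C2

open Subgroup Cfsg.Agent.H6 Cfsg.Agent.FT Cfsg.Agent.BD.P1 Cfsg.Agent.G75 Cfsg.Agent.G74
open Cfsg.Agent.PU (Mod2 Quad Line On TI fx El)
open scoped commutatorElement MatrixGroups Matrix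

variable {Γ W : Type*} [Group Γ] [AddCommGroup W] [DistribMulAction Γ W] [Finite Γ] [Finite W]
variable {E K Y : Subgroup Γ} {T : Set Γ} {a b d g x : Γ}

theorem mod_odd_fix (m : Mod2 Γ W) {k : ℕ} (hk : Odd k) (h1 : x ^ k = 1) {v w : W}
    (e1 : x • v = v + w) (e2 : x • w = w) : w = 0 := by
  have key : ∀ n : ℕ, x ^ n • v = v + n • w := fun n => by
    induction n with
    | zero => simp
    | succ n ih =>
      rw [pow_succ', mul_smul, ih, smul_add, e1, smul_comm, e2, succ_nsmul]; abel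
  have := key k
  obtain ⟨j, rfl⟩ := hk
  rw [h1, one_smul, left_eq_add, add_nsmul, mul_comm, mul_nsmul', two_nsmul, m.two, nsmul_zero,
    zero_add, one_nsmul] at this
  exact this

theorem mod_ineq (m : Mod2 Γ W) (aa : a * a = 1) (hq : ∀ b ∈ E, ∀ v : W, b • v - v ∈ fx W E)
    (h : ∀ b ∈ E, b ≠ 1 → a * b ≠ 1 ∧ ∃ k, Odd k ∧ (a * b) ^ k = 1) :
    Nat.card E * Nat.card (fx W (zpowers a)) ≤ Nat.card W := by
  have neg : ∀ v : W, -v = v := fun v => neg_eq_of_add_eq_zero_left (m.two v)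
  have av : ∀ v : W, a • a • v = v := fun v => by rw [smul_smul, aa, one_smul]
  have mem : ∀ v : W, v ∈ fx W (zpowers a) ↔ a • v = v := fun v =>
    ⟨fun e => e a (mem_zpowers a), fun e =>
      (zpowers_le.2 (show a ∈ MulAction.stabilizer Γ v from e) : zpowers a ≤ _)⟩
  by_cases hE : E = ⊥
  · subst hE
    rw [card_bot, one_mul]
    exact Nat.card_le_card_of_injective _ Subtype.val_injective
  obtain ⟨b0, hb0, b1⟩ := (ne_bot_iff_exists_ne_one' _).1 hE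
  obtain ⟨u, hu, hu'⟩ : ∃ u ∈ fx W E, a • u ≠ u := by
    by_contra hc
    push Not at hc
    obtain ⟨h1, k, hk, e⟩ := h b0 hb0 b1
    have h2 : (a * b0) ^ 2 = 1 := m.faith _ fun v => by
      have e1 : ∀ v : W, (a * b0) • v = a • v + (b0 • v - v) := fun v => by
        rw [← hc _ (hq b0 hb0 v), ← smul_add, add_sub_cancel, mul_smul]
      have f : ∀ w ∈ fx W E, (a * b0) • w = w := fun w hw => by rw [mul_smul, hw b0 hb0, hc w hw]
      have c1 := (fx W E).add_mem (hq b0 hb0 (a • v)) (hq b0 hb0 v)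
      have e2 : (a * b0) ^ 2 • v = v + ((b0 • a • v - a • v) + (b0 • v - v)) := by
        rw [sq, mul_smul, e1 v, smul_add, f _ (hq b0 hb0 v), e1, av, add_assoc]
      have := mod_odd_fix m hk (by rw [← pow_mul, mul_comm, pow_mul, e, one_pow]) e2
        (by rw [sq, mul_smul, f _ c1, f _ c1])
      rw [e2, this, add_zero]
    obtain ⟨j, rfl⟩ := hk
    rw [pow_succ, pow_mul, h2, one_pow, one_mul] at e
    exact h1 e
  have ay : a • (a • u - u) = a • u - u := by rw [smul_sub, av, ← neg (u - a • u), neg_sub]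
  have := PU.card_mul_le_of_inj (C := fx W (zpowers a)) (D := ⊤)
    (f := fun b : E => (b : Γ) • (a • u - u) - (a • u - u)) (fun _ => trivial) fun b b' e => by
      by_contra hne
      have hc : ((b'⁻¹ * b : E) : Γ) ≠ 1 := fun e => hne (by
        rw [← inv_mul_eq_one, ← inv_inj, inv_one, mul_inv_rev, inv_inv]; exact Subtype.ext e)
      obtain ⟨-, k, hk, ek⟩ := h _ (b'⁻¹ * b).2 hc
      generalize hy : a • u - u = y at *
      have h2 := (fx W E).sub_mem (hq _ b.2 y) (hq _ b'.2 y) _ (E.inv_mem b'.2)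
      rw [← h2, mem] at e
      have e3 : a • (((b'⁻¹ * b : E) : Γ) • y - y) = ((b'⁻¹ * b : E) : Γ) • y - y := by
        simpa [smul_sub, mul_smul] using e
      have hm := (b'⁻¹ * b).2
      generalize ((b'⁻¹ * b : E) : Γ) = c at *
      have e4 : c • y - y = 0 := mod_odd_fix m hk ek (v := y)
        (by rw [mul_smul]; nth_rewrite 2 [← ay]; rw [← e3, ← smul_add, add_sub_cancel])
        (by rw [mul_smul, hq c hm y c hm, e3])
      have e5 : y = 0 := mod_odd_fix m hk ek (v := u)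
        (by rw [mul_smul, hu c hm, ← hy, add_sub_cancel])
        (by rw [mul_smul, sub_eq_zero.1 e4, ay])
      exact hu' (sub_eq_zero.1 (hy.trans e5))
  rwa [top_inf_eq, AddSubgroup.card_top] at this

theorem mod_ti (m : Mod2 Γ W) (hX : Quad W E) (hs : SA T E) : TI ⊤ E := by
  intro g _ s hs1 h1 hn
  have hY := hX.cj g
  have hsX : s ∈ E := hs.max s ((hs.cjj g).sub hs1) hn
  have e : fx W E = fx W (cj g E) := le_antisymm (fun v hv => hY.cen s hs1 h1 v (hv s hsX))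
    fun v hv => hX.cen s hsX h1 v (hv s hs1)
  exact eq_of_le_of_card_ge (fun y hy => hs.max y ((hs.cjj g).sub hy)
    (cent_le_norm (hX.comm_of_fx_eq m hY e hy))) (card_cj g E).ge

theorem mod_nc (m : Mod2 Γ W) (hX : Quad W E) (hs : SA T E) (hne : cj g E ≠ E) :
    Nc T ⊤ = E ⊔ cj g E := by
  refine le_antisymm ((closure_le _).2 fun x hx => ?_)
    (sup_le (le_Nc hs.sub le_top) (le_Nc (hs.cjj g).sub le_top))
  obtain ⟨y, -, hy⟩ := hs.exists_conj le_top hx.1 trivial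
  exact ((mod_ti m hX hs).on m hX le_top trivial hne (y := y⁻¹) trivial).le
    (mem_cj.2 (by simpa using hy))

theorem mod_cent (m : Mod2 Γ W) (hX : Quad W E) (hY : Quad W Y) (hc : Nat.card E = Nat.card Y)
    (hl : Line W E Y) (dd : d * d = 1) (hd : d ∈ E ⊔ Y) (h1 : d ∈ 𝒞(E)) (h2 : d ∈ 𝒞(Y)) :
    d = 1 := by
  have fixC : ∀ e ∈ E ⊔ Y, ∀ c ∈ fx W E ⊓ fx W Y, e • c = c := fun e he c hc =>
    (PU.fx_sup (V := W)).ge hc e he
  have cm : ∀ e ∈ E ⊔ Y, e * d = d * e := fun e he =>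
    (sup_le (le_centralizer_iff.1 (zpowers_le.2 h1)) (le_centralizer_iff.1 (zpowers_le.2 h2)) he d
      (mem_zpowers d)).symm
  have hp : IsPGroup 2 (zpowers d) := (show El (zpowers d) from fun x hx => by
    rcases (ZD.mem_zpowers_two' dd).1 hx with rfl | rfl
    exacts [mul_one 1, dd]).isPGroup
  obtain ⟨v, -, hv, hv'⟩ := PU.exists_fix_mod m hp (C := fx W E ⊓ fx W Y) (D := ⊤)
    (fun e => by
      obtain ⟨v, hv⟩ := hX.fx_ne m
      exact hv (e (x := v) trivial).1)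
    (fun p hp v hv => by rw [fixC p (zpowers_le.2 hd hp) v hv]; exact hv) fun _ _ _ _ => trivial
  have f1 : ∀ u : W, d • u - u ∈ fx W E ⊓ fx W Y := fun u => by
    by_cases hu : u ∈ fx W E ⊓ fx W Y
    · rw [fixC d hd u hu, sub_self]; exact zero_mem _
    obtain ⟨e, he, h3⟩ := hl.trans m hX hY hc hv hu
    have h4 := hv' d (mem_zpowers d)
    rw [← fixC e he _ h4, smul_sub, smul_smul, cm e he, mul_smul] at h4
    have h5 := fixC d hd _ h3
    rw [smul_sub] at h5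
    rwa [show d • u - u = d • e • v - e • v - ((d • e • v - d • u) - (e • v - u)) by abel, h5,
      sub_self, sub_zero]
  have f2 : ∀ e ∈ E ⊔ Y, ∀ u : W, d • (e • u - u) = e • u - u := fun e he u => by
    have := fixC e he _ (f1 u)
    rw [smul_sub, smul_smul, cm e he, mul_smul] at this
    rw [smul_sub, sub_eq_iff_eq_add.1 this]; abel
  have f3 : ∀ {E' Y' : Subgroup Γ}, Quad W E' → Quad W Y' → Nat.card E' = Nat.card Y' →
      Line W E' Y' → E' ⊔ Y' = E ⊔ Y → ∀ w ∈ fx W E', d • w = w := by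
    intro E' Y' hX hY hc hl e w hw
    obtain ⟨v, hv⟩ := hX.fx_ne m
    obtain ⟨x, hx, h3⟩ := hl.onto m hX hY hc hv hw
    have h4 : x • v - v - w ∈ fx W (E ⊔ Y) :=
      e ▸ PU.fx_sup.ge ⟨(fx W E').sub_mem (hX.quad x hx v) hw, h3⟩
    have h5 := h4 d hd
    rw [smul_sub, f2 x (e ▸ mem_sup_left hx)] at h5
    exact sub_right_injective h5
  refine m.faith d fun u => ?_
  obtain ⟨c, hc1, c', hc2, rfl⟩ := PU.exists_add_of_sup (hl.sup m hX hY hc) u
  rw [smul_add, f3 hX hY hc hl rfl c hc1, f3 hY hX hc.symm hl.symm (sup_comm _ _) c' hc2]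

theorem mod_one (m : Mod2 Γ W) (hX : Quad W E) (hs : SA T E) :
    ZD.One {s | s ∈ T ∧ s ≠ 1} (Γ ⧸ 𝒩(E)) := by
  have ti := mod_ti m hX hs
  have fx1 : ∀ s ∈ T, ∀ g : Γ, s • (g : Γ ⧸ 𝒩(E)) = g ↔ s ∈ cj g E := fun s hT g => by
    rw [smul_mk_eq_mk_iff, mem_cj]
    exact ⟨fun e => hs.max _ (by simpa using hs.sc.conj g⁻¹ s hT) e, fun e => le_normalizer e⟩
  have uq : ∀ {s : Γ} {a b : Γ ⧸ 𝒩(E)}, s ∈ {s | s ∈ T ∧ s ≠ 1} → s • a = a → s • b = b →
      a = b := fun {s a b} h ha hb => by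
    obtain ⟨x, rfl⟩ := QuotientGroup.mk_surjective a
    obtain ⟨y, rfl⟩ := QuotientGroup.mk_surjective b
    rw [fx1 s h.1, mem_cj] at ha hb
    refine QuotientGroup.eq.2 (cj_eq_self_iff.1 (ti _ trivial (x⁻¹ * s * x) (mem_cj.2 ?_)
      (fun e => h.2 (by rw [← mul_right_inj x⁻¹, ← mul_left_inj x, e]; group)) (le_normalizer ha)))
    rwa [show (x⁻¹ * y)⁻¹ * (x⁻¹ * s * x) * (x⁻¹ * y) = y⁻¹ * s * y by group]
  have ex : ∀ s ∈ T, ∃ g, s ∈ cj g E := fun s hT => by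
    obtain ⟨y, -, hy⟩ := hs.exists_conj le_top hT trivial
    exact ⟨y⁻¹, mem_cj.2 (by simpa using hy)⟩
  have sq : ∀ s ∈ T, s * s = 1 := fun s hT => let ⟨g, hg⟩ := ex s hT; (hX.cj g).el m s hg
  refine ⟨fun {s} h => orderOf_eq_prime (by rw [pow_two, sq s h.1]) h.2,
    fun {s} g h => ⟨hs.sc.conj g s h.1, by simpa using h.2⟩,
    fun {s} h => let ⟨g, hg⟩ := ex s h.1; ⟨g, (fx1 s h.1 g).2 hg⟩, uq,
    fun {s t a b} h h' hne hc => uq ⟨?_, fun e => hne ?_⟩⟩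
  · obtain ⟨g, hg⟩ := ex s h.1
    have h1 : t ∈ 𝒩(cj g E) := cj_eq_self_iff.1 (by
      have := ti (g⁻¹ * t * g) trivial (g⁻¹ * s * g) (mem_cj.2 (by
        rw [show (g⁻¹ * t * g)⁻¹ * (g⁻¹ * s * g) * (g⁻¹ * t * g) = g⁻¹ * (t⁻¹ * (s * t)) * g by
          group, hc, inv_mul_cancel_left]
        exact mem_cj.1 hg))
        (fun e => h.2 (by rw [← mul_right_inj g⁻¹, ← mul_left_inj g, e]; group))
        (le_normalizer (mem_cj.1 hg))
      rw [cj_cj, show t * g = g * (g⁻¹ * t * g) by group, ← cj_cj, this])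
    exact (hs.cjj g).sub (mul_mem hg ((hs.cjj g).max t h'.1 h1))
  · rw [← mul_left_inj t, e, sq t h'.1]

theorem mod_syl (m : Mod2 Γ W) (hX : Quad W E) (hs : SA T E) (hne : cj g E ≠ E) :
    SylIn 2 E (Nc T ⊤) := by
  have ti := mod_ti m hX hs
  have hl0 := ti.line m hX le_top trivial hne
  obtain ⟨u, hu, u1⟩ := (ne_bot_iff_exists_ne_one' _).1 (hX.cj g).ne
  have hn : cj u E ≠ E := hl0.symm.cj_ne m (hX.cj g) hX (card_cj g E) hu u1
  have huT : u ∈ T := (hs.cjj g).sub hu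
  clear hl0 hne hu
  have hl := ti.line m hX le_top trivial hn
  have hY := hX.cj u
  have hc := (card_cj u E).symm
  have hK := mod_nc m hX hs hn
  have cen : ∀ d ∈ 𝒩(E), ∀ y, cj y E ≠ E → (∀ x ∈ E, d ∈ 𝒩(cj x (cj y E))) → d ∈ 𝒞(E) :=
    fun d h1 y hy h2 x hx => by
      by_contra hne
      have h3 : x⁻¹ * (d * x * d⁻¹) ∈ E := mul_mem (inv_mem hx) (conj_mem_of_mem_normalizer h1 hx)
      refine (ti.line m hX le_top trivial hy).cj_ne m hX (hX.cj y) (card_cj y E).symm h3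
        (fun e => hne ?_) ?_
      · rw [inv_mul_eq_one, eq_mul_inv_iff_mul_eq] at e
        exact e
      · have h4 := cj_eq_self_iff.2 (h2 x hx)
        have h5 := cj_eq_self_iff.2 (inv_mem (h2 1 E.one_mem))
        rw [cj_one] at h5
        rw [← cj_cj, ← cj_cj, h5, ← cj_cj, h4, cj_inv_cj]
  have key : ∀ d ∈ Nc T ⊤, d ∈ 𝒩(E) → d ∈ 𝒩(cj u E) → orderOf d ≠ 2 := fun d hd h1 h2 d2 => by
    have dd : d * d = 1 := by rw [← pow_two, ← d2, pow_orderOf_eq_one]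
    have d1 : d ≠ 1 := by rintro rfl; simp at d2
    refine d1 (mod_cent m hX hY hc hl dd (hK ▸ hd) ?_ ?_)
    all_goals
      by_cases h4 : ZD.Four {s | s ∈ T ∧ s ≠ 1} (⊤ : Subgroup Γ)
      swap
      · intro x hx
        by_contra hne
        have x1 : x ≠ 1 := by rintro rfl; simp at hne
        first
        | exact h4 ⟨x, trivial, _, trivial, ⟨hs.sub hx, x1⟩, ⟨hs.sc.conj d x (hs.sub hx),
            by simpa using x1⟩, fun e => hne (eq_mul_inv_iff_mul_eq.1 e),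
            (hX.el m).comm hx (conj_mem_of_mem_normalizer h1 hx)⟩
        | exact h4 ⟨x, trivial, _, trivial, ⟨(hs.cjj u).sub hx, x1⟩,
            ⟨hs.sc.conj d x ((hs.cjj u).sub hx),
            by simpa using x1⟩, fun e => hne (eq_mul_inv_iff_mul_eq.1 e),
            (hY.el m).comm hx (conj_mem_of_mem_normalizer h2 hx)⟩
      have h1' := mod_one m hX hs
      obtain ⟨s0, hs0, s1⟩ := (ne_bot_iff_exists_ne_one' _).1 hX.ne
      have st : ∀ y z : Γ, z • (y : Γ ⧸ 𝒩(E)) = y ↔ z ∈ 𝒩(cj y E) := fun y z => by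
        rw [smul_mk_eq_mk_iff, ← cj_eq_self_iff, ← cj_eq_self_iff, cj_cj]
        refine ⟨fun e => by rw [show z * y = y * (y⁻¹ * z * y) by group, ← cj_cj, e],
          fun e => by rw [mul_assoc, ← cj_cj, e, cj_inv_cj]⟩
      obtain ⟨Q, hQ, -⟩ := h1'.bt3 h4 (a := ((1 : Γ) : Γ ⧸ 𝒩(E))) (b := (u : Γ ⧸ 𝒩(E))) (u := u)
        (fun e => hn (cj_eq_self_iff.2 (by simpa using QuotientGroup.eq.1 e)))
        ⟨s0, trivial, ⟨hs.sub hs0, s1⟩, smul_mk_one_eq_iff.2 (le_normalizer hs0)⟩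
        ⟨trivial, ⟨huT, u1⟩, by simp⟩
      have hLL : d ∈ ZD.LL {s | s ∈ T ∧ s ≠ 1} (⊤ : Subgroup Γ) :=
        (show Nc T ⊤ ≤ _ from (closure_le _).2 fun x hx => by
          by_cases x1 : x = 1
          · rw [x1]; exact one_mem _
          · exact ZD.mem_LL ⟨hx.1, x1⟩ trivial) hd
      have hN : d ∈ 𝒩(ZD.Ker {s | s ∈ T ∧ s ≠ 1} (Γ ⧸ 𝒩(E)) (⊤ : Subgroup Γ)) :=
        h1'.norm_le_norm_Ker (le_normalizer trivial)
      have hker : d ∈ ZD.Ker {s | s ∈ T ∧ s ≠ 1} (Γ ⧸ 𝒩(E)) (⊤ : Subgroup Γ) := by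
        by_contra hk
        refine odd_card_iff.1 hQ.oddD _ (coset_mem_quo (x := d) ⟨hLL, smul_mk_one_eq_iff.2 h1,
          (st u d).2 h2⟩) (orderOf_eq_prime ?_ fun e => hk ((coset_eq_one_iff hN).1 e))
        rw [← coset_pow hN, pow_two, dd, coset_one]
      have all : ∀ y, d ∈ 𝒩(cj y E) := fun y => (st y d).1 (ZD.mem_Ker.1 hker _
        ⟨y * s0 * y⁻¹, trivial, ⟨hs.sc.conj y s0 (hs.sub hs0), by simpa using s1⟩,
          (st y _).2 (le_normalizer (conj_mem_cj hs0))⟩)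
      have all' : ∀ y z, z⁻¹ * d * z ∈ 𝒩(cj y E) := fun y z => cj_eq_self_iff.1 (by
        rw [← cj_cj, ← cj_cj, cj_cj z y, cj_eq_self_iff.2 (all _), ← cj_cj, cj_inv_cj])
      first
      | exact cen d h1 u hn fun x _ => by rw [cj_cj]; exact all _
      | · intro x hx
          have := cen (u⁻¹ * d * u) (by simpa using all' 1 u) u hn
            (fun x _ => by rw [cj_cj]; exact all' _ _) _ (mem_cj.1 hx)
          rw [← mul_right_inj u⁻¹, ← mul_left_inj u]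
          rw [show u⁻¹ * (x * d) * u = u⁻¹ * x * u * (u⁻¹ * d * u) by group, this]; group
  refine ⟨le_Nc hs.sub le_top, hs.two, fun S hS h1 h2 => le_antisymm (fun s hsS => ?_) h1⟩
  have hN := hs.le_norm_of_two hS h1
  rcases ti.on m hX le_top trivial hn (y := s * u) trivial with e | ⟨x, hx, e⟩
  · refine (hn (cj_injective s ?_)).elim
    rw [cj_cj, e, cj_eq_self_iff.2 (hN hsS)]
  have h3 : x⁻¹ * s ∈ S ⊓ 𝒩(cj u E) := ⟨S.mul_mem (S.inv_mem (h1 hx)) hsS, cj_eq_self_iff.1 (by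
    rw [← cj_cj, cj_cj s u, e, cj_inv_cj])⟩
  have h4 : S ⊓ 𝒩(cj u E) = ⊥ := by
    have p := hS.to_inf_left (K := 𝒩(cj u E))
    obtain ⟨n, hn⟩ := IsPGroup.iff_card.1 p
    have o : Odd (Nat.card (S ⊓ 𝒩(cj u E) : Subgroup Γ)) :=
      odd_card_iff.2 fun d hd => key d (h2 hd.1) (hN hd.1) hd.2
    rw [← card_eq_one, hn]
    rw [hn] at o
    rcases n with _ | n
    · rfl
    · exact absurd o (by rw [pow_succ]; simp)
  rw [h4, mem_bot, inv_mul_eq_one] at h3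
  exact h3 ▸ hx

theorem mod_nm (m : Mod2 Γ W) (hX : Quad W E) (hs : SA T E) (hne : cj g E ≠ E)
    (k : Type) [Field k] [Fintype k] (hk : Nat.card k = Nat.card E) :
    ∃ (φ : Γ → SL(2, k)) (ψ : W →+ (Fin 2 → k)),
      (∀ x ∈ Nc T ⊤, ∀ y ∈ Nc T ⊤, φ (x * y) = φ x * φ y) ∧ (∀ n, ∃ x ∈ Nc T ⊤, φ x = n) ∧
      (∀ x ∈ Nc T ⊤, φ x = 1 ↔ x = 1) ∧ (∀ u, ∃ v, ψ v = u) ∧
      (∀ v, ψ v = 0 ↔ v ∈ fx W (Nc T ⊤)) ∧ (∀ x ∈ Nc T ⊤, ∀ v, ψ (x • v) = (φ x).1 *ᵥ ψ v) ∧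
      (∀ a ∈ E, φ a 0 0 = 1 ∧ φ a 1 0 = 0 ∧ φ a 1 1 = 1) ∧ (∀ s, ∃ a ∈ E, φ a 0 1 = s) ∧
      ∀ v, ψ v 1 = 0 → v ∈ fx W E := by
  classical
  have ti := mod_ti m hX hs
  have hl0 := ti.line m hX le_top trivial hne
  obtain ⟨u, hu, u1⟩ := (ne_bot_iff_exists_ne_one' _).1 (hX.cj g).ne
  have hn : cj u E ≠ E := hl0.symm.cj_ne m (hX.cj g) hX (card_cj g E) hu u1
  have huK : u ∈ Nc T ⊤ := subset_closure ⟨(hs.cjj g).sub hu, trivial⟩
  have hl := ti.line m hX le_top trivial hn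
  have hY := hX.cj u
  have hK := mod_nc m hX hs hn
  have syl := mod_syl m hX hs hn
  obtain ⟨ci, cy, ζ, ζ', h1, h2, h3, h4, h5, h6, h7, -, -⟩ :=
    PU.sl2_coords m hX syl huK hn k (by rw [← hk, Nat.card_eq_fintype_card])
  let ψ : W →+ (Fin 2 → k) := AddMonoidHom.mk' (fun v => ![cy v, ci v]) fun v w => by
    ext i; fin_cases i <;> simp
  have ψ0 : ∀ v, ψ v 0 = cy v := fun _ => rfl
  have ψ1 : ∀ v, ψ v 1 = ci v := fun _ => rfl
  have srj : ∀ u, ∃ v, ψ v = u := fun u => by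
    obtain ⟨v, e1, e2⟩ := h3 (u 1) (u 0)
    exact ⟨v, by ext i; fin_cases i <;> simp [ψ0, ψ1, e1, e2]⟩
  have uq : ∀ n n' : SL(2, k), (∀ v, n.1 *ᵥ ψ v = n'.1 *ᵥ ψ v) → n = n' := fun n n' e =>
    Subtype.ext (Matrix.ext_iff_mulVec.2 fun u => by obtain ⟨v, rfl⟩ := srj u; exact e v)
  let S : Subgroup Γ :=
    { carrier := {x | ∃ n : SL(2, k), ∀ v, ψ (x • v) = n.1 *ᵥ ψ v}
      one_mem' := ⟨1, fun v => by simp⟩
      mul_mem' := by
        rintro x y ⟨n, hn⟩ ⟨n', hn'⟩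
        exact ⟨n * n', fun v => by rw [mul_smul, hn, hn', Matrix.mulVec_mulVec]; rfl⟩
      inv_mem' := by
        rintro x ⟨n, hn⟩
        refine ⟨n⁻¹, fun v => ?_⟩
        have := hn (x⁻¹ • v)
        rw [smul_inv_smul] at this
        rw [this, Matrix.mulVec_mulVec, ← Matrix.SpecialLinearGroup.coe_mul, inv_mul_cancel]
        simp }
  have aE : ∀ x ∈ E, ∀ v, ψ (x • v) = !![1, ζ x; 0, 1] *ᵥ ψ v := fun x hx v => by
    have : ci (x • v) = ci v := by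
      rw [← sub_eq_zero, ← map_sub, h1]; exact hX.quad x hx v
    ext i; fin_cases i <;> simp [Matrix.mulVec, dotProduct, ψ0, ψ1, h5 x hx, this]
  have aY : ∀ x ∈ cj u E, ∀ v, ψ (x • v) = !![1, 0; ζ' x, 1] *ᵥ ψ v := fun x hx v => by
    have : cy (x • v) = cy v := by
      rw [← sub_eq_zero, ← map_sub, h2]; exact hY.quad x hx v
    ext i; fin_cases i <;> simp [Matrix.mulVec, dotProduct, ψ0, ψ1, h7 x hx, this, add_comm]
  have hS : Nc T ⊤ ≤ S := hK ▸ sup_le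
    (fun x hx => ⟨⟨!![1, ζ x; 0, 1], by simp [Matrix.det_fin_two]⟩, aE x hx⟩)
    fun x hx => ⟨⟨!![1, 0; ζ' x, 1], by simp [Matrix.det_fin_two]⟩, aY x hx⟩
  let φ : Γ → SL(2, k) := fun x => if h : x ∈ S then h.choose else 1
  have act : ∀ x ∈ Nc T ⊤, ∀ v, ψ (x • v) = (φ x).1 *ᵥ ψ v := fun x hx v => by
    simp only [φ, dif_pos (hS hx)]
    exact (hS hx).choose_spec v
  have mul : ∀ x ∈ Nc T ⊤, ∀ y ∈ Nc T ⊤, φ (x * y) = φ x * φ y := fun x hx y hy =>
    uq _ _ fun v => by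
      rw [← act _ (mul_mem hx hy), mul_smul, act x hx, act y hy, Matrix.mulVec_mulVec]; rfl
  have eE : ∀ x ∈ E, (φ x).1 = !![1, ζ x; 0, 1] := fun x hx => congrArg Subtype.val
    (uq (φ x) ⟨!![1, ζ x; 0, 1], by simp [Matrix.det_fin_two]⟩ fun v => by
      rw [← act x (syl.le hx), aE x hx])
  have hYK : cj u E ≤ Nc T ⊤ := hK ▸ le_sup_right
  have eY : ∀ x ∈ cj u E, (φ x).1 = !![1, 0; ζ' x, 1] := fun x hx => congrArg Subtype.val
    (uq (φ x) ⟨!![1, 0; ζ' x, 1], by simp [Matrix.det_fin_two]⟩ fun v => by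
      rw [← act x (hYK hx), aY x hx])
  have ker : ∀ v, ψ v = 0 ↔ v ∈ fx W (Nc T ⊤) := fun v => by
    rw [hK, PU.fx_sup, AddSubgroup.mem_inf, ← h1, ← h2]
    exact ⟨fun e => ⟨congrFun e 1, congrFun e 0⟩, fun e => by
      ext i; fin_cases i <;> simp [ψ0, ψ1, e.1, e.2]⟩
  refine ⟨φ, ψ, mul, fun n => ?_, fun x hx => ⟨fun e => ?_, fun e => uq _ _ fun v => ?_⟩, srj, ker,
    act, fun a ha => ?_, fun s => ?_, fun v hv => (h1 v).1 hv⟩
  · have := SP.sl2_gen (P := fun a b c d => ∃ x ∈ Nc T ⊤, (φ x).1 = !![a, b; c, d])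
      (by
        rintro a b c d a' b' c' d' ⟨x, hx, e⟩ ⟨y, hy, e'⟩
        exact ⟨x * y, mul_mem hx hy, by
          rw [mul x hx y hy, Matrix.SpecialLinearGroup.coe_mul, e, e', Matrix.mul_fin_two]⟩)
      (fun s => let ⟨x, hx, e⟩ := h4 s; ⟨x, syl.le hx, e ▸ eE x hx⟩)
      (fun s => let ⟨x, hx, e⟩ := h6 s; ⟨x, hYK hx, e ▸ eY x hx⟩)
      (n 0 0) (n 0 1) (n 1 0) (n 1 1) (by rw [← Matrix.det_fin_two]; exact n.2)
    obtain ⟨x, hx, e⟩ := this
    exact ⟨x, hx, Subtype.ext (e.trans (Matrix.eta_fin_two n.1).symm)⟩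
  · have f : ∀ v : W, x • v - v ∈ fx W (Nc T ⊤) := fun v => by
      rw [← ker, map_sub, act x hx, e]; simp
    have xx : x * x = 1 := m.faith _ fun v => by
      have := f v x hx
      rw [smul_sub, sub_eq_iff_eq_add] at this
      rw [mul_smul, this, ← add_sub_right_comm, m.two, zero_sub, neg_eq_iff_add_eq_zero, m.two]
    have hp : IsPGroup 2 (zpowers x) := (show El (zpowers x) from fun y hy => by
      rcases (ZD.mem_zpowers_two' xx).1 hy with rfl | rfl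
      exacts [mul_one 1, xx]).isPGroup
    have hN : x ∈ 𝒩(E) := cj_eq_self_iff.1 (ti.uq m hX trivial (PU.add_eq_of_le_of_card
      (fun v hv => by
        have h8 := PU.mem_fx_cj.1 hv
        have h9 := PU.fx_anti syl.le (f (x⁻¹ • v))
        rw [smul_inv_smul] at h9
        simpa using (fx W E).add_mem h9 h8) (PU.card_fx_cj _ _).ge))
    have hxE : x ∈ E := syl.le_of_normalizes hp (zpowers_le.2 hx) (zpowers_le.2 hN) (mem_zpowers x)
    exact m.faith x fun v => hl.l x hxE v (PU.fx_anti hYK (f v))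
  · rw [← act x hx, e]; simp
  · have := eE a ha
    exact ⟨by change (φ a).1 0 0 = 1; simp [this], by change (φ a).1 1 0 = 0; simp [this],
      by change (φ a).1 1 1 = 1; simp [this]⟩
  · obtain ⟨x, hx, e⟩ := h4 s
    exact ⟨x, hx, by change (φ x).1 0 1 = s; simp [eE x hx, e]⟩

end Cfsg.Agent.C2
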