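import Cfsg.Agent.Lib.C2.Basic

/-!
# S1170: natural modules (see notes/C2.md)
-/

set_option autoImplicit false
set_option linter.unusedSectionVars false
set_option linter.unusedVariables false

namespace Cfsg.Agent.C2

open Subgroup Cfsg.Agent.H6 Cfsg.Agent.FT Cfsg.Agent.BD.P1 Cfsg.Agent.G75 Cfsg.Agent.G74
open Cfsg.Agent.St (Od)
open scoped commutatorElement MatrixGroups Matrix

universe u

variable {G : Type*} [Group G] [Finite G] {T : Set G}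
variable {A B C D E H K L M N P Q R S U V W X Y W₁ W₂ : Subgroup G}
variable {a b c d e g h n r s t v w x y z : G}
variable {F : Type} [Field F] [Fintype F] [CharP F 2] {φ φ₁ φ₂ : G → SL(2, F)}
  {ψ ψ₁ ψ₂ : G → Fin 2 → F}

/-- The index of the kernel of an additive function onto `F`. -/
theorem idx_of_add (f : G → F) (mul : ∀ x ∈ H, ∀ y ∈ H, f (x * y) = f x + f y)
    (surj : ∀ s, ∃ x ∈ H, f x = s) (ker : ∀ x ∈ H, x ∈ K ↔ f x = 0) :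
    K.relIndex H = Nat.card F := by
  let k : H →* Multiplicative F := MonoidHom.mk' (fun x => Multiplicative.ofAdd (f x))
    fun x y => by simp [mul _ x.2 _ y.2, ofAdd_add]
  have h1 : K.subgroupOf H = k.ker := by
    ext x
    rw [mem_subgroupOf, ker _ x.2, MonoidHom.mem_ker]
    exact ⟨fun h => by simp [k, h], fun h => by simpa [k] using h⟩
  have h2 : k.range = ⊤ := by
    rw [MonoidHom.range_eq_top]
    intro s
    obtain ⟨x, hx, h⟩ := surj s.toAdd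
    exact ⟨⟨x, hx⟩, by simp [k, h]⟩
  rw [relIndex, h1, index_ker, h2, card_top]
  rfl

/-- The upper unitriangular matrix. -/
def uM (s : F) : SL(2, F) := ⟨!![1, s; 0, 1], by simp [Matrix.det_fin_two]⟩
/-- The lower unitriangular matrix. -/
def lM (s : F) : SL(2, F) := ⟨!![1, 0; s, 1], by simp [Matrix.det_fin_two]⟩
/-- The transposition matrix. -/
def wM : SL(2, F) := ⟨!![0, 1; 1, 0], by simp [Matrix.det_fin_two, CharTwo.neg_eq]⟩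
/-- The diagonal matrix. -/
def dM (l : F) (hl : l ≠ 0) : SL(2, F) := ⟨!![l, 0; 0, l⁻¹], by simp [Matrix.det_fin_two, hl]⟩

theorem sl_ext {m m' : SL(2, F)} (h1 : m 0 0 = m' 0 0) (h2 : m 0 1 = m' 0 1)
    (h3 : m 1 0 = m' 1 0) (h4 : m 1 1 = m' 1 1) : m = m' := by
  ext i j
  fin_cases i <;> fin_cases j <;> assumption

theorem sl_mul (m m' : SL(2, F)) (i j : Fin 2) :
    (m * m') i j = m i 0 * m' 0 j + m i 1 * m' 1 j := by
  change (m.1 * m'.1) i j = _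
  rw [Matrix.mul_apply, Fin.sum_univ_two]

theorem sl_det (m : SL(2, F)) : m 0 0 * m 1 1 - m 0 1 * m 1 0 = 1 := by
  have := m.2
  rwa [Matrix.det_fin_two] at this

theorem sl_vec (m : SL(2, F)) (u : Fin 2 → F) (i : Fin 2) :
    (m.1 *ᵥ u) i = m i 0 * u 0 + m i 1 * u 1 := by
  simp [Matrix.mulVec, dotProduct, Fin.sum_univ_two]

theorem vec_ext {u u' : Fin 2 → F} (h0 : u 0 = u' 0) (h1 : u 1 = u' 1) : u = u' := by
  funext i
  fin_cases i <;> assumption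

theorem sl_eq_of_vec {m m' : SL(2, F)} (h : ∀ u, m.1 *ᵥ u = m'.1 *ᵥ u) : m = m' :=
  Subtype.ext (Matrix.toLin'.injective (LinearMap.ext fun u => by simpa using h u))

theorem wM_uM (s : F) : wM * uM s * wM⁻¹ = lM s := by
  rw [mul_inv_eq_iff_eq_mul]
  apply sl_ext <;> rw [sl_mul, sl_mul] <;> simp [wM, uM, lM]

theorem dM_uM {l : F} (hl : l ≠ 0) (s : F) : dM l hl * uM s * (dM l hl)⁻¹ = uM (l ^ 2 * s) := by
  rw [mul_inv_eq_iff_eq_mul]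
  apply sl_ext <;> rw [sl_mul, sl_mul] <;> simp [dM, uM]
  field_simp

theorem exists_sl_vec (u : Fin 2 → F) : ∃ m : SL(2, F), (m.1 *ᵥ u) 1 = 0 := by
  by_cases h : u 0 = 0
  · exact ⟨wM, by rw [sl_vec]; simp [wM, h]⟩
  · exact ⟨lM (u 1 / u 0), by rw [sl_vec]; simp [lM, h, CharTwo.add_self_eq_zero]⟩

theorem sl2_gen {K : Type*} [Field K] {P : K → K → K → K → Prop}
    (mul : ∀ a b c d a' b' c' d', P a b c d → P a' b' c' d' →
      P (a * a' + b * c') (a * b' + b * d') (c * a' + d * c') (c * b' + d * d'))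
    (u : ∀ s, P 1 s 0 1) (l : ∀ s, P 1 0 s 1) (a b c d : K) (h : a * d - b * c = 1) :
    P a b c d := by
  have key : ∀ a b c d : K, a * d - b * c = 1 → c ≠ 0 → P a b c d := fun a b c d h hc => by
    convert mul _ _ _ _ _ _ _ _ (mul _ _ _ _ _ _ _ _ (u ((a - 1) / c)) (l c)) (u ((d - 1) / c))
      using 1 <;> field_simp
    · ring
    · linear_combination -h
    · ring
    · ring
  by_cases hc : c = 0
  · have ha : a ≠ 0 := by rintro rfl; simp [hc] at h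
    convert mul _ _ _ _ _ _ _ _ (l (-1)) (key a b (a + c) (b + d) (by linear_combination h)
      (by simpa [hc] using ha)) using 1 <;> ring
  · exact key a b c d h hc

theorem sl_ind {P : SL(2, F) → Prop} (mul : ∀ m m', P m → P m' → P (m * m'))
    (u : ∀ s, P (uM s)) (l : ∀ s, P (lM s)) (m : SL(2, F)) : P m := by
  obtain ⟨m', h1, h2⟩ := sl2_gen (K := F)
    (P := fun a b c d => ∃ m : SL(2, F), m.1 = !![a, b; c, d] ∧ P m)
    (by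
      rintro a b c d a' b' c' d' ⟨m, h1, h2⟩ ⟨m', h3, h4⟩
      exact ⟨m * m', by rw [Matrix.SpecialLinearGroup.coe_mul, h1, h3, Matrix.mul_fin_two],
        mul _ _ h2 h4⟩)
    (fun s => ⟨uM s, rfl, u s⟩) (fun s => ⟨lM s, rfl, l s⟩) _ _ _ _ (sl_det m)
  rwa [(Subtype.ext (h1.trans (Matrix.eta_fin_two m.1).symm) : m' = m)] at h2

namespace Nm

theorem comm (h : Nm F X V A φ ψ) : V ≤ 𝒞(V) := comm_iff.1 h.elem.1
theorem sq (h : Nm F X V A φ ψ) (hv : v ∈ V) : v * v = 1 := by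
  have := h.elem.2 v hv
  rwa [pow_two] at this
theorem inv_eq (h : Nm F X V A φ ψ) (hv : v ∈ V) : v⁻¹ = v :=
  inv_eq_of_mul_eq_one_right (h.sq hv)
theorem cm (h : Nm F X V A φ ψ) (hv : v ∈ V) (hw : w ∈ V) : v * w = w * v :=
  comm_mul h.elem.1 hv hw
theorem cj_mem (h : Nm F X V A φ ψ) (hx : x ∈ X) (hv : v ∈ V) : x * v * x⁻¹ ∈ V :=
  conj_mem_of_mem_normalizer (h.norm hx) hv
theorem φ_one (h : Nm F X V A φ ψ) : φ 1 = 1 := by
  have := h.φ_mul 1 X.one_mem 1 X.one_mem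
  rw [mul_one] at this
  exact left_eq_mul.1 this
theorem φ_inv (h : Nm F X V A φ ψ) (hx : x ∈ X) : φ x⁻¹ = (φ x)⁻¹ := by
  have := h.φ_mul x hx _ (X.inv_mem hx)
  rw [mul_inv_cancel, h.φ_one] at this
  exact (inv_eq_of_mul_eq_one_right this.symm).symm
theorem φ_pow (h : Nm F X V A φ ψ) (hx : x ∈ X) (k : ℕ) : φ (x ^ k) = φ x ^ k := by
  induction k with
  | zero => simpa using h.φ_one
  | succ k ih => rw [pow_succ, h.φ_mul _ (X.pow_mem hx k) _ hx, ih, pow_succ]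
theorem φ_conj (h : Nm F X V A φ ψ) (hx : x ∈ X) (hy : y ∈ X) :
    φ (x * y * x⁻¹) = φ x * φ y * (φ x)⁻¹ := by
  rw [h.φ_mul _ (X.mul_mem hx hy) _ (X.inv_mem hx), h.φ_mul _ hx _ hy, h.φ_inv hx]
theorem ψ_one (h : Nm F X V A φ ψ) : ψ 1 = 0 := (h.ψ_ker 1 V.one_mem).2 (one_mem _)
theorem ψ_inv (h : Nm F X V A φ ψ) (hv : v ∈ V) : ψ v⁻¹ = ψ v := by rw [h.inv_eq hv]
theorem cjj (h : Nm F X V A φ ψ) (g : G) : Nm F (cj g X) (cj g V) (cj g A)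
    (fun x => φ (g⁻¹ * x * g)) (fun x => ψ (g⁻¹ * x * g)) where
  le := cj_mono g h.le
  norm := by rw [← cj_normalizer]; exact cj_mono g h.norm
  elem := ⟨comm_cj.2 h.elem.1, fun a ha => by
    have := h.sq (mem_cj.1 ha)
    rw [pow_two]
    calc a * a = g * (g⁻¹ * a * g * (g⁻¹ * a * g)) * g⁻¹ := by group
      _ = 1 := by rw [this]; group⟩
  φ_mul x hx y hy := by
    rw [← h.φ_mul _ (mem_cj.1 hx) _ (mem_cj.1 hy)]; congr 1; group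
  φ_surj m := by
    obtain ⟨x, hx, rfl⟩ := h.φ_surj m
    exact ⟨_, conj_mem_cj hx, by congr 1; group⟩
  φ_ker x hx := by rw [← cj_centralizer, mem_cj, h.φ_ker _ (mem_cj.1 hx)]
  ψ_mul x hx y hy := by
    rw [← h.ψ_mul _ (mem_cj.1 hx) _ (mem_cj.1 hy)]; congr 1; group
  ψ_surj m := by
    obtain ⟨x, hx, rfl⟩ := h.ψ_surj m
    exact ⟨_, conj_mem_cj hx, by congr 1; group⟩
  ψ_ker x hx := by rw [← cj_centralizer, mem_cj, h.ψ_ker _ (mem_cj.1 hx)]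
  act x hx v hv := by
    rw [← h.act _ (mem_cj.1 hx) _ (mem_cj.1 hv)]; congr 1; group
  φ_A a ha := h.φ_A _ (mem_cj.1 ha)
  A_surj s := by
    obtain ⟨x, hx, rfl⟩ := h.A_surj s
    exact ⟨_, conj_mem_cj hx, by congr 3; group⟩
  fix v hv h1 := by rw [← cj_centralizer, mem_cj]; exact h.fix _ (mem_cj.1 hv) h1
theorem φ_eq (h : Nm F X V A φ ψ) (ha : a ∈ A) : φ a = uM (φ a 0 1) := by
  obtain ⟨h1, h2, h3⟩ := h.φ_A a ha
  apply sl_ext <;> simp [uM, h1, h2, h3]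
theorem exists_uM (h : Nm F X V A φ ψ) (s : F) : ∃ a ∈ A, φ a = uM s := by
  obtain ⟨a, ha, rfl⟩ := h.A_surj s
  exact ⟨a, ha, h.φ_eq ha⟩
theorem ψ_comm' (h : Nm F X V A φ ψ) (hx : x ∈ X) (hv : v ∈ V) :
    ψ (x * v * x⁻¹ * v⁻¹) = (φ x).1 *ᵥ ψ v + ψ v := by
  rw [h.ψ_mul _ (h.cj_mem hx hv) _ (V.inv_mem hv), h.act _ hx _ hv, h.ψ_inv hv]
theorem ψ_comm (h : Nm F X V A φ ψ) (ha : a ∈ A) (hv : v ∈ V) :
    ψ (a * v * a⁻¹ * v⁻¹) = ![φ a 0 1 * ψ v 1, 0] := by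
  obtain ⟨h1, h2, h3⟩ := h.φ_A a ha
  rw [h.ψ_comm' (h.le ha) hv]
  apply vec_ext <;> rw [Pi.add_apply, sl_vec]
  · rw [h1, one_mul, add_right_comm, CharTwo.add_self_eq_zero, zero_add]; rfl
  · rw [h2, h3, zero_mul, zero_add, one_mul, CharTwo.add_self_eq_zero]; rfl
theorem eq_zero_of_cm (h : Nm F X V A φ ψ) (ha : a ∈ A) (hv : v ∈ V)
    (h1 : a * v * a⁻¹ * v⁻¹ ∈ 𝒞(X)) : φ a 0 1 * ψ v 1 = 0 := by
  have := h.ψ_comm ha hv
  rw [(h.ψ_ker _ (V.mul_mem (h.cj_mem (h.le ha) hv) (V.inv_mem hv))).2 h1] at this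
  exact (congrFun this 0).symm
theorem mem_cent_A (h : Nm F X V A φ ψ) (hv : v ∈ V) : v ∈ 𝒞(A) ↔ ψ v 1 = 0 := by
  refine ⟨fun h1 => ?_, h.fix v hv⟩
  obtain ⟨a, ha, h2⟩ := h.A_surj 1
  have := h.eq_zero_of_cm ha hv (by rw [mem_cent.1 h1 a ha]; simp)
  rwa [h2, one_mul] at this
theorem A_cent (h : Nm F X V A φ ψ) (ha : a ∈ A) : a ∈ 𝒞(V) ↔ φ a 0 1 = 0 := by
  rw [← h.φ_ker a (h.le ha)]
  refine ⟨fun h1 => by simp [h1], fun h1 => ?_⟩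
  rw [h.φ_eq ha, h1]
  apply sl_ext <;> simp [uM]
theorem φ_add (h : Nm F X V A φ ψ) (ha : a ∈ A) (hb : b ∈ A) :
    φ (a * b) 0 1 = φ a 0 1 + φ b 0 1 := by
  rw [h.φ_mul _ (h.le ha) _ (h.le hb), sl_mul, (h.φ_A a ha).1, (h.φ_A b hb).2.2, one_mul, mul_one,
    add_comm]
theorem φ_inv_A (h : Nm F X V A φ ψ) (ha : a ∈ A) : φ a⁻¹ 0 1 = φ a 0 1 := by
  have := h.φ_add ha (A.inv_mem ha)
  rw [mul_inv_cancel, h.φ_one] at this
  exact (CharTwo.add_eq_zero.1 (this.symm.trans (by simp))).symm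
theorem comm_not_mem (h : Nm F X V A φ ψ) (ha : a ∈ A) (h1 : a ∉ 𝒞(V)) (hv : v ∈ V)
    (h2 : v ∉ 𝒞(A)) : a * v * a⁻¹ * v⁻¹ ∉ 𝒞(X) := fun h3 =>
  (mul_eq_zero.1 (h.eq_zero_of_cm ha hv h3)).elim (fun h4 => h1 ((h.A_cent ha).2 h4))
    fun h4 => h2 (h.fix v hv h4)
theorem cent_of (h : Nm F X V A φ ψ) (ha : a ∈ A) (h1 : a ∉ 𝒞(V)) (hv : v ∈ V)
    (h2 : v ∈ 𝒞[a]) : v ∈ 𝒞(A) := by
  by_contra h3
  exact h.comm_not_mem ha h1 hv h3 (by rw [← mem_cent1.1 h2]; simp)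
theorem card_A (h : Nm F X V A φ ψ) : 𝒞(V).relIndex A = Nat.card F :=
  idx_of_add (fun a => φ a 0 1) (fun _ ha _ hb => h.φ_add ha hb) h.A_surj fun _ ha => h.A_cent ha
theorem card_V (h : Nm F X V A φ ψ) : 𝒞(A).relIndex V = Nat.card F :=
  idx_of_add (fun v => ψ v 1) (fun _ ha _ hb => by rw [h.ψ_mul _ ha _ hb]; rfl)
    (fun s => by
      obtain ⟨v, hv, h1⟩ := h.ψ_surj ![0, s]
      exact ⟨v, hv, by rw [h1]; rfl⟩) fun _ hv => h.mem_cent_A hv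
theorem card_Z (h : Nm F X V A φ ψ) : 𝒞(X).relIndex (V ⊓ 𝒞(A)) = Nat.card F :=
  idx_of_add (fun v => ψ v 0) (fun _ ha _ hb => by rw [h.ψ_mul _ ha.1 _ hb.1]; rfl)
    (fun s => by
      obtain ⟨v, hv, h1⟩ := h.ψ_surj ![s, 0]
      exact ⟨v, ⟨hv, h.fix v hv (by rw [h1]; rfl)⟩, by rw [h1]; rfl⟩) fun v hv => by
      rw [← h.ψ_ker v hv.1]
      exact ⟨fun h1 => by rw [h1]; rfl, fun h1 => vec_ext h1 ((h.mem_cent_A hv.1).1 hv.2)⟩
theorem cent_of_φ (h : Nm F X V A φ ψ) (hx : x ∈ X) (hy : y ∈ X) (h1 : φ x = φ y) :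
    x⁻¹ * y ∈ 𝒞(V) :=
  (h.φ_ker _ (X.mul_mem (X.inv_mem hx) hy)).1 (by
    rw [h.φ_mul _ (X.inv_mem hx) _ hy, h.φ_inv hx, h1, inv_mul_cancel])
theorem cent_of_ψ (h : Nm F X V A φ ψ) (hv : v ∈ V) (hw : w ∈ V) (h1 : ψ v = ψ w) :
    v⁻¹ * w ∈ 𝒞(X) :=
  (h.ψ_ker _ (V.mul_mem (V.inv_mem hv) hw)).1 (by
    rw [h.ψ_mul _ (V.inv_mem hv) _ hw, h.ψ_inv hv, h1]
    funext i
    exact CharTwo.add_self_eq_zero _)
theorem conj_eq_of_φ (h : Nm F X V A φ ψ) (hx : x ∈ X) (hy : y ∈ X) (h1 : φ x = φ y)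
    (hv : v ∈ V) : x * v * x⁻¹ = y * v * y⁻¹ := by
  have := mem_cent.1 (h.cent_of_φ hx hy h1) v hv
  calc x * v * x⁻¹ = x * (v * (x⁻¹ * y)) * y⁻¹ := by group
    _ = y * v * y⁻¹ := by rw [this]; group
/-- The elements of `X` fixing the line. -/
theorem mem_sup (h : Nm F X V A φ ψ) (hx : x ∈ X) (h1 : φ x 1 0 = 0) (h2 : φ x 0 0 = 1) :
    x ∈ A ⊔ (X ⊓ 𝒞(V)) := by
  obtain ⟨a, ha, h3⟩ := h.exists_uM (φ x 0 1)
  have h4 := sl_det (φ x)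
  rw [h1, h2, one_mul, mul_zero, sub_zero] at h4
  have h5 : φ a = φ x := by rw [h3]; apply sl_ext <;> simp [uM, h1, h2, h4]
  have := mul_mem (mem_sup_left (T := X ⊓ 𝒞(V)) ha) (mem_sup_right (S := A)
    (mem_inf.2 ⟨X.mul_mem (X.inv_mem (h.le ha)) hx, h.cent_of_φ (h.le ha) hx h5⟩))
  simpa using this
theorem exists_conj' (h : Nm F X V A φ ψ) (hv : v ∈ V) : ∃ x ∈ X, x * v * x⁻¹ ∈ 𝒞(A) := by
  obtain ⟨m, hm⟩ := exists_sl_vec (ψ v)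
  obtain ⟨x, hx, rfl⟩ := h.φ_surj m
  exact ⟨x, hx, h.fix _ (h.cj_mem hx hv) (by rw [h.act _ hx _ hv, hm])⟩
theorem exists_conj (h : Nm F X V A φ ψ) (hX : X ≤ Od X ⊔ A) (hv : v ∈ V) :
    ∃ x ∈ Od X, x * v * x⁻¹ ∈ 𝒞(A) := by
  obtain ⟨x, hx, h1⟩ := h.exists_conj' hv
  obtain ⟨b, hb, a, ha, h2⟩ := (mem_sup_of_normalizes
    (h.le.trans (le_normalizer.trans (St.norm_le_norm_Od X)))).1 (hX (X.inv_mem hx))
  refine ⟨b⁻¹, inv_mem hb, ?_⟩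
  have h3 := mem_cent.1 h1 a ha
  have h4 : b⁻¹ = a * x := by rw [← inv_inv x, ← h2]; group
  rw [h4]
  have : a * x * v * (a * x)⁻¹ = x * v * x⁻¹ := by
    calc a * x * v * (a * x)⁻¹ = a * (x * v * x⁻¹) * a⁻¹ := by group
      _ = _ := by rw [h3]; group
  rwa [this]
theorem restr_le (h : Nm F X V A φ ψ) : ⁅V, X⁆ ≤ V := commutator_le_left h.norm
theorem comm_mem (h : Nm F X V A φ ψ) (hY : Y ≤ X) (hx : x ∈ Y) (hv : v ∈ V) :
    x * v * x⁻¹ * v⁻¹ ∈ ⁅V, Y⁆ := by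
  rw [commutator_comm]
  exact commutator_mem_commutator hx hv
theorem restr_surj (h : Nm F X V A φ ψ) (u : Fin 2 → F) : ∃ w ∈ ⁅V, X⁆, ψ w = u := by
  obtain ⟨x, hx, h1⟩ := h.φ_surj (uM (u 0))
  obtain ⟨y, hy, h2⟩ := h.φ_surj (lM (u 1))
  obtain ⟨v, hv, h3⟩ := h.ψ_surj ![0, 1]
  obtain ⟨w, hw, h4⟩ := h.ψ_surj ![1, 0]
  have h5 := h.comm_mem le_rfl hx hv
  have h6 := h.comm_mem le_rfl hy hw
  refine ⟨_, mul_mem h5 h6, ?_⟩
  rw [h.ψ_mul _ (h.restr_le h5) _ (h.restr_le h6), h.ψ_comm' hx hv, h.ψ_comm' hy hw, h1, h2, h3, h4]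
  apply vec_ext <;> simp only [Pi.add_apply, sl_vec] <;> simp [uM, lM, CharTwo.add_self_eq_zero]
theorem le_restr (h : Nm F X V A φ ψ) : V ≤ ⁅V, X⁆ ⊔ (V ⊓ 𝒞(X)) := fun v hv => by
  obtain ⟨w, hw, h1⟩ := h.restr_surj (ψ v)
  have := mul_mem (mem_sup_left (T := V ⊓ 𝒞(X)) hw) (mem_sup_right (S := ⁅V, X⁆)
    (mem_inf.2 ⟨V.mul_mem (V.inv_mem (h.restr_le hw)) hv, h.cent_of_ψ (h.restr_le hw) hv h1⟩))
  simpa using this
theorem φ_eq_of (h : Nm F X V A φ ψ) (hx : x ∈ X) {m : SL(2, F)}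
    (h1 : ∀ v ∈ V, ψ (x * v * x⁻¹) = m.1 *ᵥ ψ v) : φ x = m :=
  sl_eq_of_vec fun u => by
    obtain ⟨v, hv, rfl⟩ := h.ψ_surj u
    rw [← h.act _ hx _ hv, h1 v hv]
theorem hom_zero (h : Nm F X V A φ ψ) (hy : y ∈ 𝒩(X)) (hy' : y ∈ 𝒩(V))
    (h1 : ∀ v ∈ V, ψ (y * v * y⁻¹) = ψ v) (h2 : y ∈ 𝒞(V ⊓ 𝒞(X))) : y ∈ 𝒞(V) := by
  refine le_cent1_iff.1 (h.le_restr.trans (sup_le ?_ (le_cent1_iff.2 h2)))
  rw [commutator_comm, commutator_le]
  intro x hx v hv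
  have hx' := conj_mem_of_mem_normalizer hy hx
  have hv' := conj_mem_of_mem_normalizer hy' hv
  have h3 : φ (y * x * y⁻¹) = φ x := h.φ_eq_of hx' fun w hw => by
    have hw' := conj_mem_of_mem_normalizer' hy' hw
    have h4 := h1 _ (h.cj_mem hx hw')
    have h5 := h1 _ hw'
    rw [h.act _ hx _ hw', ← h5] at h4
    convert h4 using 2 <;> [group; (congr 1; group)]
  have h4 := h.conj_eq_of_φ hx' hx h3 hv'
  have h5 := mem_cent.1 (h.cent_of_ψ hv hv' (h1 v hv).symm) x hx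
  rw [mem_cent1, commutatorElement_def, eq_comm, ← mul_inv_eq_iff_eq_mul]
  calc y * (x * v * x⁻¹ * v⁻¹) * y⁻¹
      = (y * x * y⁻¹) * (y * v * y⁻¹) * (y * x * y⁻¹)⁻¹ * (y * v * y⁻¹)⁻¹ := by group
    _ = x * v * x⁻¹ * (x * (v⁻¹ * (y * v * y⁻¹))) * x⁻¹ * (y * v * y⁻¹)⁻¹ := by rw [h4]; group
    _ = x * v * x⁻¹ * v⁻¹ := by rw [h5]; group
/-- Restriction to `[V, X]`. -/
theorem restr (h : Nm F X V A φ ψ) : Nm F X ⁅V, X⁆ A φ ψ where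
  le := h.le
  norm := le_norm_commutator_right
  elem := ⟨comm_of_le h.elem.1 h.restr_le, fun a ha => h.elem.2 a (h.restr_le ha)⟩
  φ_mul := h.φ_mul
  φ_surj := h.φ_surj
  φ_ker x hx := (h.φ_ker x hx).trans ⟨fun h1 => cent_le_cent h.restr_le h1, fun h1 =>
    le_cent1_iff.1 (h.le_restr.trans (sup_le (le_cent1_iff.2 h1)
      (inf_le_right.trans (cent_le_cent1 hx))))⟩
  ψ_mul v hv w hw := h.ψ_mul v (h.restr_le hv) w (h.restr_le hw)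
  ψ_surj := h.restr_surj
  ψ_ker v hv := h.ψ_ker v (h.restr_le hv)
  act x hx v hv := h.act x hx v (h.restr_le hv)
  φ_A := h.φ_A
  A_surj := h.A_surj
  fix v hv := h.fix v (h.restr_le hv)
theorem comm_A_le (h : Nm F X V A φ ψ) : ⁅V, A⁆ ≤ V ⊓ 𝒞(A) := by
  rw [commutator_comm, commutator_le]
  intro a ha v hv
  have h1 := V.mul_mem (h.cj_mem (h.le ha) hv) (V.inv_mem hv)
  exact ⟨h1, h.fix _ h1 (by rw [commutatorElement_def, h.ψ_comm ha hv]; rfl)⟩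
theorem restr_inf (h : Nm F X V A φ ψ) : ⁅V, X⁆ ⊓ 𝒞(A) = ⁅V, A⁆ := by
  refine le_antisymm ?_ (le_inf (commutator_mono le_rfl h.le) (h.comm_A_le.trans inf_le_right))
  obtain ⟨g, hg, hw⟩ := h.φ_surj wM
  have key : ∀ m : SL(2, F), ∀ x ∈ X, φ x = m → ∀ v ∈ V,
      x * v * x⁻¹ * v⁻¹ ∈ ⁅V, A⁆ ⊔ cj g ⁅V, A⁆ := by
    refine sl_ind ?_ ?_ ?_
    · intro m m' h1 h2 x hx h3 v hv
      obtain ⟨y, hy, rfl⟩ := h.φ_surj m
      obtain ⟨z, hz, rfl⟩ := h.φ_surj m'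
      rw [h.conj_eq_of_φ hx (X.mul_mem hy hz) (h3.trans (h.φ_mul _ hy _ hz).symm) hv]
      convert mul_mem (h1 y hy rfl _ (h.cj_mem hz hv)) (h2 z hz rfl _ hv) using 1
      group
    · intro s x hx h1 v hv
      obtain ⟨a, ha, h2⟩ := h.exists_uM s
      rw [h.conj_eq_of_φ hx (h.le ha) (h1.trans h2.symm) hv]
      exact mem_sup_left (h.comm_mem h.le ha hv)
    · intro s x hx h1 v hv
      obtain ⟨a, ha, h2⟩ := h.exists_uM s
      have h3 : g * a * g⁻¹ ∈ X := X.mul_mem (X.mul_mem hg (h.le ha)) (X.inv_mem hg)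
      rw [h.conj_eq_of_φ hx h3 (by rw [h.φ_conj hg (h.le ha), hw, h2, wM_uM, h1]) hv]
      refine mem_sup_right (mem_cj.2 ?_)
      convert h.comm_mem h.le ha (h.cj_mem (X.inv_mem hg) hv) using 1
      group
  have h1 : ⁅V, X⁆ ≤ ⁅V, A⁆ ⊔ cj g ⁅V, A⁆ := by
    rw [commutator_comm, commutator_le]
    exact fun x hx v hv => key _ x hx rfl v hv
  have h2 : ⁅V, A⁆ ≤ V := h.comm_A_le.trans inf_le_left
  have h3 : cj g ⁅V, A⁆ ≤ V := (cj_mono g h2).trans (cj_eq_self_iff.2 (h.norm hg)).le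
  rintro w ⟨h4, h5⟩
  obtain ⟨b, hb, c, hc, rfl⟩ := (mem_sup_of_normalizes
    (h3.trans (h.comm.trans ((cent_le_cent h2).trans cent_le_norm)))).1 (h1 h4)
  refine mul_mem hb ?_
  have h6 : c ∈ 𝒞(A) := (𝒞(A).mul_mem_cancel_left (h.comm_A_le hb).2).1 h5
  have h7 := mem_cj.1 hc
  have h8 := h.act g hg _ (h2 h7)
  rw [show g * (g⁻¹ * c * g) * g⁻¹ = c by group, hw] at h8
  have h9 := (h.mem_cent_A (h3 hc)).1 h6
  have h10 := (h.mem_cent_A (h2 h7)).1 (h.comm_A_le h7).2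
  rw [h8, sl_vec] at h9
  have h11 := mem_cent.1 ((h.ψ_ker _ (h2 h7)).1 (vec_ext (by simpa [wM] using h9) h10)) g hg
  rwa [show c = g⁻¹ * c * g by rw [← mul_left_inj g, ← h11]; group]

end Nm

/-- An additive map commuting with `SL₂` is a scalar. -/
theorem scalar_of_comm (τ : (Fin 2 → F) →+ (Fin 2 → F))
    (h : ∀ (m : SL(2, F)) u, τ (m.1 *ᵥ u) = m.1 *ᵥ τ u) : ∃ r : F, ∀ u, τ u = r • u := by
  have h1 : ∀ s, τ ![s, 0] = ![s * τ ![0, 1] 1, 0] := fun s => by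
    have := h (uM s) ![0, 1]
    rw [show (uM s).1 *ᵥ ![0, 1] = ![s, 0] + ![0, 1] by
      apply vec_ext <;> rw [sl_vec] <;> simp [uM], map_add] at this
    have h0 := congrFun this 0
    have h1 := congrFun this 1
    rw [Pi.add_apply, sl_vec] at h0 h1
    apply vec_ext
    · simp [uM] at h0
      exact add_right_cancel (h0.trans (add_comm _ _))
    · simpa [uM] using h1
  have h2 : ∀ s, τ ![0, s] = ![0, s * τ ![1, 0] 0] := fun s => by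
    have := h (lM s) ![1, 0]
    rw [show (lM s).1 *ᵥ ![1, 0] = ![0, s] + ![1, 0] by
      apply vec_ext <;> rw [sl_vec] <;> simp [lM], map_add] at this
    have h0 := congrFun this 0
    have h1 := congrFun this 1
    rw [Pi.add_apply, sl_vec] at h0 h1
    apply vec_ext
    · simpa [lM] using h0
    · simpa [lM] using h1
  refine ⟨τ ![0, 1] 1, fun u => ?_⟩
  have h3 : u = ![u 0, 0] + ![0, u 1] := by apply vec_ext <;> simp
  rw [h3, map_add, h1 (u 0), h2 (u 1), h1 1]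
  apply vec_ext <;> simp [mul_comm]

/-- An additive bijection normalizing `SL₂` is semilinear. -/
theorem semi_of_norm (σ : (Fin 2 → F) ≃+ (Fin 2 → F))
    (h : ∀ m' : SL(2, F), ∃ m : SL(2, F), ∀ u, σ (m.1 *ᵥ u) = m'.1 *ᵥ σ u) :
    ∃ (m : GL (Fin 2) F) (ρ : F ≃+* F), ∀ u, σ u = m.1 *ᵥ fun i => ρ (u i) := by
  have h1 : ∀ l : F, ∃ r : F, ∀ u, σ (l • u) = r • σ u := fun l => by
    obtain ⟨r, hr⟩ := scalar_of_comm (AddMonoidHom.mk' (fun w => σ (l • σ.symm w))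
      fun a b => by simp) fun m' w => by
        obtain ⟨m, hm⟩ := h m'
        obtain ⟨u, rfl⟩ := σ.surjective w
        simp only [AddMonoidHom.mk'_apply, ← hm, AddEquiv.symm_apply_apply, Matrix.mulVec_smul]
    exact ⟨r, fun u => by simpa using hr (σ u)⟩
  choose ρ hρ using h1
  have hne : σ ![1, 0] ≠ 0 := by
    rw [Ne, map_eq_zero_iff _ σ.injective]
    intro h0
    simpa using congrFun h0 0
  have hc : ∀ a b : F, a • σ ![1, 0] = b • σ ![1, 0] → a = b := fun a b h0 =>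
    smul_left_injective F hne h0
  let ρ' : F →+* F :=
    { toFun := ρ
      map_one' := hc _ _ (by rw [← hρ, one_smul, one_smul])
      map_mul' := fun a b => hc _ _ (by rw [← hρ, mul_smul, hρ, hρ, mul_smul])
      map_zero' := hc _ _ (by rw [← hρ, zero_smul, map_zero, zero_smul])
      map_add' := fun a b => hc _ _ (by rw [← hρ, add_smul, map_add, hρ, hρ, add_smul]) }
  let M : Matrix (Fin 2) (Fin 2) F :=
    !![σ ![1, 0] 0, σ ![0, 1] 0; σ ![1, 0] 1, σ ![0, 1] 1]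
  have hM : ∀ u, σ u = M *ᵥ fun i => ρ (u i) := fun u => by
    have h3 : u = u 0 • ![1, 0] + u 1 • ![0, 1] := by apply vec_ext <;> simp
    conv_lhs => rw [h3, map_add, hρ, hρ]
    apply vec_ext <;> simp [M, Matrix.mulVec, dotProduct, Fin.sum_univ_two, mul_comm]
  have hU : IsUnit M := Matrix.mulVec_surjective_iff_isUnit.1 fun w =>
    ⟨_, (hM _).symm.trans (σ.apply_symm_apply w)⟩
  exact ⟨hU.unit, RingEquiv.ofBijective ρ' (Finite.injective_iff_bijective.1 ρ'.injective), hM⟩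

namespace Nm

theorem ψ_conj_eq (h : Nm F X V A φ ψ) (hy : y ∈ 𝒩(X)) (hy' : y ∈ 𝒩(V)) (hv : v ∈ V) (hw : w ∈ V)
    (h1 : ψ v = ψ w) : ψ (y * v * y⁻¹) = ψ (y * w * y⁻¹) := by
  have h2 := h.cent_of_ψ hv hw h1
  have h3 := V.mul_mem (V.inv_mem hv) hw
  have h4 := (h.ψ_ker _ (conj_mem_of_mem_normalizer hy' h3)).2
    (conj_mem_of_mem_normalizer (H1.normalizer_le_normalizer_centralizer X hy) h2)
  have h5 := h.ψ_mul _ (conj_mem_of_mem_normalizer hy' hv) _ (conj_mem_of_mem_normalizer hy' h3)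
  rw [h4, add_zero] at h5
  rw [← h5]
  congr 1
  group

/-- The normalizer acts semilinearly. -/
theorem semi (h : Nm F X V A φ ψ) (hy : y ∈ 𝒩(X)) (hy' : y ∈ 𝒩(V)) :
    ∃ (m : GL (Fin 2) F) (ρ : F ≃+* F), (∀ v ∈ V, ψ (y * v * y⁻¹) = m.1 *ᵥ fun i => ρ (ψ v i)) ∧
      ∀ x ∈ X, (φ (y * x * y⁻¹)).1 = m.1 * (φ x).1.map ρ * (m⁻¹).1 := by
  choose s hs1 hs2 using h.ψ_surj
  have k1 : ∀ y ∈ 𝒩(X), y ∈ 𝒩(V) → ∀ v ∈ V, ψ (y * s (ψ v) * y⁻¹) = ψ (y * v * y⁻¹) :=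
    fun y hy hy' v hv => h.ψ_conj_eq hy hy' (hs1 _) hv (hs2 _)
  have k2 : ∀ y ∈ 𝒩(X), y ∈ 𝒩(V) → ∀ u, ψ (y⁻¹ * s (ψ (y * s u * y⁻¹)) * y⁻¹⁻¹) = u :=
    fun y hy hy' u => by
      rw [k1 _ (inv_mem hy) (inv_mem hy') _ (conj_mem_of_mem_normalizer hy' (hs1 u))]
      conv_rhs => rw [← hs2 u]
      congr 1
      group
  let σ : (Fin 2 → F) ≃+ (Fin 2 → F) :=
    { toFun := fun u => ψ (y * s u * y⁻¹)
      invFun := fun u => ψ (y⁻¹ * s u * y⁻¹⁻¹)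
      left_inv := k2 y hy hy'
      right_inv := fun u => by simpa using k2 y⁻¹ (inv_mem hy) (inv_mem hy') u
      map_add' := fun u u' => by
        rw [← h.ψ_mul _ (conj_mem_of_mem_normalizer hy' (hs1 u)) _
          (conj_mem_of_mem_normalizer hy' (hs1 u')), h.ψ_conj_eq hy hy' (hs1 _)
          (V.mul_mem (hs1 u) (hs1 u')) (by rw [h.ψ_mul _ (hs1 u) _ (hs1 u'), hs2, hs2, hs2])]
        congr 1
        group }
  have k3 : ∀ v ∈ V, σ (ψ v) = ψ (y * v * y⁻¹) := k1 y hy hy'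
  have k4 : ∀ x ∈ X, ∀ u, σ ((φ x).1 *ᵥ u) = (φ (y * x * y⁻¹)).1 *ᵥ σ u := fun x hx u => by
    rw [← hs2 u, ← h.act _ hx _ (hs1 u), k3 _ (h.cj_mem hx (hs1 u)), k3 _ (hs1 u),
      ← h.act _ (conj_mem_of_mem_normalizer hy hx) _ (conj_mem_of_mem_normalizer hy' (hs1 u))]
    congr 1
    group
  obtain ⟨m, ρ, hm⟩ := semi_of_norm σ fun m' => by
    obtain ⟨x, hx, rfl⟩ := h.φ_surj m'
    refine ⟨_, fun u => (k4 _ (conj_mem_of_mem_normalizer' hy hx) u).trans ?_⟩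
    congr 3
    group
  refine ⟨m, ρ, fun v hv => by rw [← k3 v hv, hm], fun x hx => ?_⟩
  rw [Units.eq_mul_inv_iff_mul_eq]
  refine Matrix.toLin'.injective (LinearMap.ext fun w => ?_)
  have := k4 x hx fun i => ρ.symm (w i)
  rw [hm, hm] at this
  simp only [RingEquiv.apply_symm_apply] at this
  simp only [Matrix.toLin'_apply, ← Matrix.mulVec_mulVec]
  rw [← this]
  congr 1
  funext i
  simp [Matrix.mulVec, dotProduct, Fin.sum_univ_two]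

end Nm

/-- The torus. -/
theorem SA.torus (hs : SA T A) (h : Nm F X V A φ ψ) {l : F} (hl : l ≠ 0) :
    ∃ x ∈ X ⊓ 𝒩(A), Odd (orderOf x) ∧ (φ x).1 = !![l, 0; 0, l⁻¹] := by
  obtain ⟨x, hx, h1⟩ := h.φ_surj (dM l hl)
  let B : Subgroup G :=
    { carrier := {y | y ∈ X ∧ φ y 0 0 = 1 ∧ φ y 1 0 = 0 ∧ φ y 1 1 = 1}
      one_mem' := ⟨X.one_mem, by simp [h.φ_one]⟩
      mul_mem' := fun {a b} ha hb => ⟨X.mul_mem ha.1 hb.1, by
        simp only [h.φ_mul _ ha.1 _ hb.1, sl_mul, ha.2, hb.2]; simp⟩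
      inv_mem' := fun {a} ha => ⟨X.inv_mem ha.1, by
        simp [h.φ_inv ha.1, Matrix.SpecialLinearGroup.SL2_inv_expl, ha.2]⟩ }
  have h2 : cj x A ≤ B := cj_le_iff.2 fun a ha =>
    ⟨X.mul_mem (X.mul_mem hx (h.le ha)) (X.inv_mem hx), by
      rw [h.φ_conj hx (h.le ha), h.φ_eq ha, h1, dM_uM]
      simp [uM]⟩
  obtain ⟨g, hg, h3⟩ := hs.exists_cj_eq (H := B) (hs.cjj x) (fun a ha => ⟨h.le ha, h.φ_A a ha⟩) h2
  rw [cj_cj, cj_eq_self_iff] at h3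
  obtain ⟨a, ha, h4⟩ := h.exists_uM (φ g 0 1)
  have h5 : φ a = φ g := by rw [h4]; apply sl_ext <;> simp [uM, hg.2]
  have h6 : a⁻¹ * (g * x) ∈ X := X.mul_mem (X.inv_mem (h.le ha)) (X.mul_mem hg.1 hx)
  have h7 : φ (a⁻¹ * (g * x)) = dM l hl := by
    rw [h.φ_mul _ (X.inv_mem (h.le ha)) _ (X.mul_mem hg.1 hx), h.φ_mul _ hg.1 _ hx,
      h.φ_inv (h.le ha), h5, h1, inv_mul_cancel_left]
  have h8 : a⁻¹ * (g * x) ∈ 𝒩(A) := mul_mem (inv_mem (le_normalizer ha)) h3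
  obtain ⟨k, hk⟩ := St.exists_pow_odd (a⁻¹ * (g * x))
  obtain ⟨n, -, hn⟩ := FiniteField.card F 2
  refine ⟨(a⁻¹ * (g * x)) ^ Fintype.card F ^ k, pow_mem (Subgroup.mem_inf.2 ⟨h6, h8⟩) _, ?_, ?_⟩
  · obtain ⟨j, hj⟩ : 2 ^ k ∣ Fintype.card F ^ k := pow_dvd_pow_of_dvd (hn ▸ dvd_pow_self 2 n.2.ne') k
    rw [hj, pow_mul]
    exact hk.of_dvd_nat (orderOf_pow_dvd j)
  · rw [h.φ_pow h6, h7, Matrix.SpecialLinearGroup.coe_pow]
    have : (dM l hl).1 = Matrix.diagonal ![l, l⁻¹] := by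
      ext i j; fin_cases i <;> fin_cases j <;> simp [dM]
    rw [this, Matrix.diagonal_pow]
    ext i j; fin_cases i <;> fin_cases j <;> simp [FiniteField.pow_card_pow]

end Cfsg.Agent.C2
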