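import Cfsg.Agent.Lib.C2.Loc
import Cfsg.Agent.Lib.C2.Nm
import Cfsg.Agent.Lib.C2.ModA

/-!
# S1170: the module lemma (part A2) (see notes/C2.md)
-/

set_option autoImplicit false
set_option linter.unusedSectionVars false
set_option linter.unusedVariables false

namespace Cfsg.Agent.C2

open Subgroup Cfsg.Agent.H6 Cfsg.Agent.FT Cfsg.Agent.BD.P1 Cfsg.Agent.G75 Cfsg.Agent.G74
open Cfsg.Agent.St (Od)
open scoped commutatorElement MatrixGroups Matrix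

universe u

variable {G : Type*} [Group G] [Finite G] {T : Set G}
variable {A B C D E H K L M N P Q R S U V W X Y W₁ W₂ : Subgroup G}
variable {a b c d e g h n r s t v w x y z : G}

section Sec
open Cfsg.Agent.PU (Mod2 Quad Line On TI fx El Sec)
variable {Γ Wm : Type*} [Group Γ] [AddCommGroup Wm] [DistribMulAction Γ Wm] [Finite Γ] [Finite Wm]
  {f : L →* Γ} {π : G → Wm}

theorem sec_inj (hs : Sec L V ⊥ Wm f π) (he : El V) (hv : v ∈ V) (hw : w ∈ V) (e : π v = π w) :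
    v = w := by
  have := (hs.zero _ (mul_mem hv hw)).1 (by rw [hs.add v hv w hw, e, hs.mod.two])
  rw [eq_inv_of_mul_eq_one_left (mem_bot.1 this), he.inv hw]

theorem sec_smul (hs : Sec L V ⊥ Wm f π) (he : El V) (hn : L ≤ 𝒩(V)) (l : L) (hv : v ∈ V) :
    f l • π v = π v ↔ (l : G) * v = v * l := by
  rw [← hs.act l v hv, ← mul_inv_eq_iff_eq_mul]
  exact ⟨sec_inj hs he (conj_mem_of_mem_normalizer (hn l.2) hv) hv, fun e => by rw [e]⟩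

theorem sec_fix (hs : Sec L V ⊥ Wm f π) (he : El V) (hn : L ≤ 𝒩(V)) (hB : B ≤ L) (hv : v ∈ V) :
    π v ∈ fx Wm (mim f B) ↔ v ∈ 𝒞(B) := by
  refine ⟨fun e b hb => (sec_smul hs he hn ⟨b, hB hb⟩ hv).1 (e _ (mem_mim_of_mem hb _)),
    fun e z hz => ?_⟩
  obtain ⟨b, hb, rfl⟩ := mem_mim.1 hz
  exact (sec_smul hs he hn b hv).2 (e b hb)

theorem sec_ker (hs : Sec L V ⊥ Wm f π) (he : El V) (hn : L ≤ 𝒩(V)) (l : L) :
    f l = 1 ↔ (l : G) ∈ 𝒞(V) := by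
  refine ⟨fun e v hv => ((sec_smul hs he hn l hv).1 (by rw [e, one_smul])).symm,
    fun e => hs.mod.faith _ fun u => ?_⟩
  obtain ⟨v, hv, rfl⟩ := hs.onto u
  exact (sec_smul hs he hn l hv).2 (e v hv).symm

theorem sec_idx (hs : Sec L V ⊥ Wm f π) (he : El V) (hn : L ≤ 𝒩(V)) (hB : B ≤ L) :
    𝒞(B).relIndex V * Nat.card (fx Wm (mim f B)) = Nat.card Wm := by
  obtain ⟨U, hU, h1, h2⟩ := hs.cnt (fx Wm (mim f B))
  obtain ⟨U', hU', h3, h4⟩ := hs.cnt ⊤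
  have e1 : U' = V := le_antisymm hU' fun v hv => (h3 v hv).2 trivial
  have e2 : U = 𝒞(B) ⊓ V := by
    ext v
    exact ⟨fun hv => ⟨(sec_fix hs he hn hB (hU hv)).1 ((h1 v (hU hv)).1 hv), hU hv⟩,
      fun hv => (h1 v hv.2).2 ((sec_fix hs he hn hB hv.2).2 hv.1)⟩
  rw [card_bot, one_mul] at h2 h4
  rw [AddSubgroup.card_top, e1] at h4
  rw [← h2, ← h4, e2, ← inf_relIndex_right, ← card_eq_relIndex_mul inf_le_right]

theorem sec_card (hs : Sec L V ⊥ Wm f π) (he : El V) (hn : L ≤ 𝒩(V)) (hB : B ≤ L) :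
    Nat.card (mim f B) = 𝒞(V).relIndex B := by
  rw [card_mim hB, ← inf_relIndex_right, ← inf_relIndex_right 𝒞(V)]
  congr 1
  ext x
  refine and_congr_left fun hx => ?_
  exact ⟨fun e => let ⟨h1, h2⟩ := mem_mpre.1 e; (sec_ker hs he hn ⟨x, h1⟩).1 (mem_bot.1 h2),
    fun e => mem_mpre.2 ⟨hB hx, mem_bot.2 ((sec_ker hs he hn ⟨x, hB hx⟩).2 e)⟩⟩

theorem sec_quad (hs : Sec L V ⊥ Wm f π) (he : El V) (hn : L ≤ 𝒩(V)) (h : SB T A) (hA : A ≤ L)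
    (hV : V ≤ A) : ∀ b ∈ mim f A, ∀ u : Wm, b • u - u ∈ fx Wm (mim f A) := by
  intro z hz u
  obtain ⟨b, hb, rfl⟩ := mem_mim.1 hz
  obtain ⟨v, hv, rfl⟩ := hs.onto u
  have h1 := conj_mem_of_mem_normalizer (hn b.2) hv
  rw [← hs.act b v hv, sub_eq_add_neg, neg_eq_of_add_eq_zero_left (hs.mod.two _),
    ← hs.add _ h1 _ hv, sec_fix hs he hn hA (mul_mem h1 hv)]
  have := h.cl (commutator_mem_commutator hb (hV hv))
  rwa [commutatorElement_def, he.inv hv] at this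

end Sec

theorem Ess.exists_sec {G : Type u} [Group G] [Finite G] {T : Set G} {A Q : Subgroup G}
    (h : SB T A) (hQ : Ess ⊤ A Q) :
    ∃ (Γ Wm : Type u) (_ : Group Γ) (_ : Finite Γ) (_ : AddCommGroup Wm) (_ : Finite Wm)
      (_ : DistribMulAction Γ Wm) (f : 𝒩(Q) →* Γ) (π : G → Wm),
      PU.Sec 𝒩(Q) (VV A Q) ⊥ Wm f π :=
  PU.exists_sec ⟨((hQ.VV_le h).trans inf_le_left).trans le_normalizer, norm_VV⟩
    ⟨bot_le, fun _ _ => mem_normalizer_of_conj_mem fun x hx => by simpa using hx⟩ bot_le (PU.el_iff.2 (hQ.VV_elem h))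

theorem Ess.cent_relIndex (h : SB T A) (hQ : Ess ⊤ A Q) (hB : B ≤ A) :
    𝒞(VV A Q).relIndex B = Q.relIndex B := by
  rw [← inf_relIndex_right, ← inf_relIndex_right Q]
  congr 1
  exact le_antisymm (le_inf ((le_inf (inf_le_right.trans hB) inf_le_left).trans (hQ.cent_VV h).le)
    inf_le_right) (inf_le_inf_right _ ((hQ.cent_VV h).ge.trans inf_le_right))

theorem Ess.ineq (h : SB T A) (hQ : Ess ⊤ A Q) (ha : a ∈ A) (h1 : a ∉ Q) :
    Q.relIndex A ≤ (𝒞[a]).relIndex (VV A Q) := by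
  obtain ⟨Γ, Wm, _, _, _, _, _, f, π, hs⟩ := hQ.exists_sec h
  have he := PU.el_iff.2 (hQ.VV_elem h)
  have hn : 𝒩(Q) ≤ 𝒩(VV A Q) := norm_VV
  have hA := hQ.norm h
  have hVQ := (hQ.VV_le h).trans inf_le_left
  have hQC : Q ≤ 𝒞(VV A Q) := (hQ.cent_VV h).ge.trans inf_le_right
  obtain ⟨g, hg, hgen⟩ := hQ.gen h
  have hg' := XX_le hg
  have hA' : cj g A ≤ 𝒩(Q) := cj_le_of_mem hg' hA
  have hV' : VV A Q ≤ cj g A := by
    rw [← cj_eq_self_iff.2 (hn hg')]; exact cj_mono g (hVQ.trans hQ.lt.le)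
  have := mod_ineq hs.mod (a := f ⟨a, hA ha⟩) (E := mim f (cj g A))
    (by rw [← map_mul]; exact (sec_ker hs he hn _).2 (hQC (hQ.sq h ha)))
    (sec_quad hs he hn (h.cjj g) hA' hV') fun z hz z1 => by
      obtain ⟨b, hb, rfl⟩ := mem_mim.1 hz
      obtain ⟨h2, k, hk, h3⟩ := hgen a ha h1 b hb fun e => z1 ((sec_ker hs he hn b).2 (hQC e))
      rw [← map_mul]
      exact ⟨fun e => h2 ((sec_ker hs he hn _).1 e), k, hk, by
        rw [← map_pow]; exact (sec_ker hs he hn _).2 h3⟩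
  rw [mim_cj hg', card_cj, sec_card hs he hn hA, hQ.cent_relIndex h le_rfl, ← mim_zpowers,
    ← sec_idx hs he hn (zpowers_le.2 (hA ha))] at this
  have e : 𝒞(zpowers a) = 𝒞[a] := by
    ext x
    rw [mem_cent1]
    exact ⟨fun e => (e a (mem_zpowers a)).symm, fun e => le_centralizer_iff.1
      (zpowers_le.2 (show a ∈ 𝒞(zpowers x) from by
        rintro _ ⟨k, rfl⟩; exact (Commute.zpow_left e k))) (mem_zpowers x)⟩
  rw [← e]
  exact Nat.le_of_mul_le_mul_right this Nat.card_pos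

theorem Ess.off (h : SB T A) (hQ : Ess ⊤ A Q) (hB : B ≤ A) (h1 : ¬ B ≤ Q)
    (h2 : 𝒞(B).relIndex (VV A Q) ≤ Q.relIndex B) :
    B ⊔ Q = A ∧ 𝒞(A).relIndex (VV A Q) = Q.relIndex A ∧
      ∀ a ∈ A, a ∉ Q → VV A Q ⊓ 𝒞[a] ≤ 𝒞(A) := by
  obtain ⟨b, hb, hb'⟩ := SetLike.not_le_iff_exists.1 h1
  have c1 : ∀ {D : Subgroup G} {a : G}, a ∈ D → 𝒞(D) ≤ 𝒞[a] := fun ha x hx =>
    mem_cent1.2 (hx _ ha).symm
  have i1 := hQ.ineq h (hB hb) hb'
  have i2 : (𝒞[b]).relIndex (VV A Q) ≤ 𝒞(B).relIndex (VV A Q) :=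
    relIndex_le_of_le_left (c1 hb) (relIndex_ne_zero' _ _)
  have i3 : Q.relIndex A ≤ Q.relIndex B := i1.trans (i2.trans h2)
  have hN : NormalIn Q A := ⟨hQ.lt.le, hQ.norm h⟩
  have e1 : B ⊔ Q = A := by
    refine eq_of_le_of_card_ge (sup_le hB hQ.lt.le) ?_
    rw [card_eq_relIndex_mul hQ.lt.le, card_eq_relIndex_mul (le_sup_right : Q ≤ B ⊔ Q),
      sup_comm, relIndex_sup_of_norm (hB.trans hN.norm)]
    exact Nat.mul_le_mul_right _ i3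
  have hQC : Q ≤ 𝒞(VV A Q) := (hQ.cent_VV h).ge.trans inf_le_right
  have e2 : 𝒞(A).relIndex (VV A Q) = 𝒞(B).relIndex (VV A Q) := by
    rw [← inf_relIndex_right, ← inf_relIndex_right 𝒞(B)]
    congr 1
    refine le_antisymm (inf_le_inf_right _ (centralizer_le hB)) fun v hv => ⟨?_, hv.2⟩
    rw [← e1]
    exact le_centralizer_iff.1 (sup_le (le_centralizer_iff.1 (zpowers_le.2 hv.1))
      (hQC.trans (centralizer_le (zpowers_le.2 hv.2)))) (mem_zpowers v)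
  have i4 : Q.relIndex B ≤ Q.relIndex A := relIndex_le_of_le_right hB (relIndex_ne_zero' _ _)
  have e3 : 𝒞(A).relIndex (VV A Q) = Q.relIndex A := by omega
  refine ⟨e1, e3, fun a ha ha' => ?_⟩
  have i5 := hQ.ineq h ha ha'
  have e4 : 𝒞(A) ⊓ VV A Q = 𝒞[a] ⊓ VV A Q := by
    refine eq_of_le_of_card_ge (inf_le_inf_right _ (c1 ha)) ?_
    have j1 := card_eq_relIndex_mul (inf_le_right : 𝒞(A) ⊓ VV A Q ≤ _)
    have j2 := card_eq_relIndex_mul (inf_le_right : 𝒞[a] ⊓ VV A Q ≤ _)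
    rw [inf_relIndex_right] at j1 j2
    refine Nat.le_of_mul_le_mul_left ?_ (Nat.pos_of_ne_zero
      (relIndex_ne_zero' 𝒞(A) (VV A Q)))
    rw [← j1, j2]
    exact Nat.mul_le_mul_right _ (e3 ▸ i5)
  rw [inf_comm, ← e4]
  exact inf_le_left

theorem Ess.nm (h : SB T A) (hQ : Ess ⊤ A Q) (h2 : 𝒞(A).relIndex (VV A Q) ≤ Q.relIndex A)
    (F : Type) [Field F] [Fintype F] (hF : Nat.card F = Q.relIndex A) :
    ∃ φ ψ, Nm F (XX T Q) (VV A Q) A φ ψ := by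
  classical
  obtain ⟨-, e1, e2⟩ := hQ.off h le_rfl hQ.lt.not_ge h2
  obtain ⟨Γ, Wm, _, _, _, _, _, f, π, hs⟩ := hQ.exists_sec h
  have he := PU.el_iff.2 (hQ.VV_elem h)
  have hn : 𝒩(Q) ≤ 𝒩(VV A Q) := norm_VV
  have hA := hQ.norm h
  have hVQ := (hQ.VV_le h).trans inf_le_left
  have hQC : Q ≤ 𝒞(VV A Q) := (hQ.cent_VV h).ge.trans inf_le_right
  have cE : Nat.card (mim f A) = Q.relIndex A := by
    rw [sec_card hs he hn hA, hQ.cent_relIndex h le_rfl]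
  obtain ⟨a0, ha0, ha1⟩ := SetLike.not_le_iff_exists.1 hQ.lt.not_ge
  have nq : ∀ a : 𝒩(Q), (a : G) ∈ A → (f a = 1 ↔ (a : G) ∈ Q) := fun a ha => by
    rw [sec_ker hs he hn]
    exact ⟨fun e => (hQ.cent_VV h).le ⟨ha, e⟩, fun e => hQC e⟩
  have hX : PU.Quad Wm (mim f A) := by
    refine ⟨fun e => ha1 ((nq ⟨a0, hA ha0⟩ ha0).1 (mem_bot.1 (e.le (mem_mim_of_mem ha0 _)))),
      by rw [cE, ← e1, sec_idx hs he hn hA], fun z hz z1 u hu => ?_,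
      sec_quad hs he hn h hA (hVQ.trans hQ.lt.le)⟩
    obtain ⟨a, ha, rfl⟩ := mem_mim.1 hz
    obtain ⟨v, hv, rfl⟩ := hs.onto u
    exact (sec_fix hs he hn hA hv).2 (e2 a ha (fun e => z1 ((nq a ha).2 e))
      ⟨hv, mem_cent1.2 ((sec_smul hs he hn a hv).1 hu).symm⟩)
  have hsa : SA (f '' (𝒩(Q).subtype ⁻¹' T)) (mim f A) :=
    (h.toSA.comap 𝒩(Q).subtype_injective (by rwa [range_subtype])).map hs.surj
  obtain ⟨g, hg, hgen⟩ := hQ.gen h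
  have hg' := XX_le hg
  have hne : cj (f ⟨g, hg'⟩) (mim f A) ≠ mim f A := fun e => by
    rw [← mim_cj hg'] at e
    obtain ⟨b, hb, eb⟩ := mem_mim.1 (e.ge (mem_mim_of_mem ha0 (hA ha0)))
    refine (hgen a0 ha0 ha1 b hb fun e => ha1 ((nq ⟨a0, hA ha0⟩ ha0).1 ?_)).1
      ((sec_ker hs he hn (⟨a0, hA ha0⟩ * b)).1 ?_)
    · rw [← eb]; exact (sec_ker hs he hn b).2 (hQC e)
    · rw [map_mul, eb, ← map_mul]
      exact (sec_ker hs he hn _).2 (hQC (hQ.sq h ha0))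
  have hK : Nc (f '' (𝒩(Q).subtype ⁻¹' T)) ⊤ = mim f (XX T Q) := by
    refine le_antisymm ((closure_le _).2 ?_) ((mim_le_iff XX_le).2 ((closure_le _).2 fun x hx =>
      mem_mpre.2 ⟨hx.2, subset_closure ⟨⟨⟨x, hx.2⟩, hx.1, rfl⟩, trivial⟩⟩))
    rintro _ ⟨⟨x, hx, rfl⟩, -⟩
    exact mem_mim.2 ⟨x, subset_closure ⟨hx, x.2⟩, rfl⟩
  obtain ⟨φ, ψ, a1, a2, a3, a4, a5, a6, a7, a8, a9⟩ := mod_nm hs.mod hX hsa hne F (hF.trans cE.symm)
  rw [hK] at a1 a2 a3 a5 a6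
  let f' : G → Γ := fun x => if hx : x ∈ 𝒩(Q) then f ⟨x, hx⟩ else 1
  have ef : ∀ x (hx : x ∈ 𝒩(Q)), f' x = f ⟨x, hx⟩ := fun x hx => dif_pos hx
  have mX : ∀ {B : Subgroup G}, B ≤ 𝒩(Q) → ∀ x ∈ B, f' x ∈ mim f B := fun hB x hx =>
    ef x (hB hx) ▸ mem_mim_of_mem hx _
  have hAX : A ≤ XX T Q := le_Nc h.sub hA
  refine ⟨fun x => φ (f' x), fun v => ψ (π v), hAX, XX_le.trans hn, hQ.VV_elem h,
    fun x hx y hy => ?_, fun n => ?_, fun x hx => ?_, fun v hv w hw => ?_, fun u => ?_,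
    fun v hv => ?_, fun x hx v hv => ?_, fun a ha => a7 _ (mX hA a ha), fun s => ?_,
    fun v hv e => (sec_fix hs he hn hA hv).1 (a9 _ e)⟩
  · rw [← a1 _ (mX XX_le x hx) _ (mX XX_le y hy), ef x (XX_le hx), ef y (XX_le hy),
      ef _ (XX_le (mul_mem hx hy)), ← map_mul]
    rfl
  · obtain ⟨z, hz, e⟩ := a2 n
    obtain ⟨x, hx, rfl⟩ := mem_mim.1 hz
    exact ⟨x, hx, by rw [ef x x.2]; exact e⟩
  · rw [a3 _ (mX XX_le x hx), ef x (XX_le hx), sec_ker hs he hn]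
  · rw [hs.add v hv w hw, map_add]
  · obtain ⟨u', rfl⟩ := a4 u
    obtain ⟨v, hv, rfl⟩ := hs.onto u'
    exact ⟨v, hv, rfl⟩
  · rw [a5, sec_fix hs he hn XX_le hv]
  · rw [← a6 _ (mX XX_le x hx), ef x (XX_le hx), ← hs.act _ v hv]
  · obtain ⟨z, hz, e⟩ := a8 s
    obtain ⟨x, hx, rfl⟩ := mem_mim.1 hz
    exact ⟨x, hx, by rw [ef x x.2]; exact e⟩

end Cfsg.Agent.C2
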