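import Cfsg.Agent.Lib.C2.Nm

/-!
# S1170: the Sylow subgroup in rank two (see notes/C2.md)
-/

set_option autoImplicit false
set_option linter.unusedSectionVars false
set_option linter.unusedVariables false

namespace Cfsg.Agent.C2

open Subgroup Cfsg.Agent.H6 Cfsg.Agent.FT Cfsg.Agent.BD.P1 Cfsg.Agent.G75 Cfsg.Agent.G74
open Cfsg.Agent.St (Od)
open scoped commutatorElement MatrixGroups Matrix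

universe u

variable {G : Type*} [Group G] [Finite G] {T : Set G}
variable {A B C D E H K L M N P Q R S U V W X Y W₁ W₂ : Subgroup G}
variable {a b c d e g h n r s t v w x y z : G}
variable {F : Type} [Field F] [Fintype F] [CharP F 2] {φ φ₁ φ₂ : G → SL(2, F)}
  {ψ ψ₁ ψ₂ : G → Fin 2 → F}

theorem two_le_card : 2 ≤ Nat.card F := Finite.one_lt_card

theorem four_le_card (h : Nat.card F ≠ 2) : 4 ≤ Nat.card F := by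
  obtain ⟨n, -, hn⟩ := FiniteField.card F 2
  rw [Nat.card_eq_fintype_card, hn] at h ⊢
  have h1 : (n : ℕ) ≠ 1 := fun h1 => h (by rw [h1]; rfl)
  have h2 : 0 < (n : ℕ) := n.2
  exact Nat.pow_le_pow_right (n := 2) two_pos (show 2 ≤ (n : ℕ) by omega)

/-- The commutator depends only on the coordinates. -/
theorem Nm.comm_eq (h : Nm F X V A φ ψ) (ha : a ∈ A) (hb : b ∈ A) (hv : v ∈ V) (hw : w ∈ V)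
    (h1 : φ a 0 1 = φ b 0 1) (h2 : ψ v 1 = ψ w 1) :
    a * v * a⁻¹ * v⁻¹ = b * w * b⁻¹ * w⁻¹ := by
  rw [h.conj_eq_of_φ (h.le ha) (h.le hb) (by rw [h.φ_eq ha, h.φ_eq hb, h1]) hv]
  have h3 := mem_cent.1 (h.fix _ (V.mul_mem (V.inv_mem hw) hv) (by
    rw [h.ψ_mul _ (V.inv_mem hw) _ hv, h.ψ_inv hw, Pi.add_apply, h2, CharTwo.add_self_eq_zero])) b hb
  calc b * v * b⁻¹ * v⁻¹ = b * w * b⁻¹ * (b * (w⁻¹ * v)) * b⁻¹ * v⁻¹ := by group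
    _ = _ := by rw [h3]; group

theorem R2.le1 (h : R2 F T A W₁ W₂ φ₁ φ₂ ψ₁ ψ₂) : W₁ ≤ A := le_sup_left.trans h.sup.le
theorem R2.symm (h : R2 F T A W₁ W₂ φ₁ φ₂ ψ₁ ψ₂) : R2 F T A W₂ W₁ φ₂ φ₁ ψ₂ ψ₁ where
  toSB := h.toSB
  sup := (sup_comm _ _).trans h.sup
  c1 := h.c2
  c2 := h.c1
  n1 := h.n2
  n2 := h.n1
  inf := by rw [inf_comm, h.inf, commutator_comm]
  z := h.z.trans (inf_comm _ _)
  inv a ha h1 := (h.inv a ha h1).symm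
  cc := eq_bot_iff.2 fun x hx => h.cc.le ⟨⟨(h.z.le ⟨(le_sup_right.trans h.sup.le) hx.1.1,
    cent_le_cent h.n2.le hx.1.2⟩).1, hx.2⟩, hx.1.2⟩
  ess Q hQ := (h.ess Q hQ).symm
theorem R3.symm (h : R3 F T A W₁ W₂ φ₁ φ₂ ψ₁ ψ₂) : R3 F T A W₂ W₁ φ₂ φ₁ ψ₂ ψ₁ where
  toR2 := h.toR2.symm
  syl := h.syl
  m1 := h.m2
  m2 := h.m1
  four := h.four
theorem R4.symm (h : R4 F T A W₁ W₂ φ₁ φ₂ ψ₁ ψ₂) : R4 F T A W₂ W₁ φ₂ φ₁ ψ₂ ψ₁ where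
  toR3 := h.toR3.symm
  s1 := h.s2
  s2 := h.s1
  t1 t ht := h.t2 t ⟨ht.2, ht.1⟩
  t2 t ht := h.t1 t ⟨ht.2, ht.1⟩
theorem R2.le2 (h : R2 F T A W₁ W₂ φ₁ φ₂ ψ₁ ψ₂) : W₂ ≤ A := h.symm.le1
theorem R2.norm1 (h : R2 F T A W₁ W₂ φ₁ φ₂ ψ₁ ψ₂) : A ≤ 𝒩(W₁) := h.n1.le.trans h.n1.norm
theorem R2.z1 (h : R2 F T A W₁ W₂ φ₁ φ₂ ψ₁ ψ₂) : W₁ ⊓ 𝒞(A) = W₁ ⊓ W₂ :=
  le_antisymm (fun _ hx => h.z.le ⟨h.le1 hx.1, hx.2⟩) fun _ hx => ⟨hx.1, (h.z.ge hx).2⟩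
theorem R2.mem_U (h : R2 F T A W₁ W₂ φ₁ φ₂ ψ₁ ψ₂) (hv : v ∈ W₁) : v ∈ W₂ ↔ ψ₁ v 1 = 0 := by
  rw [← h.n1.mem_cent_A hv]
  exact ⟨fun h1 => (h.z1.ge ⟨hv, h1⟩).2, fun h1 => (h.z1.le ⟨hv, h1⟩).2⟩
theorem R2.mem_W (h : R2 F T A W₁ W₂ φ₁ φ₂ ψ₁ ψ₂) (ha : a ∈ A) : a ∈ W₁ ↔ φ₁ a 0 1 = 0 := by
  rw [← h.n1.A_cent ha]
  exact ⟨fun h1 => (h.c1.ge h1).2, fun h1 => h.c1.le ⟨ha, h1⟩⟩
theorem R2.idx1 (h : R2 F T A W₁ W₂ φ₁ φ₂ ψ₁ ψ₂) : W₁.relIndex A = Nat.card F := by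
  rw [← h.n1.card_A, ← inf_relIndex_left A 𝒞(W₁), h.c1]
theorem R2.idx2 (h : R2 F T A W₁ W₂ φ₁ φ₂ ψ₁ ψ₂) : W₂.relIndex W₁ = Nat.card F := by
  rw [← h.n1.card_V, ← inf_relIndex_left W₁ 𝒞(A), h.z1, inf_relIndex_left]
theorem R2.ne (h : R2 F T A W₁ W₂ φ₁ φ₂ ψ₁ ψ₂) : ¬ W₁ ≤ W₂ := fun h1 => by
  have := h.idx2
  rw [relIndex_eq_one.2 h1] at this
  have := two_le_card (F := F)
  omega
theorem card_mul_idx (h : H ≤ K) : Nat.card H * H.relIndex K = Nat.card K := by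
  rw [← card_mul_index (H.subgroupOf K), relIndex, Nat.card_congr (subgroupOfEquivOfLe h).toEquiv]
theorem R2.card_eq (h : R2 F T A W₁ W₂ φ₁ φ₂ ψ₁ ψ₂) : Nat.card W₁ = Nat.card W₂ := by
  have h1 := card_mul_idx h.le1
  have h2 := card_mul_idx h.le2
  rw [h.idx1] at h1
  rw [h.symm.idx1] at h2
  exact Nat.eq_of_mul_eq_mul_right Nat.card_pos (h1.trans h2.symm)
/-- An elementary abelian subgroup of `A` lies in `W₁` or `W₂`. -/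
theorem R2.le_or (h : R2 F T A W₁ W₂ φ₁ φ₂ ψ₁ ψ₂) (hV : V ≤ A) (h2 : ∀ v ∈ V, v * v = 1) :
    V ≤ W₁ ∨ V ≤ W₂ := by
  by_contra h1
  rw [not_or, SetLike.not_le_iff_exists, SetLike.not_le_iff_exists] at h1
  obtain ⟨⟨a, ha, h3⟩, b, hb, h4⟩ := h1
  have h5 := (h.inv a (hV ha) (h2 a ha)).resolve_left h3
  have h6 := (h.inv b (hV hb) (h2 b hb)).resolve_right h4
  rcases h.inv _ (hV (V.mul_mem ha hb)) (h2 _ (V.mul_mem ha hb)) with h7 | h7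
  · exact h3 ((W₁.mul_mem_cancel_right h6).1 h7)
  · exact h4 ((W₂.mul_mem_cancel_left h5).1 h7)
theorem R2.C_le (h : R2 F T A W₁ W₂ φ₁ φ₂ ψ₁ ψ₂) : W₁ ⊓ 𝒞(XX T W₁) ≤ W₁ ⊓ W₂ :=
  (inf_le_inf_left _ (cent_le_cent h.n1.le)).trans h.z1.le
theorem R2.exists_conj (h : R2 F T A W₁ W₂ φ₁ φ₂ ψ₁ ψ₂) (hv : v ∈ W₁) :
    ∃ x ∈ XX T W₁, x * v * x⁻¹ ∈ W₁ ⊓ W₂ := by
  obtain ⟨x, hx, h1⟩ := h.n1.exists_conj' hv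
  exact ⟨x, hx, h.z1.le ⟨h.n1.cj_mem hx hv, h1⟩⟩
theorem R2.norm2_of (h : R2 F T A W₁ W₂ φ₁ φ₂ ψ₁ ψ₂) (h1 : x ∈ 𝒩(A)) (h2 : x ∈ 𝒩(W₁)) :
    x ∈ 𝒩(W₂) := by
  rcases h.le_or ((cj_mono x h.le2).trans (cj_eq_self_iff.2 h1).le)
    (fun v hv => (h.n2.cjj x).sq hv) with h3 | h3
  · rw [← cj_eq_self_iff.2 h2, cj_le_cj_iff] at h3
    exact absurd h3 h.symm.ne
  · exact mem_normalizer_of_cj_le h3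
/-- The torus normalizes everything. -/
theorem R2.torus (h : R2 F T A W₁ W₂ φ₁ φ₂ ψ₁ ψ₂) {l : F} (hl : l ≠ 0) :
    ∃ x ∈ XX T W₁, x ∈ 𝒩(A) ∧ x ∈ 𝒩(W₁) ∧ x ∈ 𝒩(W₂) ∧ Odd (orderOf x) ∧
      (φ₁ x).1 = !![l, 0; 0, l⁻¹] := by
  obtain ⟨x, hx, h1, h2⟩ := h.toSA.torus h.n1 hl
  exact ⟨x, hx.1, hx.2, h.n1.norm hx.1, h.norm2_of hx.2 (h.n1.norm hx.1), h1, h2⟩
theorem R2.norm_C2 (h : R2 F T A W₁ W₂ φ₁ φ₂ ψ₁ ψ₂) : 𝒩(W₂) ≤ 𝒩(W₂ ⊓ 𝒞(XX T W₂)) :=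
  H1.le_normalizer_inf le_rfl ((norm_XX h.sc).trans (H1.normalizer_le_normalizer_centralizer _))
theorem R2.C_eq (h : R2 F T A W₁ W₂ φ₁ φ₂ ψ₁ ψ₂) (hc : c ∈ W₁ ⊓ 𝒞(XX T W₁))
    (hd : d ∈ W₁ ⊓ 𝒞(XX T W₁)) (h1 : c⁻¹ * d ∈ 𝒞(XX T W₂)) : c = d :=
  inv_mul_eq_one.1 (mem_bot.1 (h.cc.le ⟨(W₁ ⊓ 𝒞(XX T W₁)).mul_mem ((W₁ ⊓ 𝒞(XX T W₁)).inv_mem hc) hd, h1⟩))
theorem R2.card_U (h : R2 F T A W₁ W₂ φ₁ φ₂ ψ₁ ψ₂) :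
    Nat.card (W₁ ⊓ 𝒞(XX T W₁) : Subgroup G) * Nat.card F = Nat.card (W₁ ⊓ W₂ : Subgroup G) := by
  rw [← card_mul_idx h.C_le, ← h.n1.card_Z, h.z1, ← inf_relIndex_left (W₁ ⊓ W₂) (W₁ ⊓ _),
    ← inf_relIndex_left (W₁ ⊓ W₂) 𝒞(XX T W₁)]
  congr 2
  rw [inf_right_comm, inf_right_comm W₁ W₂, inf_left_idem]
theorem R2.card_C (h : R2 F T A W₁ W₂ φ₁ φ₂ ψ₁ ψ₂) :
    Nat.card (W₁ ⊓ 𝒞(XX T W₁) : Subgroup G) = Nat.card (W₂ ⊓ 𝒞(XX T W₂) : Subgroup G) :=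
  Nat.eq_of_mul_eq_mul_right Nat.card_pos (h.card_U.trans (by rw [h.symm.card_U, inf_comm]))
theorem R2.C_bot (h : R2 F T A W₁ W₂ φ₁ φ₂ ψ₁ ψ₂) (h2 : Nat.card F = 2) :
    W₁ ⊓ 𝒞(XX T W₁) = ⊥ := by
  have h01 : ∀ s : F, s = 0 ∨ s = 1 := fun s => by
    have := FiniteField.pow_card s
    rw [← Nat.card_eq_fintype_card, h2] at this
    have h3 : s * (s - 1) = 0 := by linear_combination this
    exact (mul_eq_zero.1 h3).imp_right sub_eq_zero.1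
  obtain ⟨a, ha, h3⟩ := h.n1.A_surj 1
  obtain ⟨v, hv, h4⟩ := h.n1.ψ_surj ![0, 1]
  have h4' : ψ₁ v 1 = 1 := by rw [h4]; rfl
  have h5 : a * v * a⁻¹ * v⁻¹ ∉ 𝒞(XX T W₁) := fun h5 => by
    simpa [h3, h4'] using h.n1.eq_zero_of_cm ha hv h5
  have h6 := h.n1.sq (W₁.mul_mem (h.n1.cj_mem (h.n1.le ha) hv) (W₁.inv_mem hv))
  let K : Subgroup G :=
    { carrier := {x | x = 1 ∨ x = a * v * a⁻¹ * v⁻¹}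
      one_mem' := Or.inl rfl
      mul_mem' := by
        rintro _ _ (rfl | rfl) (rfl | rfl)
        · exact Or.inl (mul_one _)
        · exact Or.inr (one_mul _)
        · exact Or.inr (mul_one _)
        · exact Or.inl h6
      inv_mem' := by
        rintro _ (rfl | rfl)
        · exact Or.inl inv_one
        · exact Or.inr (inv_eq_of_mul_eq_one_right h6) }
  have h7 : W₁ ⊓ W₂ ≤ K := by
    rw [h.inf, commutator_comm, commutator_le]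
    intro b hb w hw
    have hb' := h.le2 hb
    rw [commutatorElement_def]
    rcases h01 (φ₁ b 0 1) with h8 | h8
    · exact Or.inl (by rw [← mem_cent.1 ((h.n1.A_cent hb').2 h8) w hw]; group)
    rcases h01 (ψ₁ w 1) with h9 | h9
    · exact Or.inl (by rw [mem_cent.1 (h.n1.fix w hw h9) b hb']; group)
    · exact Or.inr (h.n1.comm_eq hb' ha hw hv (h8.trans h3.symm) (h9.trans h4'.symm))
  refine eq_bot_iff.2 fun c hc => ?_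
  rcases h7 (h.C_le hc) with h8 | h8
  · exact h8
  · exact absurd (h8 ▸ hc.2) h5
/-- The two types. -/
theorem R2.typ (h : R2 F T A W₁ W₂ φ₁ φ₂ ψ₁ ψ₂) :
    (W₁ ⊓ 𝒞(XX T W₁) = ⊥ ∧ W₂ ⊓ 𝒞(XX T W₂) = ⊥) ∨
      (W₁ ⊓ 𝒞(XX T W₁) ⊔ W₂ ⊓ 𝒞(XX T W₂) = W₁ ⊓ W₂ ∧ 4 ≤ Nat.card F ∧
        Nat.card (W₁ ⊓ 𝒞(XX T W₁) : Subgroup G) = Nat.card F ∧
        Nat.card (W₂ ⊓ 𝒞(XX T W₂) : Subgroup G) = Nat.card F) := by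
  by_cases h1 : W₂ ⊓ 𝒞(XX T W₂) = ⊥
  · exact Or.inl ⟨card_eq_one.1 (by rw [h.card_C, h1, card_bot]), h1⟩
  have hC : W₂ ⊓ 𝒞(XX T W₂) ≤ W₁ ⊓ W₂ := h.symm.C_le.trans (inf_comm _ _).le
  obtain ⟨⟨c, hc⟩, h2⟩ := ne_bot_iff_exists_ne_one.1 h1
  have hc1 := (hC hc).1
  have h3 : ψ₁ c 1 = 0 := (h.mem_U hc1).1 hc.1
  have h4 : ψ₁ c 0 ≠ 0 := fun h4 => h2 (Subtype.ext (mem_bot.1
    (h.cc.le ⟨⟨hc1, (h.n1.ψ_ker c hc1).1 (vec_ext h4 h3)⟩, hc.2⟩)))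
  have h5 : W₁ ⊓ 𝒞(XX T W₁) ⊔ W₂ ⊓ 𝒞(XX T W₂) = W₁ ⊓ W₂ := by
    refine le_antisymm (sup_le h.C_le hC) fun u hu => ?_
    have h5 := (h.mem_U hu.1).1 hu.2
    by_cases h6 : ψ₁ u 0 = 0
    · exact mem_sup_left ⟨hu.1, (h.n1.ψ_ker u hu.1).1 (vec_ext h6 h5)⟩
    obtain ⟨x, hx, -, -, h7, -, h8⟩ := h.torus (div_ne_zero h6 h4)
    have h9 := conj_mem_of_mem_normalizer (h.norm_C2 h7) hc
    have h10 : ψ₁ u = ψ₁ (x * c * x⁻¹) := by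
      rw [h.n1.act x hx c hc1]
      apply vec_ext <;> rw [sl_vec, h8] <;> simp [h3, h4, h5]
    have h11 := mul_mem (mem_sup_right (S := W₁ ⊓ 𝒞(XX T W₁)) h9)
      (mem_sup_left (T := W₂ ⊓ 𝒞(XX T W₂)) (inv_mem (Subgroup.mem_inf.2
      ⟨W₁.mul_mem (W₁.inv_mem hu.1) (hC h9).1, h.n1.cent_of_ψ hu.1 (hC h9).1 h10⟩)))
    convert h11 using 1
    group
  have h6 := card_mul_of_forall_mul h.C_le hC fun m hm => by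
    obtain ⟨a, ha, b, hb, rfl⟩ := (mem_sup_of_normalizes (hC.trans (inf_le_left.trans
      (h.n1.comm.trans ((cent_le_cent inf_le_left).trans cent_le_norm))))).1 (h5.ge hm)
    exact ⟨a, ha, b, hb, rfl⟩
  rw [show W₁ ⊓ 𝒞(XX T W₁) ⊓ (W₂ ⊓ 𝒞(XX T W₂)) = ⊥ from
    eq_bot_iff.2 fun x hx => h.cc.le ⟨hx.1, hx.2.2⟩, card_bot, mul_one, ← h.card_U] at h6
  have h7 := Nat.eq_of_mul_eq_mul_left Nat.card_pos h6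
  exact Or.inr ⟨h5, four_le_card fun h8 => h1 (h.symm.C_bot h8), h.card_C.trans h7.symm, h7.symm⟩
/-- The symplectic type: the `C₁`-component of a commutator. -/
theorem R2.sp (h : R2 F T A W₁ W₂ φ₁ φ₂ ψ₁ ψ₂)
    (hC : W₁ ⊓ 𝒞(XX T W₁) ⊔ W₂ ⊓ 𝒞(XX T W₂) = W₁ ⊓ W₂) :
    ∃ f : F → G, (∀ s t, f (s + t) = f s * f t) ∧ (∀ s, f s = 1 → s = 0) ∧
      (∀ c, c ∈ W₁ ⊓ 𝒞(XX T W₁) ↔ ∃ s, f s = c) ∧ ∀ a ∈ A, ∀ v ∈ W₁,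
        (f (φ₁ a 0 1 * ψ₁ v 1 ^ 2))⁻¹ * (a * v * a⁻¹ * v⁻¹) ∈ W₂ ⊓ 𝒞(XX T W₂) := by
  have hC2 : W₂ ⊓ 𝒞(XX T W₂) ≤ W₁ ⊓ W₂ := le_sup_right.trans hC.le
  have hU : ∀ a ∈ A, ∀ v ∈ W₁, a * v * a⁻¹ * v⁻¹ ∈ W₁ ⊓ W₂ := fun a ha v hv =>
    h.z1.le (h.n1.comm_A_le (h.n1.comm_mem h.n1.le ha hv))
  obtain ⟨v₀, hv₀, h0⟩ := h.n1.ψ_surj ![0, 1]
  have h0' : ψ₁ v₀ 1 = 1 := by rw [h0]; rfl
  have ex : ∀ s : F, ∃ c ∈ W₁ ⊓ 𝒞(XX T W₁), ∀ a ∈ A, φ₁ a 0 1 = s → ∀ v ∈ W₁, ψ₁ v 1 = 1 →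
      c⁻¹ * (a * v * a⁻¹ * v⁻¹) ∈ W₂ ⊓ 𝒞(XX T W₂) := fun s => by
    obtain ⟨b, hb, h1⟩ := h.n1.A_surj s
    obtain ⟨c, hc, d, hd, h2⟩ := (mem_sup_of_normalizes (hC2.trans (inf_le_left.trans
      (h.n1.comm.trans ((cent_le_cent inf_le_left).trans cent_le_norm))))).1
      (hC.ge (hU b hb v₀ hv₀))
    refine ⟨c, hc, fun a ha h3 v hv h4 => ?_⟩
    rwa [h.n1.comm_eq ha hb hv hv₀ (h3.trans h1.symm) (h4.trans h0'.symm), ← h2,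
      inv_mul_cancel_left]
  choose f f1 f2 using ex
  have uniq : ∀ s, ∀ c ∈ W₁ ⊓ 𝒞(XX T W₁), ∀ a ∈ A, φ₁ a 0 1 = s →
      c⁻¹ * (a * v₀ * a⁻¹ * v₀⁻¹) ∈ 𝒞(XX T W₂) → f s = c := fun s c hc a ha h1 h2 => by
    refine h.C_eq (f1 s) hc ?_
    convert 𝒞(XX T W₂).mul_mem (f2 s a ha h1 v₀ hv₀ h0').2 (inv_mem h2) using 1
    group
  have hv2 : v₀ ∉ 𝒞(W₂) := fun h1 => by
    have := (h.mem_U hv₀).1 (h.c2.le ⟨h.le1 hv₀, h1⟩)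
    simp [h0'] at this
  have hinv : ∀ w ∈ W₂, w * v₀ * w⁻¹ * v₀⁻¹ = v₀ * w * v₀⁻¹ * w⁻¹ := fun w hw => by
    rw [← h.n1.inv_eq (hU w (h.le2 hw) v₀ hv₀).1]
    group
  refine ⟨f, fun s t => ?_, fun s hs => ?_, fun c => ⟨fun hc => ?_, ?_⟩, fun a ha v hv => ?_⟩
  · obtain ⟨a, ha, rfl⟩ := h.n1.A_surj s
    obtain ⟨b, hb, rfl⟩ := h.n1.A_surj t
    refine uniq _ _ (mul_mem (f1 _) (f1 _)) _ (A.mul_mem ha hb) (h.n1.φ_add ha hb) ?_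
    have h1 := f2 _ a ha rfl v₀ hv₀ h0'
    have h2 := f2 _ b hb rfl v₀ hv₀ h0'
    have h3 := mem_cent.1 (h.z1.ge (hU b hb v₀ hv₀)).2 a ha
    have h4 := h.n1.cm (hC2 h2).1 (W₁.inv_mem (f1 (φ₁ a 0 1)).1)
    have h5 := h.n1.cm (W₁.inv_mem (f1 (φ₁ b 0 1)).1) (W₁.inv_mem (f1 (φ₁ a 0 1)).1)
    convert 𝒞(XX T W₂).mul_mem h2.2 h1.2 using 1
    calc (f (φ₁ a 0 1) * f (φ₁ b 0 1))⁻¹ * (a * b * v₀ * (a * b)⁻¹ * v₀⁻¹)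
        = (f (φ₁ b 0 1))⁻¹ * (f (φ₁ a 0 1))⁻¹ * (a * (b * v₀ * b⁻¹ * v₀⁻¹)) *
          v₀ * a⁻¹ * v₀⁻¹ := by group
      _ = (f (φ₁ a 0 1))⁻¹ * ((f (φ₁ b 0 1))⁻¹ * (b * v₀ * b⁻¹ * v₀⁻¹)) *
          (a * v₀ * a⁻¹ * v₀⁻¹) := by rw [h3, h5]; group
      _ = _ := by rw [← h4]; group
  · obtain ⟨a, ha, rfl⟩ := h.n1.A_surj s
    obtain ⟨u, hu, w, hw, rfl⟩ := (mem_sup_of_normalizes (h.le2.trans h.norm1)).1 (h.sup.ge ha)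
    have h1 : φ₁ (u * w) 0 1 = φ₁ w 0 1 := by
      rw [h.n1.φ_add (h.le1 hu) (h.le2 hw), (h.mem_W (h.le1 hu)).1 hu, zero_add]
    have h2 := (f2 _ w (h.le2 hw) h1.symm v₀ hv₀ h0').2
    rw [hs, inv_one, one_mul, hinv w hw] at h2
    rw [h1, ← h.n1.A_cent (h.le2 hw)]
    by_contra h3
    exact h.n2.comm_not_mem (h.le1 hv₀) hv2 hw (fun h4 => h3 (cent_le_cent h.le1 h4)) h2
  · have h1 : φ₂ v₀ 0 1 ≠ 0 := fun h1 => hv2 ((h.n2.A_cent (h.le1 hv₀)).2 h1)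
    obtain ⟨w, hw, h2⟩ := h.n2.ψ_surj ![0, ψ₂ c 0 / φ₂ v₀ 0 1]
    have h3 := h.C_le hc
    refine ⟨_, uniq _ c hc w (h.le2 hw) rfl (h.n2.cent_of_ψ h3.2 (hU w (h.le2 hw) v₀ hv₀).2 ?_)⟩
    rw [hinv w hw, h.n2.ψ_comm (h.le1 hv₀) hw, h2]
    apply vec_ext
    · simp [mul_div_cancel₀ _ h1]
    · simpa using (h.symm.mem_U h3.2).1 h3.1
  · rintro ⟨s, rfl⟩
    exact f1 s
  · by_cases h1 : ψ₁ v 1 = 0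
    · rw [h1, zero_pow two_ne_zero, mul_zero, uniq 0 1 (one_mem _) 1 A.one_mem
        (by simp [h.n1.φ_one]) (by simp), mem_cent.1 (h.n1.fix v hv h1) a ha]
      simp
    obtain ⟨x, hx, h2, h3, h4, -, h5⟩ := h.torus h1
    have h6 : φ₁ x = dM _ h1 := Subtype.ext h5
    have h7 := f2 (φ₁ a 0 1 * ψ₁ v 1 ^ 2) _ (conj_mem_of_mem_normalizer h2 ha) (by
      rw [h.n1.φ_conj hx (h.n1.le ha), h.n1.φ_eq ha, h6, dM_uM]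
      simp [uM, mul_comm]) _ (h.n1.cj_mem hx hv) (by
      rw [h.n1.act x hx v hv, sl_vec, h5]
      simp [h1])
    have h8 := mem_cent.1 (𝒞(XX T W₁).inv_mem (f1 (φ₁ a 0 1 * ψ₁ v 1 ^ 2)).2) x hx
    convert conj_mem_of_mem_normalizer' (h.norm_C2 h4) h7 using 1
    rw [← mul_right_inj x, ← mul_assoc, h8]
    group

end Cfsg.Agent.C2
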