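import Cfsg.Agent.Lib.PU.Simp

/-!
# S1170, part C2: a group acting on the symplectic quadrangle by central collineations
-/

set_option autoImplicit false
set_option linter.unusedSectionVars false
set_option linter.style.haveILetI false

namespace Cfsg.Agent.C2.Sp

open Subgroup Matrix

variable {F : Type} [Field F]

/-- The natural module. -/
abbrev V4 (F : Type) : Type := Fin 2 ⊕ Fin 2 → F

/-- The symplectic form. -/
def Bf : LinearMap.BilinForm F (V4 F) := Matrix.toBilin' (Matrix.J (Fin 2) F)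

theorem Bf_eq (x y : V4 F) : Bf x y = x (.inr 0) * y (.inl 0) + x (.inr 1) * y (.inl 1) -
    x (.inl 0) * y (.inr 0) - x (.inl 1) * y (.inr 1) := by
  simp [Bf, Matrix.toBilin'_apply', Matrix.J, Matrix.fromBlocks_mulVec, dotProduct,
    Matrix.neg_mulVec]
  ring

theorem Bf_self (x : V4 F) : Bf x x = 0 := by rw [Bf_eq]; ring

theorem Bf_neg (x y : V4 F) : Bf x y = - Bf y x := by rw [Bf_eq, Bf_eq]; ring

theorem Bf_zero {x y : V4 F} (h : Bf x y = 0) : Bf y x = 0 := by rw [Bf_neg, h, neg_zero]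

theorem Bf_nd {y : V4 F} (h : ∀ z, Bf z y = 0) : y = 0 := by
  have h1 := h (Pi.single (.inl 0) 1)
  have h2 := h (Pi.single (.inl 1) 1)
  have h3 := h (Pi.single (.inr 0) 1)
  have h4 := h (Pi.single (.inr 1) 1)
  simp [Bf_eq] at h1 h2 h3 h4
  ext i
  rcases i with i | i <;> fin_cases i <;> simpa

theorem exists_one {y : V4 F} (h : y ≠ 0) : ∃ z, Bf z y = 1 := by
  obtain ⟨z, hz⟩ : ∃ z, Bf z y ≠ 0 := by
    by_contra hc
    push Not at hc
    exact h (Bf_nd hc)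
  exact ⟨(Bf z y)⁻¹ • z, by rw [map_smul, LinearMap.smul_apply, smul_eq_mul, inv_mul_cancel₀ hz]⟩

theorem Bf_mul (A : Matrix (Fin 2 ⊕ Fin 2) (Fin 2 ⊕ Fin 2) F) (x y : V4 F) :
    Bf (A *ᵥ x) (A *ᵥ y) = x ⬝ᵥ (Aᵀ * Matrix.J (Fin 2) F * A) *ᵥ y := by
  rw [Bf, Matrix.toBilin'_apply', ← Matrix.vecMul_transpose, ← Matrix.dotProduct_mulVec,
    Matrix.mulVec_mulVec, Matrix.mulVec_mulVec]

theorem Bf_sp (A : Matrix.symplecticGroup (Fin 2) F) (x y : V4 F) :
    Bf (A.1 *ᵥ x) (A.1 *ᵥ y) = Bf x y := by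
  rw [Bf_mul, SymplecticGroup.mem_iff'.1 A.2, Bf, Matrix.toBilin'_apply']

theorem mem_sp {A : Matrix (Fin 2 ⊕ Fin 2) (Fin 2 ⊕ Fin 2) F}
    (h : ∀ x y, Bf (A *ᵥ x) (A *ᵥ y) = Bf x y) : A ∈ Matrix.symplecticGroup (Fin 2) F := by
  refine SymplecticGroup.mem_iff'.2 ?_
  ext i j
  have h2 := h (Pi.single i 1) (Pi.single j 1)
  rw [Bf_mul, Bf, Matrix.toBilin'_apply'] at h2
  simpa using h2

/-- The matrix of a transvection. -/
def tvM (x : V4 F) (l : F) : Matrix (Fin 2 ⊕ Fin 2) (Fin 2 ⊕ Fin 2) F :=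
  LinearMap.toMatrix' (LinearMap.id + l • (Bf.flip x).smulRight x)

theorem tvM_mulVec (x : V4 F) (l : F) (y : V4 F) : tvM x l *ᵥ y = y + (l * Bf y x) • x := by
  rw [tvM, ← Matrix.toLin'_apply, Matrix.toLin'_toMatrix']
  simp [mul_smul]

/-- The transvection. -/
def tv (x : V4 F) (l : F) : Matrix.symplecticGroup (Fin 2) F :=
  ⟨tvM x l, mem_sp fun y z => by
    simp only [tvM_mulVec, map_add, map_smul, LinearMap.add_apply, LinearMap.smul_apply,
      smul_eq_mul, Bf_self, Bf_neg x z]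
    ring⟩

theorem tv_mulVec (x : V4 F) (l : F) (y : V4 F) : (tv x l).1 *ᵥ y = y + (l * Bf y x) • x :=
  tvM_mulVec x l y

theorem sp_ext {A B : Matrix.symplecticGroup (Fin 2) F} (h : ∀ y, A.1 *ᵥ y = B.1 *ᵥ y) : A = B :=
  Subtype.ext (Matrix.toLin'.injective (LinearMap.ext fun y => by
    rw [Matrix.toLin'_apply, Matrix.toLin'_apply, h]))

theorem mul_tv (A : Matrix.symplecticGroup (Fin 2) F) (x : V4 F) (l : F) :
    A * tv x l = tv (A.1 *ᵥ x) l * A := sp_ext fun y => by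
  rw [Submonoid.coe_mul, Submonoid.coe_mul, ← Matrix.mulVec_mulVec, ← Matrix.mulVec_mulVec,
    tv_mulVec, tv_mulVec, Bf_sp, Matrix.mulVec_add, Matrix.mulVec_smul]

theorem sp_ne (A : Matrix.symplecticGroup (Fin 2) F) {x : V4 F} (h : x ≠ 0) : A.1 *ᵥ x ≠ 0 := by
  intro e
  obtain ⟨z, hz⟩ := exists_one h
  rw [← Bf_sp A, e, map_zero] at hz
  exact zero_ne_one hz

theorem span_of {x y y' : V4 F} (h : Bf y x = 1)
    (h' : ∀ z, Bf z x = 0 → Bf z y = 0 → Bf z y' = 0) : ∃ α β : F, y' = α • y + β • x := by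
  have hx : Bf x y = -1 := by rw [Bf_neg, h]
  refine ⟨Bf y' x, - Bf y' y, ?_⟩
  rw [← sub_eq_zero]
  refine Bf_nd fun z => ?_
  have := h' (z - Bf z x • y + Bf z y • x)
    (by simp [h, Bf_self]) (by simp [hx, Bf_self])
  simp only [map_add, map_sub, map_smul, LinearMap.add_apply, LinearMap.sub_apply,
    LinearMap.smul_apply, smul_eq_mul, Bf_neg y y', Bf_neg x y'] at this ⊢
  linear_combination this

theorem const_of {x : V4 F} (μ : V4 F → F)
    (h : ∀ y y', Bf y x = 1 → Bf y' x = 1 → Bf y y' = 0 → μ y = μ y') {y y' : V4 F}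
    (hy : Bf y x = 1) (hy' : Bf y' x = 1) : μ y = μ y' := by
  have hx : Bf x y = -1 := by rw [Bf_neg, hy]
  have key : ∀ (β : F) (z : V4 F), z ≠ 0 → Bf z x = 0 → Bf z y = 0 →
      μ y = μ (y + β • x + z) := by
    intro β z hz h1 h2
    obtain ⟨w, hw⟩ := exists_one hz
    have e1 : Bf (y - β • (w - Bf w x • y + Bf w y • x)) x = 1 := by simp [hy, Bf_self]
    refine (h _ _ e1 hy (by simp [hx, Bf_self])).symm.trans (h _ _ e1
      (by simp [hy, h1, Bf_self]) ?_)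
    simp [hx, hy, hw, Bf_zero h1, Bf_zero h2, Bf_self]
    ring
  by_cases hz : y' - y + Bf y' y • x = 0
  · obtain ⟨z, hz1, hz0⟩ : ∃ z : V4 F, z ∈ LinearMap.ker ((Bf.flip x).prod (Bf.flip y)) ∧ z ≠ 0 :=
      Submodule.exists_mem_ne_zero_of_ne_bot (LinearMap.ker_ne_bot_of_finrank_lt (by simp))
    replace hz1 : Bf z x = 0 ∧ Bf z y = 0 := Prod.mk_eq_zero.1 (LinearMap.mem_ker.1 hz1)
    have e : y' = y + (- Bf y' y) • x := by
      rw [neg_smul, ← sub_eq_zero, ← hz]; abel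
    rw [key (- Bf y' y) z hz0 hz1.1 hz1.2, ← e]
    refine h _ _ (by simp [hy', hz1.1]) hy' ?_
    rw [map_add, LinearMap.add_apply, Bf_self, e]
    simp [hz1.1, hz1.2]
  · rw [key (- Bf y' y) _ hz (by simp [hy, hy', Bf_self]) (by simp [hx, Bf_self])]
    congr 1
    rw [neg_smul]; abel

variable {G : Type*} [Group G] {P : Type*}

/-- The data of a coordinatized quadrangle. -/
structure Co (act : G → P → P) (col : P → P → Prop) (Rel : V4 F → P → Prop)
    (C : P → Subgroup G) : Prop where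
  mul : ∀ g h p, act (g * h) p = act g (act h p)
  one : ∀ p, act 1 p = p
  faith : ∀ g, (∀ p, act g p = p) → g = 1
  hcol : ∀ g p p', col (act g p) (act g p') ↔ col p p'
  r0 : ∀ x p, Rel x p → x ≠ 0
  r1 : ∀ p, ∃ x, Rel x p
  r2 : ∀ x, x ≠ 0 → ∃ p, Rel x p
  r3 : ∀ x y p p', Rel x p → Rel y p' → (col p p' ↔ Bf x y = 0)
  sep : ∀ p p', (∀ r, col p r ↔ col p' r) → p = p'
  fix : ∀ p, ∀ c ∈ C p, ∀ p', col p' p → act c p' = p'
  card : ∀ p, Nat.card (C p) = Nat.card F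
  gen : ∀ H : Subgroup G, (∀ p, C p ≤ H) → H = ⊤

namespace Co

variable {act : G → P → P} {col : P → P → Prop} {Rel : V4 F → P → Prop} {C : P → Subgroup G}

theorem ext (h : Co act col Rel C) {x y : V4 F} {p p' : P} (h1 : Rel x p) (h2 : Rel y p')
    (e : ∀ z, Bf x z = 0 ↔ Bf y z = 0) : p = p' := h.sep _ _ fun r => by
  obtain ⟨z, hz⟩ := h.r1 r
  rw [h.r3 _ _ _ _ h1 hz, h.r3 _ _ _ _ h2 hz, e]

theorem uniq (h : Co act col Rel C) {x : V4 F} {p p' : P} (h1 : Rel x p) (h2 : Rel x p') :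
    p = p' := h.ext h1 h2 fun _ => Iff.rfl

theorem smul (h : Co act col Rel C) {x : V4 F} {p : P} (h1 : Rel x p) {a : F} (ha : a ≠ 0) :
    Rel (a • x) p := by
  obtain ⟨p', h2⟩ := h.r2 (a • x) (smul_ne_zero ha (h.r0 _ _ h1))
  rwa [h.ext h1 h2 fun z => by simp [ha]]

theorem trans (h : Co act col Rel C) {x : V4 F} {p : P} (hx : Rel x p) {c : G} (hc : c ∈ C p) :
    ∃ l, ∀ y r, Rel y r → Rel ((tv x l).1 *ᵥ y) (act c r) := by
  have hp : act c p = p := h.fix p c hc p ((h.r3 _ _ _ _ hx hx).2 (Bf_self x))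
  have k1 : ∀ y, ∃ μ : F, Bf y x = 1 → ∀ r, Rel y r → Rel (y + μ • x) (act c r) := by
    intro y
    by_cases hy : Bf y x = 1
    swap
    · exact ⟨0, fun e => (hy e).elim⟩
    obtain ⟨r, hr⟩ := h.r2 y (by rintro rfl; simp at hy)
    obtain ⟨y', hy'⟩ := h.r1 (act c r)
    obtain ⟨α, β, e⟩ := span_of (y' := y') hy fun z h1 h2 => by
      by_cases hz : z = 0
      · simp [hz]
      obtain ⟨s, hs⟩ := h.r2 z hz
      rw [← h.r3 _ _ _ _ hs hy', ← h.fix p c hc s ((h.r3 _ _ _ _ hs hx).2 h1), h.hcol]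
      exact (h.r3 _ _ _ _ hs hr).2 h2
    have hα : α ≠ 0 := by
      rintro rfl
      have : col (act c r) (act c p) := by
        rw [hp, h.r3 _ _ _ _ hy' hx, e]; simp [Bf_self]
      rw [h.hcol, h.r3 _ _ _ _ hr hx, hy] at this
      exact one_ne_zero this
    refine ⟨α⁻¹ * β, fun _ r' hr' => ?_⟩
    have := h.smul hy' (inv_ne_zero hα)
    rwa [e, smul_add, smul_smul, smul_smul, inv_mul_cancel₀ hα, one_smul, h.uniq hr hr'] at this
  choose μ hμ using k1
  obtain ⟨y₀, hy₀⟩ := exists_one (h.r0 _ _ hx)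
  have k2 : ∀ y, Bf y x = 1 → μ y = μ y₀ := fun y hy => const_of μ (fun y y' h1 h2 h3 => by
    obtain ⟨r, hr⟩ := h.r2 y (by rintro rfl; simp at h1)
    obtain ⟨r', hr'⟩ := h.r2 y' (by rintro rfl; simp at h2)
    have := (h.r3 _ _ _ _ (hμ y h1 r hr) (hμ y' h2 r' hr')).1
      ((h.hcol c _ _).2 ((h.r3 _ _ _ _ hr hr').2 h3))
    simp only [map_add, map_smul, LinearMap.add_apply, LinearMap.smul_apply, smul_eq_mul,
      Bf_self, Bf_neg x y', h1, h2, h3] at this
    linear_combination -this) hy hy₀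
  refine ⟨μ y₀, fun y r hr => ?_⟩
  rw [tv_mulVec]
  by_cases hy : Bf y x = 0
  · rw [hy, mul_zero, zero_smul, add_zero, h.fix p c hc r ((h.r3 _ _ _ _ hr hx).2 hy)]
    exact hr
  · have h1 : Bf ((Bf y x)⁻¹ • y) x = 1 := by simp [hy]
    have := h.smul (hμ _ h1 r (h.smul hr (inv_ne_zero hy))) hy
    rwa [k2 _ h1, smul_add, smul_smul, smul_smul, mul_inv_cancel₀ hy, one_smul, mul_comm] at this

/-- The graph of the isomorphism. -/
def Gam (h : Co act col Rel C) : Subgroup (G × Matrix.symplecticGroup (Fin 2) F) where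
  carrier := {u | ∀ y r, Rel y r → Rel (u.2.1 *ᵥ y) (act u.1 r)}
  one_mem' := fun y r hr => by simpa [h.one] using hr
  mul_mem' := fun {a b} ha hb y r hr => by
    rw [Prod.snd_mul, Prod.fst_mul, Submonoid.coe_mul, ← Matrix.mulVec_mulVec, h.mul]
    exact ha _ _ (hb _ _ hr)
  inv_mem' := fun {a} ha y r hr => by
    obtain ⟨s, hs⟩ := h.r2 _ (sp_ne a.2⁻¹ (h.r0 _ _ hr))
    have := ha _ _ hs
    rw [Matrix.mulVec_mulVec, ← Submonoid.coe_mul, mul_inv_cancel, Submonoid.coe_one,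
      Matrix.one_mulVec] at this
    rwa [h.uniq hr this, Prod.fst_inv, ← h.mul, inv_mul_cancel, h.one]

theorem inj (h : Co act col Rel C) {g g' : G} {m : Matrix.symplecticGroup (Fin 2) F}
    (h1 : (g, m) ∈ h.Gam) (h2 : (g', m) ∈ h.Gam) : g = g' := by
  have := mul_mem (inv_mem h1) h2
  rw [← inv_mul_eq_one]
  refine h.faith _ fun p => ?_
  obtain ⟨x, hx⟩ := h.r1 p
  have h3 := this x p hx
  simp only [Prod.inv_mk, Prod.mk_mul_mk, inv_mul_cancel, OneMemClass.coe_one,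
    Matrix.one_mulVec] at h3
  exact h.uniq h3 hx

theorem iso [Finite F] [CharP F 2] [Nontrivial G] (h : Co act col Rel C) (h2 : 2 < Nat.card F) :
    Nonempty (G ≃* PSp 2 F) := by
  have e0 : PSp 2 F ≃* Matrix.symplecticGroup (Fin 2) F :=
    (QuotientGroup.quotientMulEquivOfEq (PU.center_Sp F)).trans QuotientGroup.quotientBot
  haveI : IsSimpleGroup (Matrix.symplecticGroup (Fin 2) F) :=
    haveI := PU.simple_PSp F h2
    e0.symm.isSimpleGroup
  let f1 : h.Gam →* G := (MonoidHom.fst _ _).comp h.Gam.subtype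
  let f2 : h.Gam →* Matrix.symplecticGroup (Fin 2) F := (MonoidHom.snd _ _).comp h.Gam.subtype
  have s1 : Function.Surjective f1 := by
    rw [← MonoidHom.range_eq_top]
    refine h.gen _ fun p c hc => ?_
    obtain ⟨x, hx⟩ := h.r1 p
    obtain ⟨l, hl⟩ := h.trans hx hc
    exact ⟨⟨(c, tv x l), hl⟩, rfl⟩
  have i2 : Function.Injective f2 := fun a b e =>
    Subtype.ext (Prod.ext (h.inj (m := a.1.2) a.2 (by
      have := b.2
      rwa [show b.1 = (b.1.1, a.1.2) from Prod.ext rfl e.symm] at this)) e)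
  have t2 : ∀ x l, x ≠ 0 → tv x l ∈ f2.range := by
    intro x l hx
    obtain ⟨p, hp⟩ := h.r2 x hx
    choose lam hlam using fun c : C p => h.trans hp c.2
    haveI : Finite (C p) := Nat.finite_of_card_ne_zero (by rw [h.card]; omega)
    have hb : Function.Bijective lam := (Nat.bijective_iff_injective_and_card _).2
      ⟨fun c c' e => Subtype.ext (h.inj (m := tv x (lam c)) (hlam c) (e ▸ hlam c')), h.card p⟩
    obtain ⟨c, rfl⟩ := hb.2 l
    exact ⟨⟨(c, tv x (lam c)), hlam c⟩, rfl⟩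
  have s2 : Function.Surjective f2 := by
    rw [← MonoidHom.range_eq_top, eq_top_iff]
    have hle : normalClosure {m | ∃ x l, x ≠ 0 ∧ m = tv (F := F) x l} ≤ f2.range := by
      refine (closure_le _).2 fun m hm => ?_
      obtain ⟨_, ⟨x, l, hx, rfl⟩, hc⟩ := Group.mem_conjugatesOfSet_iff.1 hm
      obtain ⟨A, rfl⟩ := isConj_iff.1 hc
      rw [mul_tv, mul_inv_cancel_right]
      exact t2 _ _ (sp_ne A hx)
    rcases (normalClosure_normal (s := {m | ∃ x l, x ≠ 0 ∧ m = tv (F := F) x l})).eq_bot_or_eq_top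
      with e | e
    · exfalso
      have hx : (Pi.single (.inl 0) 1 : V4 F) ≠ 0 := by simp
      obtain ⟨y, hy⟩ := exists_one hx
      have := tv_mulVec (Pi.single (.inl 0) 1 : V4 F) 1 y
      have h1 : tv (Pi.single (.inl 0) 1 : V4 F) 1 ∈ (⊥ : Subgroup _) :=
        e ▸ subset_normalClosure ⟨_, 1, hx, rfl⟩
      rw [mem_bot.1 h1, hy] at this
      simp at this
    · exact e ▸ hle
  have e2 := MulEquiv.ofBijective f2 ⟨i2, s2⟩
  haveI : IsSimpleGroup h.Gam := e2.isSimpleGroup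
  have i1 : Function.Injective f1 := by
    rw [← MonoidHom.ker_eq_bot_iff]
    refine (MonoidHom.normal_ker f1).eq_bot_or_eq_top.resolve_right fun e => ?_
    obtain ⟨g, hg⟩ := exists_ne (1 : G)
    obtain ⟨a, rfl⟩ := s1 g
    exact hg (MonoidHom.mem_ker.1 (e ▸ mem_top a))
  exact ⟨((MulEquiv.ofBijective f1 ⟨i1, s1⟩).symm.trans e2).trans e0.symm⟩

end Co

end Cfsg.Agent.C2.Sp
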