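import Cfsg.Agent.Lib.C2.R2a

/-!
# S1170, part C2: the generalized quadrangle
-/

set_option autoImplicit false
set_option linter.unusedSectionVars false
set_option linter.unusedVariables false

namespace Cfsg.Agent.C2.Sp

open Subgroup Cfsg.Agent.H6 Cfsg.Agent.FT Cfsg.Agent.BD.P1 Cfsg.Agent.G75 Cfsg.Agent.G74
open scoped commutatorElement MatrixGroups Matrix

variable {G : Type*} [Group G] [Finite G] {T : Set G}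
variable {A W₁ W₂ p p' p'' l l' l'' m m' n o o' x : Subgroup G}
variable {a b g u v w y z : G}
variable {F : Type} [Field F] [Fintype F] [CharP F 2] {φ₁ φ₂ : G → SL(2, F)}
  {ψ₁ ψ₂ : G → Fin 2 → F}

/-- The root group of a point. -/
def Cc (T : Set G) (p : Subgroup G) : Subgroup G := p ⊓ 𝒞(XX T p)

theorem Cc_le : Cc T p ≤ p := inf_le_left

theorem cj_Cc (h : SC T) (g : G) (p : Subgroup G) : cj g (Cc T p) = Cc T (cj g p) := by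
  rw [Cc, cj_inf, cj_centralizer, cj_XX h, Cc]

theorem r4_cj (h : R4 F T A W₁ W₂ φ₁ φ₂ ψ₁ ψ₂) (g : G) :
    R4 F T (cj g A) (cj g W₁) (cj g W₂) (fun x => φ₁ (g⁻¹ * x * g)) (fun x => φ₂ (g⁻¹ * x * g))
      (fun x => ψ₁ (g⁻¹ * x * g)) (fun x => ψ₂ (g⁻¹ * x * g)) where
  toSB := h.toSB.cjj g
  sup := by rw [← cj_sup, h.sup]
  c1 := by rw [← cj_centralizer, ← cj_inf, h.c1]
  c2 := by rw [← cj_centralizer, ← cj_inf, h.c2]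
  n1 := cj_XX h.sc g W₁ ▸ h.n1.cjj g
  n2 := cj_XX h.sc g W₂ ▸ h.n2.cjj g
  inf := by rw [← cj_inf, ← cj_commutator, h.inf]
  z := by rw [← cj_centralizer, ← cj_inf, ← cj_inf, h.z]
  inv := fun a ha e => by
    rw [mem_cj, mem_cj]
    exact h.inv _ (mem_cj.1 ha) (by simpa using conj_mul_self e g⁻¹)
  cc := by
    rw [← cj_XX h.sc, ← cj_XX h.sc, ← cj_centralizer, ← cj_centralizer, ← cj_inf, ← cj_inf, h.cc,
      cj_bot]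
  ess := fun Q hQ => by
    have := hQ.cjj g⁻¹
    rw [cj_top, cj_inv_cj] at this
    rcases h.ess _ this with e | e
    · exact .inl (by rw [← e, cj_cj_inv])
    · exact .inr (by rw [← e, cj_cj_inv])
  syl := cj_top g ▸ h.syl.cj g
  m1 := by rw [← cj_normalizer, ← cj_normalizer]; exact cj_mono g h.m1
  m2 := by rw [← cj_normalizer, ← cj_normalizer]; exact cj_mono g h.m2
  four := h.four
  s1 := by rw [← cj_centralizer, h.s1]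
  s2 := by rw [← cj_centralizer, h.s2]
  t1 := fun t ht h1 => by
    rw [← cj_inf, mem_cj] at ht
    rw [← cj_XX h.sc, ← cj_centralizer, mem_cj] at h1
    have := cj_mono g (h.t1 _ ht h1)
    rw [cj_centralizer_singleton, cj_normalizer] at this
    simpa [mul_assoc] using this
  t2 := fun t ht h1 => by
    rw [← cj_inf, mem_cj] at ht
    rw [← cj_XX h.sc, ← cj_centralizer, mem_cj] at h1
    have := cj_mono g (h.t2 _ ht h1)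
    rw [cj_centralizer_singleton, cj_normalizer] at this
    simpa [mul_assoc] using this

variable (F) in
/-- The hypothesis of part C2. -/
def Sq (T : Set G) (W₁ W₂ : Subgroup G) : Prop :=
  ∃ (A : Subgroup G) (φ₁ φ₂ : G → SL(2, F)) (ψ₁ ψ₂ : G → Fin 2 → F),
    R4 F T A W₁ W₂ φ₁ φ₂ ψ₁ ψ₂ ∧ Cc T W₁ ⊔ Cc T W₂ = W₁ ⊓ W₂

/-- Points. -/
def Pt (W p : Subgroup G) : Prop := ∃ g, p = cj g W

/-- Flags. -/
def Fl (W₁ W₂ p l : Subgroup G) : Prop := ∃ g, p = cj g W₁ ∧ l = cj g W₂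

/-- Collinearity. -/
def Col (W₁ W₂ p p' : Subgroup G) : Prop := ∃ l, Fl W₁ W₂ p l ∧ Fl W₁ W₂ p' l

theorem Pt.rfl : Pt p p := ⟨1, (cj_one _).symm⟩
theorem Pt.cjj (h : Pt W₁ p) (g : G) : Pt W₁ (cj g p) := by
  obtain ⟨k, rfl⟩ := h; exact ⟨g * k, cj_cj _ _ _⟩
theorem Pt.rel (h : Pt W₁ p) (h' : Pt W₁ p') : Pt p p' := by
  obtain ⟨k, rfl⟩ := h; obtain ⟨k', rfl⟩ := h'
  exact ⟨k' * k⁻¹, by rw [cj_cj, inv_mul_cancel_right]⟩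
theorem Pt.fl (h : Pt W₁ p) (W₂ : Subgroup G) : ∃ l, Fl W₁ W₂ p l := by
  obtain ⟨k, rfl⟩ := h; exact ⟨_, k, Eq.refl _, Eq.refl _⟩
theorem Fl.rfl : Fl p l p l := ⟨1, (cj_one _).symm, (cj_one _).symm⟩
theorem Fl.symm (h : Fl W₁ W₂ p l) : Fl W₂ W₁ l p := by
  obtain ⟨k, h1, h2⟩ := h; exact ⟨k, h2, h1⟩
theorem Fl.pt (h : Fl W₁ W₂ p l) : Pt W₁ p := by obtain ⟨k, h1, h2⟩ := h; exact ⟨k, h1⟩
theorem Fl.ln (h : Fl W₁ W₂ p l) : Pt W₂ l := h.symm.pt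
theorem Fl.cjj (h : Fl W₁ W₂ p l) (g : G) : Fl W₁ W₂ (cj g p) (cj g l) := by
  obtain ⟨k, rfl, rfl⟩ := h; exact ⟨g * k, cj_cj _ _ _, cj_cj _ _ _⟩
theorem Fl.trans (h : Fl W₁ W₂ p l) (h' : Fl p l p' l') : Fl W₁ W₂ p' l' := by
  obtain ⟨k, rfl, rfl⟩ := h'; exact h.cjj k
theorem Fl.rel (h : Fl W₁ W₂ p l) (h' : Fl W₁ W₂ p' l') : Fl p l p' l' := by
  obtain ⟨k, rfl, rfl⟩ := h; obtain ⟨k', rfl, rfl⟩ := h'
  exact ⟨k' * k⁻¹, by rw [cj_cj, inv_mul_cancel_right], by rw [cj_cj, inv_mul_cancel_right]⟩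
theorem Fl.cjl (h : Fl W₁ W₂ p l) (hg : g ∈ 𝒩(l)) : Fl W₁ W₂ (cj g p) l := by
  have := h.cjj g; rwa [cj_eq_self_iff.2 hg] at this
theorem Fl.cjr (h : Fl W₁ W₂ p l) (hg : g ∈ 𝒩(p)) : Fl W₁ W₂ p (cj g l) := (h.symm.cjl hg).symm
theorem Col.symm (h : Col W₁ W₂ p p') : Col W₁ W₂ p' p := by
  obtain ⟨l, h1, h2⟩ := h; exact ⟨l, h2, h1⟩
theorem Pt.col (h : Pt W₁ p) : Col W₁ W₂ p p := by
  obtain ⟨l, hl⟩ := h.fl W₂; exact ⟨l, hl, hl⟩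
theorem Col.cjj (h : Col W₁ W₂ p p') (g : G) : Col W₁ W₂ (cj g p) (cj g p') := by
  obtain ⟨l, h1, h2⟩ := h; exact ⟨_, h1.cjj g, h2.cjj g⟩
theorem col_cj : Col W₁ W₂ (cj g p) (cj g p') ↔ Col W₁ W₂ p p' :=
  ⟨fun h => by simpa only [cj_inv_cj] using h.cjj g⁻¹, fun h => h.cjj g⟩
theorem Col.pt (h : Col W₁ W₂ p p') : Pt W₁ p := by obtain ⟨l, h1, h2⟩ := h; exact h1.pt

namespace Sq

theorem symm (h : Sq F T W₁ W₂) : Sq F T W₂ W₁ := by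
  obtain ⟨A, _, _, _, _, h, e⟩ := h
  exact ⟨A, _, _, _, _, h.symm, by rw [sup_comm, e, inf_comm]⟩

theorem sc (h : Sq F T W₁ W₂) : SC T := by obtain ⟨A, _, _, _, _, h, e⟩ := h; exact h.sc

theorem fl (h : Sq F T W₁ W₂) (hf : Fl W₁ W₂ p l) : Sq F T p l := by
  obtain ⟨g, rfl, rfl⟩ := hf
  obtain ⟨A, _, _, _, _, h, e⟩ := h
  exact ⟨_, _, _, _, _, r4_cj h g, by rw [← cj_Cc h.sc, ← cj_Cc h.sc, ← cj_sup, e, cj_inf]⟩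

/-! ### One flag -/

theorem syl (h : Sq F T p l) : SylIn 2 (p ⊔ l) ⊤ := by
  obtain ⟨A, _, _, _, _, h, e⟩ := h; exact h.sup ▸ h.syl

theorem nrm (h : Sq F T p l) : p ⊔ l ≤ 𝒩(p) := by
  obtain ⟨A, _, _, _, _, h, e⟩ := h; exact h.sup ▸ h.toR2.norm1

theorem nn (h : Sq F T p l) : 𝒩(p ⊔ l) ≤ 𝒩(p) := by
  obtain ⟨A, _, _, _, _, h, e⟩ := h; exact h.sup ▸ h.m1

theorem sq (h : Sq F T p l) (hv : v ∈ p) : v * v = 1 := by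
  obtain ⟨A, _, _, _, _, h, e⟩ := h; exact pow_two v ▸ h.n1.elem.2 v hv

theorem comm (h : Sq F T p l) (hv : v ∈ p) : p ≤ 𝒞[v] := by
  obtain ⟨A, _, _, _, _, h, e⟩ := h
  exact fun w hw => mem_centralizer_singleton_iff.2 (mem_centralizer_iff.1 (h.n1.comm hv) w hw)

theorem two (h : Sq F T p l) : IsPGroup 2 p := h.syl.isPGroup.to_le le_sup_left

theorem ne (h : Sq F T p l) : p ≠ l := by
  obtain ⟨A, _, _, _, _, h, e⟩ := h; exact fun e => h.toR2.ne e.le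

theorem Cc_le_l (h : Sq F T p l) : Cc T p ≤ l := by
  obtain ⟨A, _, _, _, _, h, e⟩ := h; exact h.toR2.C_le.trans inf_le_right

theorem cc (h : Sq F T p l) (h1 : a ∈ Cc T p) (h2 : a ∈ Cc T l) : a = 1 := by
  obtain ⟨A, _, _, _, _, h, e⟩ := h
  exact mem_bot.1 (h.cc ▸ (⟨h1, h2.2⟩ : a ∈ Cc T p ⊓ 𝒞(XX T l)))

theorem cen (h : Sq F T p l) (h1 : a ∈ p) (h2 : a ∈ l) (h3 : a ∉ Cc T l) : 𝒞[a] ≤ 𝒩(p) := by
  obtain ⟨A, _, _, _, _, h, e⟩ := h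
  exact h.t1 a ⟨h1, h2⟩ fun e => h3 ⟨h2, e⟩

theorem card (h : Sq F T p l) : Nat.card (Cc T p) = Nat.card F := by
  obtain ⟨A, _, _, _, _, h, e⟩ := h
  rcases h.toR2.typ with ⟨h1, h2⟩ | h1
  · exfalso
    rw [Cc, Cc, h1, h2, bot_sup_eq] at e
    obtain ⟨v, hv, hv'⟩ := h.n1.ψ_surj ![1, 0]
    have : v ∈ p ⊓ l := ⟨hv, (h.toR2.mem_U hv).2 (by simp [hv'])⟩
    rw [← e, mem_bot] at this
    rw [this, h.n1.ψ_one] at hv'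
    simpa using congrFun hv' 0
  · exact h1.2.2.1

theorem four (h : Sq F T p l) : 4 ≤ Nat.card F := by
  obtain ⟨A, _, _, _, _, h, e⟩ := h; exact h.four

theorem ex0 (h : Sq F T p l) : ∃ a ∈ Cc T p, a ≠ 1 := by
  have := h.four
  have h1 : Cc T p ≠ ⊥ := fun e => by
    have h2 := h.card
    rw [e, card_bot] at h2
    omega
  obtain ⟨a, ha⟩ := ne_bot_iff_exists_ne_one.1 h1
  exact ⟨a, a.2, fun e => ha (Subtype.ext e)⟩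

theorem dec0 (h : Sq F T p l) (h1 : v ∈ p) (h2 : v ∈ l) :
    ∃ a ∈ Cc T p, ∃ b ∈ Cc T l, v = a * b := by
  have h3 := h.symm.Cc_le_l
  obtain ⟨A, _, _, _, _, h', e⟩ := h
  exact NormalIn.exists_mul_of_mem_sup (K := Cc T p) (M := Cc T l)
    (fun b hb => centralizer_le_normalizer _ (mem_centralizer_iff.2 fun a ha =>
      mem_centralizer_iff.1 (h'.n1.comm (h3 hb)) a (Cc_le ha))) (e ▸ (⟨h1, h2⟩ : v ∈ p ⊓ l))

theorem inv (h : Sq F T p l) (h1 : v ∈ p ⊔ l) (h2 : v * v = 1) : v ∈ p ∨ v ∈ l := by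
  obtain ⟨A, _, _, _, _, h, e⟩ := h; exact h.inv v (h.sup ▸ h1) h2

theorem cent_of (h : Sq F T p l) (h1 : v ∈ p ⊔ l) (h2 : v ∉ l) (h3 : a ∈ l) (h4 : a ∈ 𝒞[v]) :
    a ∈ p := by
  obtain ⟨A, _, _, _, _, h, e⟩ := h
  exact (h.toR2.symm.z1.le ⟨h3, h.n2.cent_of (h.sup ▸ h1) (h.s2.symm ▸ h2) h3 h4⟩).2

theorem exc (h : Sq F T p l) (h1 : v ∈ p) : ∃ y ∈ 𝒩(p), y * v * y⁻¹ ∈ p ⊓ l := by
  obtain ⟨A, _, _, _, _, h, e⟩ := h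
  obtain ⟨y, hy, h2⟩ := h.toR2.exists_conj h1
  exact ⟨y, XX_le hy, h2⟩

theorem not_pt (h : Sq F T p l) : ¬ Pt p l := by
  rintro ⟨g, e⟩
  have h1 : SylIn 2 (p ⊔ l) 𝒩(l) := h.syl.mono (sup_comm p l ▸ h.symm.nrm) le_top
  have h2 : SylIn 2 (cj g (p ⊔ l)) 𝒩(l) := by
    have := (h.syl.mono h.nrm le_top).cj g
    rwa [cj_normalizer, ← e] at this
  obtain ⟨y, hy, h3⟩ := h1.exists_cj_eq h2
  rw [cj_cj, cj_eq_self_iff] at h3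
  have := cj_eq_self_iff.2 (h.nn h3)
  rw [← cj_cj, ← e, cj_eq_self_iff.2 hy] at this
  exact h.ne this.symm

theorem eq_of_le (h : Sq F T p l) (h1 : Pt p p') (h2 : p' ≤ p ⊔ l) : p' = p := by
  have h0 := h.not_pt
  obtain ⟨g, rfl⟩ := h1
  have h3 : ∀ v ∈ cj g p, v * v = 1 := fun v hv => by
    simpa [mul_assoc] using conj_mul_self (h.sq (mem_cj.1 hv)) g
  obtain ⟨A, _, _, _, _, h, e⟩ := h
  rcases h.toR2.le_or (h.sup ▸ h2) h3 with h4 | h4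
  · exact eq_of_le_of_card_ge h4 (card_cj g p).ge
  · exact (h0 ⟨g, (eq_of_le_of_card_ge h4 (by rw [card_cj, h.toR2.card_eq])).symm⟩).elim

/-! ### Incidence -/

theorem eqn (h : Sq F T W₁ W₂) (h1 : Pt W₁ p) (h2 : Pt W₁ p') (h3 : p' ≤ 𝒩(p)) : p' = p := by
  obtain ⟨l, hl⟩ := h1.fl W₂
  obtain ⟨l', hl'⟩ := h2.fl W₂
  have k := h.fl hl
  obtain ⟨y, hy, h4⟩ := (k.syl.mono k.nrm le_top).exists_cj_le (h.fl hl').two h3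
  have := k.eq_of_le ((h1.rel h2).cjj y) h4
  rw [← cj_inv_cj y p', this, cj_eq_self_iff.2 (inv_mem hy)]

theorem fln (h : Sq F T W₁ W₂) (h1 : Pt W₁ p) (h2 : Pt W₂ l) (h3 : p ≤ 𝒩(l)) : Fl W₁ W₂ p l := by
  obtain ⟨p', hl⟩ := h2.fl W₁
  obtain ⟨l', hl'⟩ := h1.fl W₂
  have k := h.symm.fl hl
  obtain ⟨y, hy, h4⟩ := (k.syl.mono k.nrm le_top).exists_cj_le (h.fl hl').two h3
  have := k.symm.eq_of_le ((hl.ln.rel h1).cjj y) (sup_comm l p' ▸ h4)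
  rw [← cj_inv_cj y p, this]
  exact hl.symm.cjl (inv_mem hy)

theorem le_n (h : Sq F T W₁ W₂) (h1 : Fl W₁ W₂ p l) : l ≤ 𝒩(p) := le_sup_right.trans (h.fl h1).nrm

theorem ex (h : Sq F T W₁ W₂) (h1 : Pt W₁ p) : ∃ a ∈ Cc T p, a ≠ 1 := by
  obtain ⟨l, hl⟩ := h1.fl W₂; exact (h.fl hl).ex0

theorem cenC (h : Sq F T W₁ W₂) (h1 : Pt W₁ p) (ha : a ∈ Cc T p) (h0 : a ≠ 1) : 𝒞[a] ≤ 𝒩(p) := by
  obtain ⟨l, hl⟩ := h1.fl W₂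
  have k := h.fl hl
  exact k.cen ha.1 (k.Cc_le_l ha) fun e => h0 (k.cc ha e)

theorem comm' (h : Sq F T W₁ W₂) (h1 : Pt W₁ p) (hv : v ∈ p) : p ≤ 𝒞[v] := by
  obtain ⟨l, hl⟩ := h1.fl W₂; exact (h.fl hl).comm hv

theorem sq' (h : Sq F T W₁ W₂) (h1 : Pt W₁ p) (hv : v ∈ p) : v * v = 1 := by
  obtain ⟨l, hl⟩ := h1.fl W₂; exact (h.fl hl).sq hv

theorem eqm (h : Sq F T W₁ W₂) (h1 : Pt W₁ p) (ha : a ∈ Cc T p) (h0 : a ≠ 1) (h2 : Pt W₁ p')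
    (h3 : a ∈ p') : p' = p := h.eqn h1 h2 ((h.comm' h2 h3).trans (h.cenC h1 ha h0))

theorem flm (h : Sq F T W₁ W₂) (h1 : Pt W₁ p) (ha : a ∈ Cc T p) (h0 : a ≠ 1) (h2 : Pt W₂ l)
    (h3 : a ∈ l) : Fl W₁ W₂ p l :=
  (h.symm.fln h2 h1 ((h.symm.comm' h2 h3).trans (h.cenC h1 ha h0))).symm

theorem inv_n (h : Sq F T W₁ W₂) (h1 : Pt W₁ p) (ha : a ∈ 𝒩(p)) (h2 : a * a = 1) :
    a ∈ p ∨ ∃ l, Fl W₁ W₂ p l ∧ a ∈ l := by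
  obtain ⟨l, hl⟩ := h1.fl W₂
  have k := h.fl hl
  obtain ⟨y, hy, h4⟩ := (k.syl.mono k.nrm le_top).exists_conj_mem ha (k := 1)
    (by rw [pow_one, pow_two, h2])
  rcases k.inv h4 (conj_mul_self h2 y) with h5 | h5
  · exact .inl (by simpa [mul_assoc] using conj_mem_of_mem_normalizer' hy h5)
  · exact .inr ⟨_, hl.cjr (inv_mem hy), mem_cj.2 (by rwa [inv_inv])⟩

theorem fl_of_n (h : Sq F T W₁ W₂) (h1 : Pt W₁ p) (ha : a ∈ Cc T p) (h0 : a ≠ 1) (h2 : Pt W₂ l)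
    (h3 : a ∈ 𝒩(l)) : Fl W₁ W₂ p l := by
  rcases h.symm.inv_n h2 h3 (h.sq' h1 ha.1) with h4 | ⟨p', h4, h5⟩
  · exact h.flm h1 ha h0 h2 h4
  · exact h.eqm h1 ha h0 h4.ln h5 ▸ h4.symm

theorem col_of_n (h : Sq F T W₁ W₂) (h1 : Pt W₁ p) (ha : a ∈ Cc T p) (h0 : a ≠ 1) (h2 : Pt W₁ p')
    (h3 : a ∈ 𝒩(p')) : Col W₁ W₂ p p' := by
  rcases h.inv_n h2 h3 (h.sq' h1 ha.1) with h4 | ⟨l, h4, h5⟩
  · rw [h.eqm h1 ha h0 h2 h4]; exact h1.col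
  · exact ⟨l, h.flm h1 ha h0 h4.ln h5, h4⟩

theorem fix (h : Sq F T W₁ W₂) (h1 : Col W₁ W₂ p' p) : Cc T p ≤ 𝒩(p') := by
  obtain ⟨l, h2, h3⟩ := h1
  exact (h.fl h3).Cc_le_l.trans (h.le_n h2)

/-- The quadrangle axiom. -/
theorem gq (h : Sq F T W₁ W₂) (h1 : Pt W₁ p) (h2 : Pt W₂ l) :
    ∃ x, Col W₁ W₂ p x ∧ Fl W₁ W₂ x l := by
  obtain ⟨a, ha, a0⟩ := h.ex h1
  obtain ⟨b, hb, b0⟩ := h.symm.ex h2
  have a2 := h.sq' h1 ha.1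
  have b2 := h.symm.sq' h2 hb.1
  rcases Nat.even_or_odd (orderOf (a * b)) with e | e
  swap
  · obtain ⟨g, rfl⟩ := isConj_iff.1 (isConj_of_odd a2 b2 e)
    have h3 : g * b * g⁻¹ ∈ Cc T (cj g l) := cj_Cc h.sc g l ▸ conj_mem_cj hb
    exact (a0 ((h.fl (h.flm h1 ha a0 (h2.cjj g) h3.1)).cc ha h3)).elim
  obtain ⟨k, -, z2, za, zb⟩ := exists_central_involution a2 b2 e
  generalize (a * b) ^ k = z at z2 za zb
  have ca : a ∈ 𝒞[z] := mem_centralizer_singleton_iff.2 za.symm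
  have cb : b ∈ 𝒞[z] := mem_centralizer_singleton_iff.2 zb.symm
  obtain ⟨z2, z0⟩ := orderOf_eq_two_iff.1 z2
  obtain ⟨p₀, l₀, hf, z3, z4⟩ : ∃ p₀ l₀, Fl W₁ W₂ p₀ l₀ ∧ z ∈ p₀ ∧ z ∈ l₀ := by
    obtain ⟨y, -, hy⟩ := h.syl.exists_conj_mem (mem_top z) (k := 1) (by rw [pow_one, pow_two, z2])
    obtain ⟨y', hy'⟩ : ∃ y', y' * (y * z * y⁻¹) * y'⁻¹ ∈ W₁ ⊓ W₂ := by
      rcases h.inv hy (conj_mul_self z2 y) with h3 | h3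
      · exact (h.exc h3).imp fun _ e => e.2
      · exact (h.symm.exc h3).imp fun _ e => ⟨e.2.2, e.2.1⟩
    exact ⟨_, _, Fl.rfl.cjj (y' * y)⁻¹, mem_cj.2 (by simpa [mul_assoc] using hy'.1),
      mem_cj.2 (by simpa [mul_assoc] using hy'.2)⟩
  have k := h.fl hf
  by_cases h3 : z ∈ Cc T l₀
  · have h4 := h.symm.cenC hf.ln h3 z0
    obtain ⟨x, h5, h6⟩ := h.symm.col_of_n h2 hb b0 hf.ln (h4 cb)
    exact ⟨x, ⟨l₀, h.fl_of_n h1 ha a0 hf.ln (h4 ca), h6.symm⟩, h5.symm⟩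
  · have h4 := k.cen z3 z4 h3
    exact ⟨p₀, h.col_of_n h1 ha a0 hf.pt (h4 ca), (h.symm.fl_of_n h2 hb b0 hf.pt (h4 cb)).symm⟩

theorem stab (h : Sq F T W₁ W₂) (h1 : Fl W₁ W₂ p l) (h2 : Fl W₁ W₂ p' l) (hne : p ≠ p')
    (hv : v ∈ p) (h3 : v ∈ 𝒩(p')) : v ∈ l := by
  by_contra h4
  have k := h.fl h2
  obtain ⟨a, ha, a0⟩ := h.ex h1.pt
  have h5 : v ∈ p' ⊔ l := k.syl.le_of_normalizes (isPGroup_zpowers (k := 1)
    (by rw [pow_one, pow_two, h.sq' h1.pt hv])) le_top (zpowers_le.2 (cj_eq_self_iff.1 (by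
      rw [cj_sup, cj_eq_self_iff.2 h3, cj_eq_self_iff.2 (h.symm.le_n h1.symm hv)])))
    (mem_zpowers v)
  exact hne (h.eqm h1.pt ha a0 h2.pt
    (k.cent_of h5 h4 ((h.fl h1).Cc_le_l ha) (h.comm' h1.pt hv ha.1))).symm

theorem digon (h : Sq F T W₁ W₂) (h1 : Fl W₁ W₂ p l) (h2 : Fl W₁ W₂ p' l) (hne : p ≠ p')
    (h3 : Fl W₁ W₂ p l') (h4 : Fl W₁ W₂ p' l') : l = l' := by
  obtain ⟨b, hb, b0⟩ := h.symm.ex h3.ln
  exact h.symm.eqm h3.ln hb b0 h1.ln (h.stab h1 h2 hne ((h.symm.fl h3.symm).Cc_le_l hb)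
    (le_normalizer ((h.symm.fl h4.symm).Cc_le_l hb)))

theorem tri (h : Sq F T W₁ W₂) (h1 : Fl W₁ W₂ p l) (h2 : Fl W₁ W₂ p' l) (hne : p ≠ p')
    (h3 : Col W₁ W₂ p x) (h4 : Col W₁ W₂ p' x) : Fl W₁ W₂ x l := by
  obtain ⟨a, ha, a0⟩ := h.ex h3.symm.pt
  exact h.fl_of_n h3.symm.pt ha a0 h1.ln (cj_eq_self_iff.1
    (h.digon (h1.cjr (h.fix h3 ha)) (h2.cjr (h.fix h4 ha)) hne h1 h2))

end Sq

end Cfsg.Agent.C2.Sp
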