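import Cfsg.Agent.Lib.C2.Sb

/-!
# S1170, part C2: the action of `W₁` on the quadrangle
-/

set_option autoImplicit false
set_option linter.unusedSectionVars false
set_option linter.unusedVariables false

namespace Cfsg.Agent.C2.Sp

open Subgroup Cfsg.Agent.H6 Cfsg.Agent.FT Cfsg.Agent.BD.P1 Cfsg.Agent.G75 Cfsg.Agent.G74
open scoped commutatorElement MatrixGroups Matrix

variable {G : Type*} [Group G] [Finite G] {T : Set G}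
variable {A W₁ W₂ p p' p'' l l' l'' m m' n o o' x : Subgroup G}
variable {a b g u v w y z : G}
variable {F : Type} [Field F] [Fintype F] [CharP F 2] {φ₁ φ₂ : G → SL(2, F)}
  {ψ₁ ψ₂ : G → Fin 2 → F}

theorem exX (h : R4 F T A p l φ₁ φ₂ ψ₁ ψ₂) (h1 : Fl p l p' l) : ∃ y ∈ XX T l, p' = cj y p := by
  obtain ⟨g, rfl, e⟩ := h1
  have hg : g ∈ 𝒩(l) := cj_eq_self_iff.1 e.symm
  obtain ⟨y, hy, k, hk, rfl⟩ := NormalIn.exists_mul_of_mem_sup (K := XX T l) (M := 𝒩(l) ⊓ 𝒩(A))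
    (inf_le_left.trans (norm_XX h.sc)) (h.toSA.frattini h.n2.le ⟨XX_le, norm_XX h.sc⟩ hg)
  exact ⟨y, hy, by rw [← cj_cj, cj_eq_self_iff.2 (h.m1 hk.2)]⟩

theorem act1 (h : R4 F T A p l φ₁ φ₂ ψ₁ ψ₂) (hy : y ∈ XX T l) (h1 : a ∈ p) (h2 : a ∈ l) :
    ψ₂ (y * a * y⁻¹) 1 = φ₂ y 1 0 * ψ₂ a 0 := by
  rw [h.n2.act y hy a h2]
  simp [Matrix.mulVec, dotProduct, (h.toR2.symm.mem_U h2).1 h1]

theorem cj_eq_iff (h : R4 F T A p l φ₁ φ₂ ψ₁ ψ₂) (k : Sq F T p l) (hy : y ∈ XX T l) :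
    cj y p = p ↔ φ₂ y 1 0 = 0 := by
  obtain ⟨a, ha, a0⟩ := k.ex0
  have h2 := k.Cc_le_l ha
  have h3 := conj_mem_of_mem_normalizer (h.n2.norm hy) h2
  have h4 := h.toR2.symm.mem_U h3
  rw [act1 h hy ha.1 h2] at h4
  constructor
  · intro e
    refine (mul_eq_zero.1 (h4.1 (e ▸ conj_mem_cj ha.1))).resolve_right fun e' => a0 ?_
    refine k.cc ha ⟨h2, (h.n2.ψ_ker a h2).1 ?_⟩
    ext i
    fin_cases i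
    · exact e'
    · exact (h.toR2.symm.mem_U h2).1 ha.1
  · intro e
    refine (k.eqm (Pt.rfl.cjj y) (cj_Cc h.sc y p ▸ conj_mem_cj ha) (by simpa using a0) Pt.rfl
      (h4.2 (by rw [e, zero_mul]))).symm

theorem exv (h : R4 F T A p l φ₁ φ₂ ψ₁ ψ₂) (r : F) : ∃ v ∈ p, (φ₂ v).1 = !![1, r; 0, 1] := by
  obtain ⟨a, ha, e⟩ := h.n2.A_surj r
  have h1 := h.toR2.le1
  have h2 := h.toR2.symm.le1
  obtain ⟨v, hv, w, hw, rfl⟩ := NormalIn.exists_mul_of_mem_sup (K := p) (M := l)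
    (h2.trans h.toR2.norm1) (h.sup.symm ▸ ha)
  rw [h.n2.φ_add (h1 hv) (h2 hw), (h.toR2.symm.mem_W (h2 hw)).1 hw, add_zero] at e
  obtain ⟨e1, e2, e3⟩ := h.n2.φ_A v (h1 hv)
  refine ⟨v, hv, ?_⟩
  ext i j
  fin_cases i <;> fin_cases j <;> simpa

namespace Sq

theorem tr (h : Sq F T W₁ W₂) (h1 : Fl W₁ W₂ p l) (h2 : Fl W₁ W₂ p' l) (h3 : Fl W₁ W₂ p'' l)
    (n2 : p' ≠ p) (n3 : p'' ≠ p) : ∃ v ∈ p, cj v p' = p'' := by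
  have k := h.fl h1
  obtain ⟨A, φ₁, φ₂, ψ₁, ψ₂, k', -⟩ := id k
  obtain ⟨y, hy, rfl⟩ := exX k' (h1.rel h2)
  obtain ⟨z, hz, rfl⟩ := exX k' (h1.rel h3)
  rw [Ne, cj_eq_iff k' k hy] at n2
  rw [Ne, cj_eq_iff k' k hz] at n3
  obtain ⟨v, hv, e⟩ := exv k' ((φ₂ z 0 0 * φ₂ y 1 0 - φ₂ z 1 0 * φ₂ y 0 0) / (φ₂ z 1 0 * φ₂ y 1 0))
  have hv' := k'.n2.le (k'.toR2.le1 hv)
  have := (cj_eq_iff k' k (mul_mem (inv_mem hz) (mul_mem hv' hy))).2 (by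
    rw [k'.n2.φ_mul _ (inv_mem hz) _ (mul_mem hv' hy), k'.n2.φ_mul _ hv' _ hy, k'.n2.φ_inv hz]
    simp only [Matrix.SpecialLinearGroup.coe_mul, Matrix.SpecialLinearGroup.coe_inv,
      Matrix.adjugate_fin_two, Matrix.mul_apply, Fin.sum_univ_two, e]
    simp
    field_simp
    ring)
  exact ⟨v, hv, by rw [cj_cj, ← cj_cj_inv z (cj (v * y) p), cj_cj z⁻¹, this]⟩

theorem dec (h : Sq F T W₁ W₂) (h1 : Fl W₁ W₂ p l) (h2 : Fl W₁ W₂ p' l) (n2 : p' ≠ p)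
    (hu : u ∈ l) : ∃ a ∈ p ⊓ l, ∃ b ∈ p' ⊓ l, u = a * b := by
  have k := h.fl h1
  obtain ⟨A, φ₁, φ₂, ψ₁, ψ₂, k', -⟩ := id k
  obtain ⟨y, hy, rfl⟩ := exX k' (h1.rel h2)
  rw [Ne, cj_eq_iff k' k hy] at n2
  obtain ⟨c, hc, e⟩ := k'.n2.ψ_surj ![ψ₂ u 1 / φ₂ y 1 0, 0]
  have h3 : c ∈ p := (k'.toR2.symm.mem_U hc).2 (by simp [e])
  have h4 := conj_mem_of_mem_normalizer (k'.n2.norm hy) hc
  have h5 := mul_mem hu (inv_mem h4)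
  refine ⟨_, ⟨(k'.toR2.symm.mem_U h5).2 ?_, h5⟩, _, ⟨conj_mem_cj h3, h4⟩,
    (inv_mul_cancel_right _ _).symm⟩
  rw [k'.n2.ψ_mul _ hu _ (inv_mem h4), k'.n2.ψ_inv h4, Pi.add_apply, act1 k' hy h3 hc, e]
  simp only [Matrix.cons_val_zero]
  rw [mul_div_cancel₀ _ n2, CharTwo.add_self_eq_zero]

theorem exp (h : Sq F T W₁ W₂) (h1 : Fl W₁ W₂ p l) : ∃ p', Fl W₁ W₂ p' l ∧ p' ≠ p := by
  have k := h.fl h1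
  obtain ⟨A, φ₁, φ₂, ψ₁, ψ₂, k', -⟩ := id k
  obtain ⟨y, hy, e⟩ := k'.n2.φ_surj ⟨!![1, 0; 1, 1], by simp⟩
  exact ⟨_, h1.cjl (XX_le hy), by rw [Ne, cj_eq_iff k' k hy, e]; simp⟩

theorem exl (h : Sq F T W₁ W₂) (h1 : Fl W₁ W₂ p l) : ∃ l', Fl W₁ W₂ p l' ∧ l' ≠ l := by
  obtain ⟨l', h2, h3⟩ := h.symm.exp h1.symm
  exact ⟨l', h2.symm, h3⟩

theorem opp (h : Sq F T W₁ W₂) : ∃ o, Pt W₁ o ∧ ¬ Col W₁ W₂ W₁ o := by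
  obtain ⟨x, h1, n1⟩ := h.exp Fl.rfl
  obtain ⟨n, h2, n2⟩ := h.exl h1
  obtain ⟨o, h3, n3⟩ := h.exp h2
  exact ⟨o, h3.pt, fun e => n2 (h.digon h2 (h.tri h2 h3 n3.symm ⟨_, h1, Fl.rfl⟩ e.symm) n1 h1
    Fl.rfl)⟩

theorem sep (h : Sq F T W₁ W₂) (h1 : Pt W₁ p) (h2 : ∀ r, Pt W₁ r → Col W₁ W₂ p r → Col W₁ W₂ p' r) :
    p = p' := by
  by_contra hne
  obtain ⟨l, h3, h4⟩ := h2 p h1 h1.col
  obtain ⟨n, h5, n2⟩ := h.exl h4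
  obtain ⟨y, h6, n3⟩ := h.exp h5
  exact n2 (h.digon h5 (h.tri h5 h6 n3.symm ⟨_, h4, h3⟩ (h2 y h6.pt ⟨n, h5, h6⟩).symm) hne h4 h3)

/-! ### The points opposite to `W₁` -/

theorem proj (h : Sq F T W₁ W₂) (ho : Pt W₁ o) (h0 : ¬ Col W₁ W₂ W₁ o) (hm : Fl W₁ W₂ W₁ m) :
    ∃ x n, Fl W₁ W₂ x m ∧ Fl W₁ W₂ x n ∧ Fl W₁ W₂ o n ∧ x ≠ W₁ ∧ x ≠ o ∧ n ≠ m := by
  obtain ⟨x, ⟨n, h1, h2⟩, h3⟩ := h.gq ho hm.ln
  exact ⟨x, n, h3, h2, h1, by rintro rfl; exact h0 ⟨n, h2, h1⟩,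
    by rintro rfl; exact h0 ⟨m, hm, h3⟩, by rintro rfl; exact h0 ⟨n, hm, h1⟩⟩

theorem col2 (h : Sq F T W₁ W₂) (h0 : ¬ Col W₁ W₂ W₁ o) (hm : Fl W₁ W₂ W₁ m)
    (hx : Fl W₁ W₂ x m) (h1 : Col W₁ W₂ x o) (hv : v ∈ W₁) : Col W₁ W₂ (cj v x) o ↔ v ∈ m := by
  refine ⟨fun e => ?_, fun e => by rwa [cj_eq_self_iff.2 (h.le_n hx e)]⟩
  refine h.stab hm hx (by rintro rfl; exact h0 h1) hv (cj_eq_self_iff.1 ?_)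
  by_contra hne
  exact h0 ⟨m, hm, h.tri (hx.cjl (h.symm.le_n hm.symm hv)) hx hne e h1⟩

theorem col3 (h : Sq F T W₁ W₂) (hm : Fl W₁ W₂ W₁ m) (hm' : Fl W₁ W₂ W₁ m') (h1 : Fl W₁ W₂ p m)
    (h2 : Fl W₁ W₂ p' m') (n1 : p ≠ W₁) (n2 : p' ≠ W₁) : Col W₁ W₂ p p' ↔ m = m' := by
  refine ⟨fun e => ?_, fun e => ⟨m, h1, e ▸ h2⟩⟩
  exact h.digon hm (h.tri hm h1 n1.symm ⟨_, hm', h2⟩ e) n2.symm hm' h2

theorem free (h : Sq F T W₁ W₂) (ho : Pt W₁ o) (h0 : ¬ Col W₁ W₂ W₁ o) (hv : v ∈ W₁)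
    (h1 : cj v o = o) : v = 1 := by
  have key : ∀ m, Fl W₁ W₂ W₁ m → v ∈ m := fun m hm => by
    obtain ⟨x, n, h2, h3, h4, -⟩ := h.proj ho h0 hm
    exact (h.col2 h0 hm h2 ⟨n, h3, h4⟩ hv).1 (h1 ▸ (Col.cjj ⟨n, h3, h4⟩ v))
  by_contra v0
  obtain ⟨m, hm, hne⟩ := h.exl Fl.rfl
  refine h0 (h.col_of_n Pt.rfl ?_ v0 ho (cj_eq_self_iff.1 h1))
  by_contra h2
  exact hne (h.symm.eqn Pt.rfl hm.ln ((h.symm.comm' hm.ln (key m hm)).trans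
    (h.symm.cen (key _ Fl.rfl) hv h2)))

theorem col1 (h : Sq F T W₁ W₂) (ho : Pt W₁ o) (h0 : ¬ Col W₁ W₂ W₁ o) (hv : v ∈ W₁) :
    Col W₁ W₂ (cj v o) o ↔ ∃ m, Fl W₁ W₂ W₁ m ∧ v ∈ Cc T m := by
  constructor
  · rintro ⟨n, h1, h2⟩
    by_cases e : cj v o = o
    · exact ⟨_, Fl.rfl, h.free ho h0 hv e ▸ one_mem _⟩
    obtain ⟨x, ⟨m, hm, h3⟩, h4⟩ := h.gq Pt.rfl h2.ln
    have vW : cj v W₁ = W₁ := cj_eq_self_of_mem hv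
    have h0' : ¬ Col W₁ W₂ W₁ (cj v o) := fun e => h0 ((col_cj (g := v)).1 (by rwa [vW]))
    have nx : x ≠ W₁ := by rintro rfl; exact h0 ⟨n, h4, h2⟩
    have vx : cj v x = x := by
      by_contra hne
      exact h0' ⟨m, hm, h.tri (h3.cjl (h.symm.le_n hm.symm hv)) h3 hne (Col.cjj ⟨n, h4, h2⟩ v)
        ⟨n, h4, h1⟩⟩
    have vn : cj v n = n := h.digon (vx ▸ h4.cjj v) (h2.cjj v)
      (by rintro rfl; exact h0' ⟨m, hm, h3⟩) h4 h1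
    have vm : v ∈ m := h.stab hm h3 nx.symm hv (cj_eq_self_iff.1 vx)
    have vx' : v ∈ x := h.symm.stab h3.symm h4.symm (by rintro rfl; exact h0 ⟨m, hm, h2⟩) vm
      (cj_eq_self_iff.1 vn)
    refine ⟨m, hm, ?_⟩
    by_contra h5
    exact nx (h.eqn Pt.rfl h3.pt ((h.comm' h3.pt vx').trans ((h.fl hm).cen hv vm h5)))
  · rintro ⟨m, hm, h1⟩
    obtain ⟨x, n, h2, h3, h4, -⟩ := h.proj ho h0 hm
    exact ⟨n, h4.cjl (h.symm.fix ⟨x, h3.symm, h2.symm⟩ h1), h4⟩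

theorem reg (h : Sq F T W₁ W₂) (ho : Pt W₁ o) (h0 : ¬ Col W₁ W₂ W₁ o) (ho' : Pt W₁ o')
    (h0' : ¬ Col W₁ W₂ W₁ o') : ∃ v ∈ W₁, o' = cj v o := by
  obtain ⟨x, n, h1, h2, h3, n1, n2, n3⟩ := h.proj ho h0 Fl.rfl
  obtain ⟨x', n', h1', h2', h3', n1', n2', n3'⟩ := h.proj ho' h0' Fl.rfl
  obtain ⟨v, hv, rfl⟩ := h.tr Fl.rfl h1 h1' n1 n1'
  have v2 : cj v W₂ = W₂ := cj_eq_self_iff.2 (h.symm.le_n Fl.rfl hv)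
  obtain ⟨u, hu, rfl⟩ := h.symm.tr h1'.symm (h2.cjj v).symm h2'.symm
    (fun e => n3 (cj_injective v (e.trans v2.symm))) n3'
  obtain ⟨a, ha, b, hb, rfl⟩ := h.dec Fl.rfl h1' n1' hu
  rw [← cj_cj, cj_eq_self_iff.2 (h.symm.le_n (h2.cjj v).symm hb.1)] at h2' h3'
  have ax : cj a (cj v x) = cj v x := cj_eq_self_iff.2 (h.le_n h1' ha.2)
  have h4 := (h3.cjj v).cjj a
  obtain ⟨y, hy, rfl⟩ := h.tr h2' h4 h3'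
    (fun e => n2 (cj_injective v (cj_injective a (ax.trans e.symm)))) n2'.symm
  have n4 : cj a (cj v n) ≠ W₂ := fun e => n3 (cj_injective v (cj_injective a
    (e.trans (by rw [v2, cj_eq_self_of_mem ha.2]))))
  obtain ⟨c, hc, d, hd, rfl⟩ := h.symm.dec h1'.symm h2'.symm n4 hy
  obtain ⟨c1, hc1, c2, hc2, rfl⟩ := (h.symm.fl h1'.symm).dec0 hc.1 hc.2
  refine ⟨c1 * a * v, mul_mem (mul_mem (h.symm.Cc_le_l hc1) ha.1) hv, ?_⟩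
  rw [mul_assoc c1, ← cj_cj c1, cj_eq_self_iff.2 (h.le_n h4
    (mul_mem ((h.fl h2').Cc_le_l hc2) hd.1)), cj_cj, cj_cj]

end Sq

end Cfsg.Agent.C2.Sp
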