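import Cfsg.Agent.Lib.C2.Sc
import Cfsg.Agent.Lib.C2.Sa

/-!
# S1170, part C2: coordinates
-/

set_option autoImplicit false
set_option linter.unusedSectionVars false
set_option linter.unusedVariables false

namespace Cfsg.Agent.C2.Sp

open Subgroup Cfsg.Agent.H6 Cfsg.Agent.FT Cfsg.Agent.BD.P1 Cfsg.Agent.G75 Cfsg.Agent.G74
open scoped commutatorElement MatrixGroups Matrix

variable {G : Type*} [Group G] [Finite G] {T : Set G}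
variable {A W₁ W₂ p p' p'' l l' l'' m m' n o o' x : Subgroup G}
variable {a b g u v w y z : G}
variable {F : Type} [Field F] [Fintype F] [CharP F 2] {φ₁ φ₂ : G → SL(2, F)}
  {ψ₁ ψ₂ : G → Fin 2 → F} {α β α' β' : F}

theorem psi_inj (h : R4 F T A W₁ W₂ φ₁ φ₂ ψ₁ ψ₂) (k : Sq F T W₁ W₂) (hm : Fl W₁ W₂ W₁ m)
    (ha : a ∈ Cc T m) (hb : b ∈ Cc T m) (e : ψ₁ a = ψ₁ b) : a = b := by
  have h1 := (k.symm.fl hm.symm).Cc_le_l ha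
  have h2 := (k.symm.fl hm.symm).Cc_le_l hb
  have h3 := mul_mem h1 (inv_mem h2)
  rw [← mul_inv_eq_one]
  refine (k.fl hm).cc ⟨h3, (h.n1.ψ_ker _ h3).1 ?_⟩ (mul_mem ha (inv_mem hb))
  rw [h.n1.ψ_mul _ h1 _ (inv_mem h2), h.n1.ψ_inv h2, e]
  ext i
  exact CharTwo.add_self_eq_zero _

theorem exists_kappa (h : R4 F T A W₁ W₂ φ₁ φ₂ ψ₁ ψ₂) (hC : Cc T W₁ ⊔ Cc T W₂ = W₁ ⊓ W₂) :
    ∃ κ : G → F, (∀ v ∈ W₁, ∀ w ∈ W₁,
      κ (v * w) = κ v + κ w + ψ₁ v 0 * ψ₁ w 1 + ψ₁ v 1 * ψ₁ w 0) ∧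
      (∀ c s t, ∃ v ∈ W₁, κ v = c ∧ ψ₁ v = ![s, t]) ∧
      ∀ v ∈ W₁, (∃ m, Fl W₁ W₂ W₁ m ∧ v ∈ Cc T m) ↔ κ v = 0 := by
  have k : Sq F T W₁ W₂ := ⟨_, _, _, _, _, h, hC⟩
  have h2 : (2 : F) = 0 := CharTwo.two_eq_zero
  obtain ⟨f, f1, f2, f3, f4⟩ := h.toR2.sp hC
  have fC : ∀ s, f s ∈ Cc T W₁ := fun s => (f3 _).2 ⟨s, rfl⟩
  have fW : ∀ s, f s ∈ W₁ := fun s => (fC s).1
  have fψ : ∀ s, ψ₁ (f s) = 0 := fun s => (h.n1.ψ_ker _ (fW s)).2 (fC s).2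
  have f0 : f 0 = 1 := by simpa using f1 0 0
  have fi : ∀ s t, f s = f t → s = t := fun s t e => by
    have := f2 (s + t) (by rw [f1, e, k.sq (fW t)])
    linear_combination this - t * h2
  have cm : ∀ a ∈ W₁, ∀ b ∈ W₁, Commute a b := fun a ha b hb =>
    mem_centralizer_singleton_iff.1 (k.comm hb ha)
  have hσ : ∀ s : F, ∃ b ∈ Cc T W₂, ψ₁ b = ![s, 0] := fun s => by
    obtain ⟨v, hv, e⟩ := h.n1.ψ_surj ![s, 0]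
    obtain ⟨a, ha, b, hb, rfl⟩ := k.dec0 hv ((h.toR2.mem_U hv).2 (by simp [e]))
    rw [h.n1.ψ_mul _ ha.1 _ (k.symm.Cc_le_l hb), (h.n1.ψ_ker _ ha.1).2 ha.2, zero_add] at e
    exact ⟨b, hb, e⟩
  choose σ σC σψ using hσ
  have σW : ∀ s, σ s ∈ W₁ := fun s => k.symm.Cc_le_l (σC s)
  have σe : ∀ b ∈ Cc T W₂, b = σ (ψ₁ b 0) := fun b hb => psi_inj h k Fl.rfl hb (σC _) (by
    rw [σψ]
    ext i
    fin_cases i
    · rfl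
    · exact (h.toR2.mem_U (k.symm.Cc_le_l hb)).1 hb.1)
  have σm : ∀ s t, σ (s + t) = σ s * σ t := fun s t => by
    rw [σe _ (mul_mem (σC s) (σC t)), h.n1.ψ_mul _ (σW s) _ (σW t), σψ, σψ]; rfl
  obtain ⟨y, hy, ey⟩ := h.n1.φ_surj ⟨!![0, -1; 1, 0], by simp⟩
  have hm : Fl W₁ W₂ W₁ (cj y W₂) := Fl.rfl.cjr (XX_le hy)
  have hne : cj y W₂ ≠ W₂ := by rw [Ne, cj_eq_iff h.symm k.symm hy, ey]; simp
  obtain ⟨τ, eτ⟩ : ∃ τ : F → G, ∀ t, τ t = y * σ t * y⁻¹ := ⟨_, fun _ => rfl⟩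
  have τC : ∀ t, τ t ∈ Cc T (cj y W₂) := fun t => by
    rw [eτ, ← cj_Cc h.sc]; exact conj_mem_cj (σC t)
  have τW : ∀ t, τ t ∈ W₁ := fun t => (k.symm.fl hm.symm).Cc_le_l (τC t)
  have τψ : ∀ t, ψ₁ (τ t) = ![0, t] := fun t => by
    rw [eτ, h.n1.act y hy _ (σW t), σψ, ey]
    ext i
    fin_cases i <;> simp [Matrix.mulVec, dotProduct]
  have τm : ∀ s t, τ (s + t) = τ s * τ t := fun s t => by rw [eτ, eτ, eτ, σm]; group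
  obtain ⟨ω, eω⟩ : ∃ ω : F → F → F → G, ∀ c s t, ω c s t = σ s * τ t * f (c + s * t) :=
    ⟨_, fun _ _ _ => rfl⟩
  have ωW : ∀ c s t, ω c s t ∈ W₁ := fun c s t => by
    rw [eω]; exact mul_mem (mul_mem (σW s) (τW t)) (fW _)
  have stψ : ∀ s t, ψ₁ (σ s * τ t) = ![s, t] := fun s t => by
    rw [h.n1.ψ_mul _ (σW s) _ (τW t), σψ, τψ]; simp
  have ωψ : ∀ c s t, ψ₁ (ω c s t) = ![s, t] := fun c s t => by
    rw [eω, h.n1.ψ_mul _ (mul_mem (σW s) (τW t)) _ (fW _), fψ, stψ, add_zero]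
  have ωi : ∀ c c' s t, ω c s t = ω c' s t → c = c' := fun c c' s t e => by
    rw [eω, eω, mul_right_inj] at e
    exact add_right_cancel (fi _ _ e)
  have ωs : ∀ v, ∃ c, v ∈ W₁ → v = ω c (ψ₁ v 0) (ψ₁ v 1) := fun v => by
    by_cases hv : v ∈ W₁
    swap
    · exact ⟨0, fun e => (hv e).elim⟩
    have h3 := mul_mem (σW (ψ₁ v 0)) (τW (ψ₁ v 1))
    have h4 := mul_mem (inv_mem h3) hv
    obtain ⟨r, hr⟩ := (f3 _).1 ⟨h4, (h.n1.ψ_ker _ h4).1 (by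
      rw [h.n1.ψ_mul _ (inv_mem h3) _ hv, h.n1.ψ_inv h3, stψ]
      ext i
      fin_cases i <;> exact CharTwo.add_self_eq_zero _)⟩
    refine ⟨r + ψ₁ v 0 * ψ₁ v 1, fun _ => ?_⟩
    rw [eω, add_assoc, CharTwo.add_self_eq_zero, add_zero, hr, mul_inv_cancel_left]
  choose κ hκ using ωs
  have κω : ∀ c s t, κ (ω c s t) = c := fun c s t => by
    have := hκ _ (ωW c s t)
    rw [ωψ] at this
    exact (ωi _ _ _ _ this).symm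
  have K : ∀ a ∈ A, ∀ t, a * τ t * a⁻¹ = ω 0 (φ₁ a 0 1 * t) t := fun a ha t => by
    have h3 := f4 a ha _ (τW t)
    have h4 : a * τ t * a⁻¹ * (τ t)⁻¹ ∈ W₁ :=
      mul_mem (conj_mem_of_mem_normalizer (h.toR2.norm1 ha) (τW t)) (inv_mem (τW t))
    have h5 := σe _ h3
    rw [h.n1.ψ_mul _ (inv_mem (fW _)) _ h4, h.n1.ψ_inv (fW _), fψ, zero_add,
      h.n1.ψ_comm ha (τW t), τψ, inv_mul_eq_iff_eq_mul, mul_inv_eq_iff_eq_mul] at h5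
    rw [h5, eω, mul_assoc, (cm _ (fW _) _ (mul_mem (σW _) (τW t))).eq]
    simp [pow_two, mul_assoc]
  refine ⟨κ, fun v hv w hw => ?_, fun c s t => ⟨_, ωW c s t, κω c s t, ωψ c s t⟩, fun v hv => ?_⟩
  · have : v * w = ω (κ v + κ w + ψ₁ v 0 * ψ₁ w 1 + ψ₁ v 1 * ψ₁ w 0) (ψ₁ v 0 + ψ₁ w 0)
        (ψ₁ v 1 + ψ₁ w 1) := by
      conv_lhs => rw [hκ v hv, hκ w hw]
      rw [eω, eω, eω, σm, τm, (cm _ (fW _) _ (mul_mem (σW _) (τW _))).mul_mul_mul_comm,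
        (cm _ (τW _) _ (σW _)).mul_mul_mul_comm, ← f1]
      congr 2
      linear_combination (-(ψ₁ v 0 * ψ₁ w 1 + ψ₁ v 1 * ψ₁ w 0)) * h2
    rw [this, κω]
  have τ0 : τ 0 = 1 := by simpa using τm 0 0
  have ω0 : ∀ s, ω 0 s 0 = σ s := fun s => by simp [eω, τ0, f0]
  constructor
  · rintro ⟨m, h3, h4⟩
    by_cases e : m = W₂
    · subst e
      rw [σe v h4, ← ω0, κω]
    · obtain ⟨a, ha, rfl⟩ := k.symm.tr Fl.rfl hm.symm h3.symm hne e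
      rw [← cj_Cc h.sc, ← cj_Cc h.sc] at h4
      obtain ⟨_, ⟨b, hb, rfl⟩, rfl⟩ := h4
      change κ (a * (y * b * y⁻¹) * a⁻¹) = 0
      rw [σe b hb, ← eτ, K a (h.toR2.symm.le1 ha), κω]
  · intro e
    have h3 := hκ v hv
    rw [e] at h3
    by_cases h4 : ψ₁ v 1 = 0
    · exact ⟨_, Fl.rfl, by rw [h3, h4, ω0]; exact σC _⟩
    · obtain ⟨a, ha, ea⟩ := h.n1.A_surj (ψ₁ v 0 / ψ₁ v 1)
      have h5 := K a ha (ψ₁ v 1)
      rw [ea, div_mul_cancel₀ _ h4, ← h3] at h5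
      exact ⟨_, hm.cjr (h.toR2.norm1 ha), by
        rw [← h5, ← cj_Cc h.sc]; exact conj_mem_cj (τC _)⟩

/-- The equation of a line through `W₁`. -/
def Ln (W₁ : Subgroup G) (ψ : G → Fin 2 → F) (m : Subgroup G) (α β : F) : Prop :=
  ¬ (α = 0 ∧ β = 0) ∧ ∀ v ∈ W₁, v ∈ m ↔ α * ψ v 1 + β * ψ v 0 = 0

theorem ln_cj (h : R4 F T A W₁ W₂ φ₁ φ₂ ψ₁ ψ₂) (hy : y ∈ XX T W₁) :
    Ln W₁ ψ₁ (cj y W₂) (φ₁ y 0 0) (φ₁ y 1 0) := by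
  refine ⟨fun e => ?_, fun v hv => ?_⟩
  · have := (φ₁ y).2
    rw [Matrix.det_fin_two] at this
    simp [e.1, e.2] at this
  · have h1 := h.n1.act _ (inv_mem hy) v hv
    rw [inv_inv] at h1
    rw [mem_cj, h.toR2.mem_U (conj_mem_of_mem_normalizer' (h.n1.norm hy) hv), h1, h.n1.φ_inv hy]
    simp [Matrix.adjugate_fin_two, Matrix.mulVec, dotProduct, CharTwo.neg_eq, add_comm]

theorem exists_ln (h : R4 F T A W₁ W₂ φ₁ φ₂ ψ₁ ψ₂) (hm : Fl W₁ W₂ W₁ m) :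
    ∃ α β, Ln W₁ ψ₁ m α β := by
  obtain ⟨y, hy, rfl⟩ := exX h.symm hm.symm
  exact ⟨_, _, ln_cj h hy⟩

theorem exists_ln' (h : R4 F T A W₁ W₂ φ₁ φ₂ ψ₁ ψ₂) (h0 : ¬ (α = 0 ∧ β = 0)) :
    ∃ m, Fl W₁ W₂ W₁ m ∧ Ln W₁ ψ₁ m α β := by
  obtain ⟨M, e1, e2⟩ : ∃ M : SL(2, F), M 0 0 = α ∧ M 1 0 = β := by
    by_cases e : α = 0
    · have : β ≠ 0 := fun e' => h0 ⟨e, e'⟩
      exact ⟨⟨!![α, -β⁻¹; β, 0], by simp [this]⟩, rfl, rfl⟩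
    · exact ⟨⟨!![α, 0; β, α⁻¹], by simp [e]⟩, rfl, rfl⟩
  obtain ⟨y, hy, rfl⟩ := h.n1.φ_surj M
  exact ⟨_, Fl.rfl.cjr (XX_le hy), e1 ▸ e2 ▸ ln_cj h hy⟩

theorem ln_eq (h : R4 F T A W₁ W₂ φ₁ φ₂ ψ₁ ψ₂) (k : Sq F T W₁ W₂) (hm : Fl W₁ W₂ W₁ m)
    (hm' : Fl W₁ W₂ W₁ m') (h1 : Ln W₁ ψ₁ m α β) (h2 : Ln W₁ ψ₁ m' α' β') :
    m = m' ↔ β * α' - α * β' = 0 := by
  have t2 : (2 : F) = 0 := CharTwo.two_eq_zero
  constructor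
  · rintro rfl
    obtain ⟨v, hv, e⟩ := h.n1.ψ_surj ![α, β]
    have := (h2.2 v hv).1 ((h1.2 v hv).2 (by simp [e, mul_comm β, CharTwo.add_self_eq_zero]))
    simp only [e, Matrix.cons_val_zero, Matrix.cons_val_one] at this
    linear_combination this - α * β' * t2
  · intro e
    obtain ⟨b, hb, b0⟩ := k.symm.ex hm.ln
    have h3 := (k.symm.fl hm.symm).Cc_le_l hb
    have h4 := (h1.2 b h3).1 hb.1
    refine (k.symm.eqm hm.ln hb b0 hm'.ln ((h2.2 b h3).2 ?_)).symm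
    by_cases h5 : α = 0
    · refine mul_left_cancel₀ (fun e' => h1.1 ⟨h5, e'⟩ : β ≠ 0) ?_
      linear_combination β' * h4 + ψ₁ b 1 * e
    · refine mul_left_cancel₀ h5 ?_
      linear_combination α' * h4 - ψ₁ b 0 * e

/-- The vector of a point opposite to `W₁`. -/
def ev (c s d t : F) : V4 F := Sum.elim ![c, s] ![d, t]

theorem Bf_ev (c s d t c' s' d' t' : F) :
    Bf (ev c s d t) (ev c' s' d' t') = d * c' + t * s' - c * d' - s * t' := by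
  simp [Bf_eq, ev]

theorem eq_ev (x : V4 F) : x = ev (x (.inl 0)) (x (.inl 1)) (x (.inr 0)) (x (.inr 1)) := by
  ext i
  rcases i with i | i <;> fin_cases i <;> rfl

theorem ev_eq_zero {c s d t : F} (h : ev c s d t = 0) : c = 0 ∧ s = 0 ∧ d = 0 ∧ t = 0 :=
  ⟨congrFun h (.inl 0), congrFun h (.inl 1), congrFun h (.inr 0), congrFun h (.inr 1)⟩

theorem smul_ev (a c s d t : F) : a • ev c s d t = ev (a * c) (a * s) (a * d) (a * t) := by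
  ext i
  rcases i with i | i <;> fin_cases i <;> rfl

/-- The normalized vector of a point. -/
def Can (W₁ W₂ o : Subgroup G) (ψ : G → Fin 2 → F) (κ : G → F) (X : V4 F) (p : Subgroup G) :
    Prop :=
  (∃ v ∈ W₁, p = cj v o ∧ X = ev (κ v) (ψ v 0) 1 (ψ v 1)) ∨
    (∃ m x v α β, Fl W₁ W₂ W₁ m ∧ Fl W₁ W₂ x m ∧ Col W₁ W₂ x o ∧ v ∈ W₁ ∧ Ln W₁ ψ m α β ∧
      p = cj v x ∧ X = ev (α * ψ v 1 + β * ψ v 0) α 0 β) ∨ (p = W₁ ∧ X = ev 1 0 0 0)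

theorem sp4 [IsSimpleGroup G] (h : R4 F T A W₁ W₂ φ₁ φ₂ ψ₁ ψ₂)
    (hC : Cc T W₁ ⊔ Cc T W₂ = W₁ ⊓ W₂) : Nonempty (G ≃* PSp 2 F) := by
  have k : Sq F T W₁ W₂ := ⟨_, _, _, _, _, h, hC⟩
  have t2 : (2 : F) = 0 := CharTwo.two_eq_zero
  obtain ⟨κ, κ1, κ2, κ3⟩ := exists_kappa h hC
  obtain ⟨o, ho, h0⟩ := k.opp
  have mv : ∀ v ∈ W₁, ∀ w p p', Col W₁ W₂ (cj w p) (cj v p') ↔ Col W₁ W₂ (cj (v * w) p) p' :=
    fun v hv w p p' => by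
      rw [← col_cj (g := v), cj_cj, cj_cj, k.sq hv, cj_one]
  have hS : ∀ X p, Can W₁ W₂ o ψ₁ κ X p → ∀ v ∈ W₁,
      (Col W₁ W₂ p (cj v o) ↔ Bf X (ev (κ v) (ψ₁ v 0) 1 (ψ₁ v 1)) = 0) := by
    rintro X p (⟨w, hw, rfl, rfl⟩ | ⟨m, x, w, α, β, h1, h2, h3, hw, h4, rfl, rfl⟩ | ⟨rfl, rfl⟩) v hv
    · rw [mv v hv, k.col1 ho h0 (mul_mem hv hw), κ3 _ (mul_mem hv hw), κ1 v hv w hw, Bf_ev]
      simp only [CharTwo.sub_eq_add]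
      constructor <;> intro e <;> linear_combination e
    · rw [mv v hv, k.col2 h0 h1 h2 h3 (mul_mem hv hw), h4.2 _ (mul_mem hv hw),
        h.n1.ψ_mul v hv w hw, Bf_ev, Pi.add_apply, Pi.add_apply]
      simp only [CharTwo.sub_eq_add]
      constructor <;> intro e <;> linear_combination e
    · rw [Bf_ev]
      refine iff_of_false (fun e => h0 ((col_cj (g := v)).1 ?_)) (by simp)
      rwa [cj_eq_self_of_mem hv]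
  have q2 : ∀ {m x v}, Fl W₁ W₂ W₁ m → Fl W₁ W₂ x m → Col W₁ W₂ x o → v ∈ W₁ →
      Fl W₁ W₂ (cj v x) m ∧ cj v x ≠ W₁ := fun {m x v} h1 h2 h3 hv =>
    ⟨h2.cjl (k.symm.le_n h1.symm hv), fun e => h0 (by
      rwa [cj_injective v (e.trans (cj_eq_self_of_mem hv).symm)] at h3)⟩
  have q3 : ∀ X Y p p', Can W₁ W₂ o ψ₁ κ X p → Can W₁ W₂ o ψ₁ κ Y p' →
      (Col W₁ W₂ p p' ↔ Bf X Y = 0) := by
    intro X Y p p' hX hY
    rcases id hY with ⟨w', hw', rfl, rfl⟩ | hY'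
    · exact hS _ _ hX w' hw'
    rcases id hX with ⟨w, hw, rfl, rfl⟩ | hX'
    · exact (⟨Col.symm, Col.symm⟩ : _ ↔ _).trans ((hS _ _ hY w hw).trans ⟨Bf_zero, Bf_zero⟩)
    rcases hX' with ⟨m, x, w, α, β, h1, h2, h3, hw, h4, rfl, rfl⟩ | ⟨rfl, rfl⟩ <;>
      rcases hY' with ⟨m', x', w', α', β', h1', h2', h3', hw', h4', rfl, rfl⟩ | ⟨e, rfl⟩
    · rw [k.col3 h1 h1' (q2 h1 h2 h3 hw).1 (q2 h1' h2' h3' hw').1 (q2 h1 h2 h3 hw).2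
        (q2 h1' h2' h3' hw').2, ln_eq h k h1 h1' h4 h4', Bf_ev]
      simp
    · exact iff_of_true ⟨m, (q2 h1 h2 h3 hw).1, e ▸ h1⟩ (by simp [Bf_ev])
    · exact iff_of_true ⟨m', h1', (q2 h1' h2' h3' hw').1⟩ (by simp [Bf_ev])
    · exact iff_of_true (e ▸ Pt.rfl.col) (Bf_self _)
  refine Co.iso (P := {p // Pt W₁ p}) (act := fun g p => ⟨cj g p.1, p.2.cjj g⟩)
    (col := fun p p' => Col W₁ W₂ p.1 p'.1)
    (Rel := fun X p => ∃ a : F, a ≠ 0 ∧ ∃ Y, X = a • Y ∧ Can W₁ W₂ o ψ₁ κ Y p.1)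
    (C := fun p => Cc T p.1) ⟨fun g g' p => Subtype.ext (cj_cj _ _ _).symm,
      fun p => Subtype.ext (cj_one _), fun g hg => ?_, fun g p p' => col_cj, ?_, ?_, ?_, ?_,
      fun p p' e => Subtype.ext (k.sep p.2 fun r hr => (e ⟨r, hr⟩).1),
      fun p c hc p' e => Subtype.ext (cj_eq_self_iff.2 (k.fix e hc)), fun p => ?_,
      fun H hH => ?_⟩ (by have := h.four; omega)
  · have h1 : g ∈ (𝒩(W₁)).normalCore := fun b => by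
      have := congrArg Subtype.val (hg ⟨cj b⁻¹ W₁, Pt.rfl.cjj _⟩)
      refine cj_eq_self_iff.1 ?_
      rw [← cj_cj, ← cj_cj]
      exact (congrArg (cj b) this).trans (cj_cj_inv _ _)
    rcases (normalCore_normal 𝒩(W₁)).eq_bot_or_eq_top with e | e
    · exact mem_bot.1 (e ▸ h1)
    · obtain ⟨_, ⟨y, rfl, -⟩, h2⟩ := k.exp Fl.rfl
      exact (h2 (cj_eq_self_iff.2 (normalCore_le _ (e ▸ mem_top y)))).elim
  · rintro _ p ⟨a, ha, Y, rfl, hY⟩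
    refine smul_ne_zero ha fun e => ?_
    rcases hY with ⟨w, hw, -, rfl⟩ | ⟨m, x, w, α, β, -, -, -, -, h4, -, rfl⟩ | ⟨-, rfl⟩
    · exact one_ne_zero (ev_eq_zero e).2.2.1
    · exact h4.1 ⟨(ev_eq_zero e).2.1, (ev_eq_zero e).2.2.2⟩
    · exact one_ne_zero (ev_eq_zero e).1
  · rintro ⟨p, hp⟩
    suffices ∃ Y, Can W₁ W₂ o ψ₁ κ Y p from
      this.imp fun Y hY => ⟨1, one_ne_zero, Y, (one_smul _ _).symm, hY⟩
    by_cases h1 : Col W₁ W₂ W₁ p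
    · by_cases e : p = W₁
      · exact ⟨_, .inr (.inr ⟨e, rfl⟩)⟩
      obtain ⟨m, hm, h2⟩ := h1
      obtain ⟨x, n, h3, h4, h5, h6, -⟩ := k.proj ho h0 hm
      obtain ⟨v, hv, rfl⟩ := k.tr hm h3 h2 h6 e
      obtain ⟨α, β, h7⟩ := exists_ln h hm
      exact ⟨_, .inr (.inl ⟨m, x, v, α, β, hm, h3, ⟨n, h4, h5⟩, hv, h7, rfl, rfl⟩)⟩
    · obtain ⟨v, hv, rfl⟩ := k.reg ho h0 hp h1
      exact ⟨_, .inl ⟨v, hv, rfl, rfl⟩⟩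
  · intro X hX
    rw [eq_ev X] at hX ⊢
    generalize X (.inl 0) = c, X (.inl 1) = s, X (.inr 0) = d, X (.inr 1) = t at hX ⊢
    by_cases hd : d = 0
    · subst hd
      by_cases h1 : s = 0 ∧ t = 0
      · obtain ⟨rfl, rfl⟩ := h1
        exact ⟨⟨W₁, Pt.rfl⟩, c, by rintro rfl; exact hX ((eq_ev 0).symm), _, by simp [smul_ev],
          .inr (.inr ⟨rfl, rfl⟩)⟩
      obtain ⟨m, hm, h7⟩ := exists_ln' h h1
      obtain ⟨x, n, h3, h4, h5, h6, -⟩ := k.proj ho h0 hm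
      obtain ⟨v, hv, e⟩ : ∃ v ∈ W₁, s * ψ₁ v 1 + t * ψ₁ v 0 = c := by
        by_cases hs : s = 0
        · obtain ⟨v, hv, e⟩ := h.n1.ψ_surj ![c / t, 0]
          have : t ≠ 0 := fun e' => h1 ⟨hs, e'⟩
          exact ⟨v, hv, by simp [e, mul_div_cancel₀ _ this]⟩
        · obtain ⟨v, hv, e⟩ := h.n1.ψ_surj ![0, c / s]
          exact ⟨v, hv, by simp [e, mul_div_cancel₀ _ hs]⟩
      exact ⟨⟨cj v x, h3.pt.cjj v⟩, 1, one_ne_zero, _, (one_smul _ _).symm,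
        .inr (.inl ⟨m, x, v, s, t, hm, h3, ⟨n, h4, h5⟩, hv, h7, rfl, by rw [e]⟩)⟩
    · obtain ⟨v, hv, e1, e2⟩ := κ2 (c / d) (s / d) (t / d)
      exact ⟨⟨cj v o, ho.cjj v⟩, d, hd, _, by simp [smul_ev, e1, e2, mul_div_cancel₀ _ hd],
        .inl ⟨v, hv, rfl, rfl⟩⟩
  · rintro _ _ p p' ⟨a, ha, X, rfl, hX⟩ ⟨b, hb, Y, rfl, hY⟩
    simpa [ha, hb] using q3 X Y _ _ hX hY
  · obtain ⟨l, hl⟩ := p.2.fl W₂
    exact (k.fl hl).card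
  · obtain ⟨a, ha, a0⟩ := k.ex0
    rcases (normalClosure_normal (s := {a})).eq_bot_or_eq_top with e | e
    · exact (a0 (mem_bot.1 (e ▸ subset_normalClosure (Set.mem_singleton a)))).elim
    · refine eq_top_iff.2 (e ▸ (closure_le _).2 fun b hb => ?_)
      obtain ⟨_, rfl, hc⟩ := Group.mem_conjugatesOfSet_iff.1 hb
      obtain ⟨g, rfl⟩ := isConj_iff.1 hc
      exact hH ⟨cj g W₁, Pt.rfl.cjj g⟩ (cj_Cc h.sc g W₁ ▸ conj_mem_cj ha)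

end Cfsg.Agent.C2.Sp
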